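import Groth.Prelude.Def_ArtFun2
import Mathlib.RingTheory.HopkinsLevitzki
import Mathlib.RingTheory.Ideal.Quotient.Operations
import Mathlib.RingTheory.Ideal.Quotient.Noetherian
import Mathlib.RingTheory.Finiteness.Nilpotent
import Mathlib.RingTheory.Finiteness.Prod
import Mathlib.RingTheory.Noetherian.Basic

/-!
Objects of `Art Λ k` when `Λ → k` is surjective: fibre products, quotients, small extensions and
induction along them.
-/

set_option autoImplicit false

universe u v

open CategoryTheory ArtFun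

namespace Groth.Agent.ArtHull

variable {Λ : Type u} {k : Type u} [CommRing Λ] [Field k] [Algebra Λ k]

theorem res_algebraMap (A : Art Λ k) (l : Λ) : A.res (algebraMap Λ A l) = algebraMap Λ k l :=
  A.res.commutes l

theorem isNilpotent_of_res_eq_zero (A : Art Λ k) {a : A} (ha : A.res a = 0) : IsNilpotent a := by
  obtain ⟨N, hN⟩ := (isArtinianRing_iff_isNilpotent_maximalIdeal A).mp A.isArtinianRing
  refine ⟨N, ?_⟩
  have := Ideal.pow_mem_pow ((Art.mem_maximalIdeal_iff A a).mpr ha) N
  rwa [hN, Ideal.zero_eq_bot, Ideal.mem_bot] at this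

/-- The underlying `Λ`-module of an object is finite. -/
theorem finite_carrier (hk : Function.Surjective (algebraMap Λ k)) (A : Art Λ k) :
    Module.Finite Λ A := by
  obtain ⟨N, hN⟩ := (isArtinianRing_iff_isNilpotent_maximalIdeal A).mp A.isArtinianRing
  let m := IsLocalRing.maximalIdeal A
  have step : ∀ j, ((m ^ (j + 1)).restrictScalars Λ).FG → ((m ^ j).restrictScalars Λ).FG := by
    intro j hj
    obtain ⟨s, hs⟩ := IsNoetherian.noetherian (m ^ j)
    have hsm : (s : Set A) ⊆ (m ^ j : Ideal A) := hs ▸ Submodule.subset_span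
    have : (m ^ j).restrictScalars Λ =
        Submodule.span Λ (s : Set A) ⊔ (m ^ (j + 1)).restrictScalars Λ := by
      refine le_antisymm (fun x hx => ?_) (sup_le (Submodule.span_le.mpr hsm)
        fun x hx => Ideal.pow_le_pow_right (Nat.le_succ j) hx)
      rw [Submodule.restrictScalars_mem, ← hs] at hx
      induction hx using Submodule.span_induction with
      | mem y hy => exact Submodule.mem_sup_left (Submodule.subset_span hy)
      | zero => exact Submodule.zero_mem _
      | add y z _ _ hy hz => exact Submodule.add_mem _ hy hz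
      | smul b y hy ih =>
        obtain ⟨l, hl⟩ := hk (A.res b)
        rw [show b • y = l • y + (b - algebraMap Λ A l) * y by
          rw [smul_eq_mul, Algebra.smul_def]; ring]
        refine Submodule.add_mem _ (Submodule.smul_mem _ l ih) (Submodule.mem_sup_right ?_)
        rw [Submodule.restrictScalars_mem, pow_succ']
        refine Ideal.mul_mem_mul ((Art.mem_maximalIdeal_iff A _).mpr ?_) (hs ▸ hy)
        rw [map_sub, res_algebraMap, hl, sub_self]
    rw [this]
    exact (Submodule.fg_span s.finite_toSet).sup hj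
  have main : ∀ d j, j + d = N → ((m ^ j).restrictScalars Λ).FG := by
    intro d
    induction d with
    | zero =>
      intro j hj
      rw [show j = N by omega, hN]
      exact ⟨∅, by simp⟩
    | succ d ih => exact fun j hj => step j (ih (j + 1) (by omega))
  refine ⟨?_⟩
  have h0 := main N 0 (Nat.zero_add N)
  rwa [pow_zero, Ideal.one_eq_top, Submodule.restrictScalars_top] at h0

/-- A finite augmented `Λ`-algebra whose augmentation kernel is nil is an object. -/
theorem exists_art_of_finite [IsNoetherianRing Λ] (hk : Function.Surjective (algebraMap Λ k))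
    (E : Type u) [CommRing E] [Algebra Λ E] [Module.Finite Λ E] (res : E →ₐ[Λ] k)
    (hnil : ∀ e, res e = 0 → IsNilpotent e) :
    ∃ (A : Art Λ k) (i : E ≃ₐ[Λ] A), A.res.comp i.toAlgHom = res := by
  have hres : Function.Surjective res := fun c => by
    obtain ⟨l, rfl⟩ := hk c
    exact ⟨algebraMap Λ E l, res.commutes l⟩
  have : Nontrivial E := ⟨0, 1, fun h => by simpa using congrArg res h⟩
  have hloc : IsLocalRing E := by
    refine IsLocalRing.of_isUnit_or_isUnit_one_sub_self fun a => ?_
    rcases eq_or_ne (res a) 0 with h | h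
    · exact Or.inr (hnil a h).isUnit_one_sub
    · refine Or.inl ?_
      obtain ⟨b, hb⟩ := hres (res a)⁻¹
      have hab : IsNilpotent (a * b - 1) := hnil _ (by rw [map_sub, map_mul, hb, map_one, mul_inv_cancel₀ h, sub_self])
      exact isUnit_of_mul_isUnit_left (by simpa using hab.isUnit_add_one : IsUnit (a * b))
  have : IsNoetherianRing E := isNoetherianRing_iff.mpr (isNoetherian_of_tower Λ inferInstance)
  have hart : IsArtinianRing E := by
    rw [isArtinianRing_iff_isNilpotent_maximalIdeal]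
    have hmax : (RingHom.ker (res : E →+* k)).IsMaximal :=
      RingHom.ker_isMaximal_of_surjective _ hres
    rw [← IsLocalRing.eq_maximalIdeal hmax]
    exact Ideal.FG.isNilpotent_iff_le_nilradical (IsNoetherian.noetherian _) |>.mpr fun e he =>
      hnil e he
  exact ⟨Art.of E res hres, AlgEquiv.refl, rfl⟩

/-- Fibre products exist in `Art Λ k`. -/
theorem exists_fibreProd [IsNoetherianRing Λ] (hk : Function.Surjective (algebraMap Λ k))
    {A A' A'' : Art Λ k} (f' : A' ⟶ A) (f'' : A'' ⟶ A) :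
    ∃ (B : Art Λ k) (p' : B ⟶ A') (p'' : B ⟶ A''), Art.IsFibreProd p' p'' f' f'' := by
  let E : Subalgebra Λ (A' × A'') := AlgHom.equalizer
    (f'.toAlgHom.comp (AlgHom.fst Λ A' A'')) (f''.toAlgHom.comp (AlgHom.snd Λ A' A''))
  have := finite_carrier hk A'
  have := finite_carrier hk A''
  have : Module.Finite Λ E := Module.Finite.of_injective E.val.toLinearMap Subtype.val_injective
  let r : E →ₐ[Λ] k := A'.res.comp ((AlgHom.fst Λ A' A'').comp E.val)
  have hnil : ∀ e, r e = 0 → IsNilpotent e := by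
    intro e he
    have h2 : A''.res e.1.2 = 0 := by
      have := congrArg A.res (show f' e.1.1 = f'' e.1.2 from e.2)
      rw [Art.res_app, Art.res_app] at this
      exact this.symm.trans he
    obtain ⟨a, ha⟩ := isNilpotent_of_res_eq_zero A' he
    obtain ⟨b, hb⟩ := isNilpotent_of_res_eq_zero A'' h2
    exact ⟨a + b, Subtype.ext (Prod.ext (pow_eq_zero_of_le (Nat.le_add_right a b) ha)
      (pow_eq_zero_of_le (Nat.le_add_left b a) hb))⟩
  obtain ⟨B, i, hi⟩ := exists_art_of_finite hk E r hnil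
  have hres : ∀ b, r (i.symm b) = B.res b := fun b => by
    rw [← hi]; exact congrArg B.res (i.apply_symm_apply b)
  let p' : B ⟶ A' := Art.homMk (((AlgHom.fst Λ A' A'').comp E.val).comp i.symm.toAlgHom)
    (AlgHom.ext hres)
  let p'' : B ⟶ A'' := Art.homMk (((AlgHom.snd Λ A' A'').comp E.val).comp i.symm.toAlgHom)
    (AlgHom.ext fun b => by
      rw [← hres b]
      have := congrArg A.res (show f' (i.symm b).1.1 = f'' (i.symm b).1.2 from (i.symm b).2)
      rw [Art.res_app, Art.res_app] at this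
      exact this.symm)
  exact ⟨B, p', p'', ⟨Art.hom_ext (AlgHom.ext fun b => (i.symm b).2),
    fun b₁ b₂ h₁ h₂ => i.symm.injective (Subtype.ext (Prod.ext h₁ h₂)),
    fun a' a'' h => ⟨i ⟨(a', a''), h⟩, congrArg (fun e : E => e.1.1) (i.symm_apply_apply _),
      congrArg (fun e : E => e.1.2) (i.symm_apply_apply _)⟩⟩⟩

/-- A bijective morphism has an inverse. -/
theorem exists_inv_of_bijective {A B : Art Λ k} (f : A ⟶ B) (hf : Function.Bijective f) :
    ∃ g : B ⟶ A, f ≫ g = 𝟙 A ∧ g ≫ f = 𝟙 B := by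
  let e := AlgEquiv.ofBijective f.toAlgHom hf
  refine ⟨Art.homMk e.symm.toAlgHom (AlgHom.ext fun b => ?_), Art.hom_ext (AlgHom.ext e.symm_apply_apply),
    Art.hom_ext (AlgHom.ext e.apply_symm_apply)⟩
  change A.res (e.symm b) = B.res b
  conv_rhs => rw [← e.apply_symm_apply b]
  exact (Art.res_app f _).symm

/-- The quotient of an object by a proper ideal. -/
theorem exists_quot (A : Art Λ k) (L : Ideal A) (hL : L ≤ IsLocalRing.maximalIdeal A) :
    ∃ (B : Art Λ k) (p : A ⟶ B), Function.Surjective p ∧ RingHom.ker p.toAlgHom = L := by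
  have hne : L ≠ ⊤ := fun h => (IsLocalRing.maximalIdeal.isMaximal A).ne_top (top_le_iff.1 (h ▸ hL))
  have : Nontrivial (A ⧸ L) := Ideal.Quotient.nontrivial_iff.2 hne
  have : IsLocalRing (A ⧸ L) := .of_surjective' _ Ideal.Quotient.mk_surjective
  let r : (A ⧸ L) →ₐ[Λ] k :=
    Ideal.Quotient.liftₐ L A.res fun a ha => (Art.mem_maximalIdeal_iff A a).1 (hL ha)
  refine ⟨Art.of (A ⧸ L) r fun c => ?_, Art.homMk (Ideal.Quotient.mkₐ Λ L) rfl,
    Ideal.Quotient.mk_surjective, Ideal.mk_ker⟩
  obtain ⟨a, rfl⟩ := A.res_surjective c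
  exact ⟨Ideal.Quotient.mk L a, rfl⟩

/-- A surjection whose kernel is smaller factors through another. -/
theorem exists_desc {B C A : Art Λ k} (g : B ⟶ C) (hg : Function.Surjective g) (f : B ⟶ A)
    (h : RingHom.ker g.toAlgHom ≤ RingHom.ker f.toAlgHom) : ∃ t : C ⟶ A, g ≫ t = f := by
  let t₀ := AlgHom.liftOfSurjective g.toAlgHom hg f.toAlgHom fun x hx => h hx
  have ht : t₀.comp g.toAlgHom = f.toAlgHom := AlgHom.liftOfSurjective_comp ..
  refine ⟨Art.homMk t₀ (AlgHom.ext fun c => ?_), Art.hom_ext ht⟩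
  obtain ⟨b, rfl⟩ := hg c
  exact (congrArg A.res (AlgHom.congr_fun ht b)).trans
    ((Art.res_app f b).trans (Art.res_app g b).symm)

/-- Induction along small extensions. -/
theorem surjective_induction (P : ∀ {B A : Art Λ k}, (B ⟶ A) → Prop)
    (hiso : ∀ {B A : Art Λ k} (f : B ⟶ A), Function.Bijective f → P f)
    (hstep : ∀ {B C A : Art Λ k} (g : B ⟶ C) (h : C ⟶ A), Function.Surjective h →
      (Function.Bijective g ∨ Art.IsSmallExt g) → P h → P (g ≫ h))
    {B A : Art Λ k} (f : B ⟶ A) (hf : Function.Surjective f) : P f := by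
  classical
  let K : Ideal B := RingHom.ker f.toAlgHom
  have hK : K ≤ IsLocalRing.maximalIdeal B := fun b hb => by
    rw [Art.mem_maximalIdeal_iff, ← Art.res_app f, show f b = 0 from hb, map_zero]
  suffices key : ∀ L : Ideal B, L ≤ K → ∀ (C : Art Λ k) (p : B ⟶ C) (t : C ⟶ A),
      Function.Surjective p → RingHom.ker p.toAlgHom = L → p ≫ t = f → P t by
    exact key ⊥ bot_le B (𝟙 B) f Function.surjective_id
      ((RingHom.ker_eq_bot_iff_eq_zero _).mpr fun x hx => hx) (Category.id_comp f)
  intro L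
  induction L using WellFoundedGT.induction with
  | _ L ih =>
  intro hLK C p t hp hpL hpt
  have ht : Function.Surjective t := fun a => by
    obtain ⟨b, rfl⟩ := hf a
    exact ⟨p b, by rw [← hpt]; rfl⟩
  rcases hLK.eq_or_lt with rfl | hlt
  · refine hiso t ⟨fun c₁ c₂ h => ?_, ht⟩
    obtain ⟨b₁, rfl⟩ := hp c₁
    obtain ⟨b₂, rfl⟩ := hp c₂
    have : b₁ - b₂ ∈ RingHom.ker p.toAlgHom := by
      rw [hpL, RingHom.mem_ker, map_sub, sub_eq_zero, ← hpt]
      exact h
    rwa [RingHom.mem_ker, map_sub, sub_eq_zero] at this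
  obtain ⟨x₀, hx₀K, hx₀L⟩ := SetLike.exists_of_lt hlt
  obtain ⟨N, hN⟩ := (isArtinianRing_iff_isNilpotent_maximalIdeal B).mp B.isArtinianRing
  let m := IsLocalRing.maximalIdeal B
  have hex : ∃ j, m ^ j * Ideal.span {x₀} ≤ L := ⟨N, by rw [hN]; simp⟩
  have hj0 : Nat.find hex ≠ 0 := fun h => hx₀L (by
    have := Nat.find_spec hex
    rw [h, pow_zero, one_mul, Ideal.span_singleton_le_iff_mem] at this
    exact this)
  obtain ⟨j, hj⟩ := Nat.exists_eq_succ_of_ne_zero hj0
  obtain ⟨x, hx, hxL⟩ := SetLike.not_le_iff_exists.mp (Nat.find_min hex (hj ▸ Nat.lt_succ_self j))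
  have hmx : ∀ b ∈ m, b * x ∈ L := fun b hb => Nat.find_spec hex (by
    rw [hj, pow_succ', mul_assoc]
    exact Ideal.mul_mem_mul hb hx)
  have hxK : x ∈ K :=
    (Ideal.span_singleton_le_iff_mem K).mpr hx₀K
      ((Ideal.mul_le_right : m ^ j * Ideal.span {x₀} ≤ Ideal.span {x₀}) hx)
  let L' := L ⊔ Ideal.span {x}
  have hL'K : L' ≤ K := sup_le hLK ((Ideal.span_singleton_le_iff_mem _).mpr hxK)
  obtain ⟨D, q, hq, hqL'⟩ := exists_quot B L' (hL'K.trans hK)
  obtain ⟨g, hg⟩ := exists_desc p hp q (hpL.le.trans (le_sup_left.trans hqL'.ge))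
  obtain ⟨h, hh⟩ := exists_desc q hq f (hqL'.le.trans hL'K)
  have hgsurj : Function.Surjective g := fun d => by
    obtain ⟨b, rfl⟩ := hq d
    exact ⟨p b, by rw [← hg]; rfl⟩
  have hgh : g ≫ h = t := by
    refine Art.hom_ext (AlgHom.ext fun c => ?_)
    obtain ⟨b, rfl⟩ := hp c
    have e₁ : h (g (p b)) = f b := by rw [← hh, ← hg]; rfl
    exact e₁.trans (by rw [← hpt]; rfl)
  have hhsurj : Function.Surjective h := fun a => by
    obtain ⟨c, rfl⟩ := ht a
    exact ⟨g c, by rw [← hgh]; rfl⟩
  have hkerg : RingHom.ker g.toAlgHom = Ideal.span {p x} := by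
    refine le_antisymm (fun c hc => ?_) ((Ideal.span_singleton_le_iff_mem _).mpr ?_)
    · obtain ⟨b, rfl⟩ := hp c
      have hb : b ∈ L' := by
        rw [← hqL', RingHom.mem_ker, ← hg]
        exact hc
      obtain ⟨l, hl, y, hy, rfl⟩ := Submodule.mem_sup.mp hb
      obtain ⟨r, rfl⟩ := Ideal.mem_span_singleton'.mp hy
      rw [show p (l + r * x) = p r * p x by
        change p.toAlgHom _ = p.toAlgHom r * p.toAlgHom x
        rw [map_add, map_mul, show p.toAlgHom l = 0 from (SetLike.ext_iff.mp hpL l).mpr hl, zero_add]]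
      exact Ideal.mul_mem_left _ _ (Ideal.mem_span_singleton_self _)
    · have : q x = 0 := (SetLike.ext_iff.mp hqL' x).mpr
        (Submodule.mem_sup_right (Ideal.mem_span_singleton_self x))
      rw [RingHom.mem_ker]
      rw [← hg] at this
      exact this
  have hne : RingHom.ker g.toAlgHom ≠ ⊥ := fun h0 => by
    rw [hkerg, Ideal.span_singleton_eq_bot] at h0
    exact hxL ((SetLike.ext_iff.mp hpL x).mp h0)
  have hsmall : Art.IsSmallExt g := by
    refine ⟨hgsurj, hne, ⟨⟨p x, hkerg⟩⟩, ?_⟩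
    rw [hkerg, ← le_bot_iff, Ideal.mul_le]
    intro c hc y hy
    obtain ⟨r, rfl⟩ := Ideal.mem_span_singleton'.mp hy
    obtain ⟨b, rfl⟩ := hp c
    obtain ⟨r', rfl⟩ := hp r
    have hb : b ∈ m := by
      rw [Art.mem_maximalIdeal_iff, Art.res_app] at hc
      exact (Art.mem_maximalIdeal_iff B b).mpr hc
    rw [Ideal.mem_bot, show p b * (p r' * p x) = p (r' * (b * x)) by
      change p.toAlgHom b * (p.toAlgHom r' * p.toAlgHom x) = p.toAlgHom _
      rw [map_mul, map_mul]; ring]
    exact (SetLike.ext_iff.mp hpL _).mpr (L.mul_mem_left _ (hmx b hb))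
  have hlt' : L < L' := left_lt_sup.mpr fun h => hxL (h (Ideal.mem_span_singleton_self x))
  rw [← hgh]
  exact hstep g h hhsurj (Or.inr hsmall) (ih L' hlt' hL'K D q h hq hqL' hh)

end Groth.Agent.ArtHull
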