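import Groth.Agent.ArtHull.Hull

/-!
Schlessinger's criterion for pro-representability.
-/

set_option autoImplicit false

universe u v

open CategoryTheory ArtFun

namespace Groth.Agent.ArtHull

variable {Λ : Type u} {k : Type u} [CommRing Λ] [Field k] [Algebra Λ k] {F : Art Λ k ⥤ Type v}

theorem isLeftExact_of_proRep (P : ProRep F) : IsLeftExact F := by
  intro B A A' A'' p' p'' f' f'' h
  refine ⟨fun z₁ z₂ e => ?_, fun x => ?_⟩
  · obtain ⟨ψ₁, rfl⟩ := (P.universal B).2 z₁
    obtain ⟨ψ₂, rfl⟩ := (P.universal B).2 z₂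
    have h1 : HomSet.map p' ψ₁ = HomSet.map p' ψ₂ := (P.universal A').1 (by
      rw [P.family.natural, P.family.natural]; exact congrArg (fun v => v.1.1) e)
    have h2 : HomSet.map p'' ψ₁ = HomSet.map p'' ψ₂ := (P.universal A'').1 (by
      rw [P.family.natural, P.family.natural]; exact congrArg (fun v => v.1.2) e)
    exact congrArg _ (Subtype.ext (AlgHom.ext fun r => h.inj _ _
      (AlgHom.congr_fun (congrArg Subtype.val h1) r) (AlgHom.congr_fun (congrArg Subtype.val h2) r)))
  · obtain ⟨a, ha⟩ := (P.universal A').2 x.1.1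
    obtain ⟨b, hb⟩ := (P.universal A'').2 x.1.2
    obtain ⟨c, hc₁, hc₂⟩ := fibreProd_lift h a b ((P.universal A).1 (by
      rw [P.family.natural, P.family.natural, ha, hb, x.2]))
    refine ⟨P.family.app B c, FibProd.ext ?_ ?_⟩
    · change F.map p' _ = _
      rw [← P.family.natural, hc₁, ha]
    · change F.map p'' _ = _
      rw [← P.family.natural, hc₂, hb]

theorem hfin_of_proRep [TangentStr F] (hk : Function.Surjective (algebraMap Λ k)) (P : ProRep F) :
    Hfin F := by
  obtain ⟨r, g, hg⟩ := Submodule.fg_iff_exists_fin_generating_family.1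
    (IsNoetherian.noetherian (IsLocalRing.maximalIdeal P.ring.carrier))
  let inv : F.obj (Art.dual Λ k) → HomSet P.ring.carrier P.ring.res (Art.dual Λ k) := fun x =>
    ((P.universal _).2 x).choose
  have hinv : ∀ x, P.family.app _ (inv x) = x := fun x => ((P.universal _).2 x).choose_spec
  have huniq : ∀ x ψ, P.family.app _ ψ = x → inv x = ψ := fun x ψ h =>
    (P.universal _).1 ((hinv x).trans h.symm)
  let sd : HomSet P.ring.carrier P.ring.res (Art.dual Λ k) → P.ring.carrier → k := fun ψ a =>
    TrivSqZeroExt.snd (ψ.1 a : DualNumber k)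
  let L : TangentSpace F →ₗ[k] (Fin r → k) :=
    { toFun := fun x i => sd (inv (TangentSpace.val x)) (g i)
      map_add' := fun x y => by
        obtain ⟨ω, hω₁, hω₂⟩ := fibreProd_lift Art.isFibreProd_dual2 (inv (TangentSpace.val x))
          (inv (TangentSpace.val y))
          (Subtype.ext ((inv (TangentSpace.val x)).2.trans (inv (TangentSpace.val y)).2.symm))
        have hadd : P.family.app _ (HomSet.map Art.plus ω) = TangentSpace.val (x + y) := by
          refine (P.family.natural Art.plus ω).trans ((TangentStr.add_eq (P.family.app _ ω)).symm.trans ?_)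
          rw [← P.family.natural, ← P.family.natural, hω₁, hω₂, hinv, hinv]
          rfl
        funext i
        rw [huniq _ _ hadd, ← hω₁, ← hω₂]
        rfl
      map_smul' := fun c x => by
        have hsm : P.family.app _ (HomSet.map (Art.scale c) (inv (TangentSpace.val x))) =
            TangentSpace.val (c • x) := by
          rw [P.family.natural, hinv]
          exact (TangentStr.smul_eq c _).symm
        funext i
        rw [huniq _ _ hsm]
        rfl }
  refine Module.Finite.of_injective L fun x y hxy => ?_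
  have hfst : ∀ (ψ : HomSet P.ring.carrier P.ring.res (Art.dual Λ k)) a,
      TrivSqZeroExt.fst (ψ.1 a : DualNumber k) = P.ring.res a := fun ψ a => AlgHom.congr_fun ψ.2 a
  let ψx := inv (TangentSpace.val x)
  let ψy := inv (TangentSpace.val y)
  have hm : ∀ a ∈ IsLocalRing.maximalIdeal P.ring.carrier, ψx.1 a = ψy.1 a := by
    intro a ha
    rw [← hg] at ha
    induction ha using Submodule.span_induction with
    | mem a ha =>
      obtain ⟨i, rfl⟩ := ha
      exact TrivSqZeroExt.ext ((hfst ψx _).trans (hfst ψy _).symm) (congrFun hxy i)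
    | zero => rw [map_zero, map_zero]
    | add a b _ _ ha hb => rw [map_add, map_add, ha, hb]
    | smul b a hamem ha =>
      rw [hg] at hamem
      rw [smul_eq_mul, map_mul, map_mul, ha]
      have hm : ∀ u u' v : DualNumber k, u.fst = u'.fst → v.fst = 0 → u * v = u' * v := by
        intro u u' v h hv
        refine TrivSqZeroExt.ext (by rw [TrivSqZeroExt.fst_mul, TrivSqZeroExt.fst_mul, h]) ?_
        rw [TrivSqZeroExt.snd_mul, TrivSqZeroExt.snd_mul, h, hv]
        simp
      exact hm _ _ _ ((hfst ψx b).trans (hfst ψy b).symm)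
        ((hfst ψy a).trans ((CRing.mem_maximalIdeal_iff _ a).1 hamem))
  have heq : ψx = ψy := Subtype.ext (AlgHom.ext fun a => by
    obtain ⟨l, hl⟩ := hk (P.ring.res a)
    have := hm (a - algebraMap Λ P.ring.carrier l)
      ((CRing.mem_maximalIdeal_iff _ _).2 (by rw [map_sub, AlgHom.commutes, hl, sub_self]))
    rwa [map_sub, map_sub, AlgHom.commutes, AlgHom.commutes, sub_left_inj] at this)
  exact (hinv (TangentSpace.val x)).symm.trans ((congrArg _ heq).trans (hinv (TangentSpace.val y)))

/-- Schlessinger's criterion. -/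
theorem isProrepresentable_iff [IsNoetherianRing Λ] (hk : Function.Surjective (algebraMap Λ k))
    [TangentStr F] (h0 : H0 F) :
    IsProrepresentable F ↔ (Hbar F ∧ Heps F ∧ Hfin F ∧ HSq F) := by
  refine ⟨fun ⟨P⟩ => ?_, fun ⟨hbar, heps, hfin, hsq⟩ => ?_⟩
  · have hl := isLeftExact_of_proRep P
    exact ⟨fun _ _ _ _ p' p'' f' f'' h _ => (hl p' p'' f' f'' h).2,
      fun _ _ p' p'' h => hl p' p'' _ _ h, hfin_of_proRep hk P, fun _ _ _ p₁ p₂ f h _ => hl p₁ p₂ f f h⟩
  · obtain ⟨H, -, hu⟩ := exists_hull hk h0 hbar heps hfin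
    exact ⟨⟨H.ring, H.family, hu hsq⟩⟩

theorem isProrepresentable_iff_isLeftExact [IsNoetherianRing Λ]
    (hk : Function.Surjective (algebraMap Λ k)) [TangentStr F] (h0 : H0 F) :
    IsProrepresentable F ↔ (IsLeftExact F ∧ Hfin F) := by
  refine ⟨fun ⟨P⟩ => ⟨isLeftExact_of_proRep P, hfin_of_proRep hk P⟩, fun ⟨hl, hfin⟩ => ?_⟩
  exact (isProrepresentable_iff hk h0).2 ⟨fun _ _ _ _ p' p'' f' f'' h _ => (hl p' p'' f' f'' h).2,
    fun _ _ p' p'' h => hl p' p'' _ _ h, hfin, fun _ _ _ p₁ p₂ f h _ => hl p₁ p₂ f f h⟩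

/-- `Λ → k` is surjective when `Λ` is a `k`-algebra compatible with it. -/
theorem algebraMap_surjective_of_tower {k Λ : Type u} [Field k] [CommRing Λ] [Algebra k Λ] [Algebra Λ k]
    [IsScalarTower k Λ k] : Function.Surjective (algebraMap Λ k) := fun c =>
  ⟨algebraMap k Λ c, (IsScalarTower.algebraMap_apply k Λ k c).symm⟩

end Groth.Agent.ArtHull
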