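import Groth.Agent.ArtHull.Family
import Groth.Agent.ArtHull.Prorep
import Groth.Prelude.Def_W4sfdMinVersal
import Mathlib.RingTheory.AdicCompletion.RingHom

/-!
Consequences of versality and of bijectivity on tangent spaces, without assuming `Λ → k` surjective.
-/

set_option autoImplicit false

universe u v

open CategoryTheory ArtFun

namespace Groth.Agent.ArtHull

variable {Λ : Type u} {k : Type u} [CommRing Λ] [Field k] [Algebra Λ k] {F : Art Λ k ⥤ Type v}

theorem truncMap_surjective (R : CRing Λ k) (n : ℕ) : Function.Surjective (R.truncMap n) := fun x => by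
  obtain ⟨a, rfl⟩ := Ideal.Quotient.mk_surjective x
  exact ⟨Ideal.Quotient.mk _ a, rfl⟩

theorem versal_surjective {R : Type u} [CommRing R] [Algebra Λ R] {resR : R →ₐ[Λ] k}
    {ξ : Family R resR F} (hξ : IsVersal ξ) (h0 : H0 F) (A : Art Λ k) : Function.Surjective (ξ.app A) :=
  fun y => by
    have := h0.2
    obtain ⟨ψ, -, hψ⟩ := hξ (Art.toBase A) A.res_surjective ⟨resR, AlgHom.id_comp _⟩ y
      (Subsingleton.elim _ _)
    exact ⟨ψ, hψ⟩

theorem s1_of_versal {R : Type u} [CommRing R] [Algebra Λ R] {resR : R →ₐ[Λ] k}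
    {ξ : Family R resR F} (hξ : IsVersal ξ) (hs : ∀ A, Function.Surjective (ξ.app A)) : S1 F := by
  intro B A A' A'' p' p'' f' f'' h hf x
  obtain ⟨ψ', hψ'⟩ := hs A' x.1.1
  obtain ⟨ψ'', h₁, h₂⟩ := hξ f'' hf (HomSet.map f' ψ') x.1.2 (by rw [ξ.natural, hψ', x.2])
  obtain ⟨c, hc₁, hc₂⟩ := fibreProd_lift h ψ' ψ'' h₁.symm
  refine ⟨ξ.app B c, FibProd.ext ?_ ?_⟩
  · change F.map p' _ = _
    rw [← ξ.natural, hc₁, hψ']
  · change F.map p'' _ = _
    rw [← ξ.natural, hc₂, h₂]

theorem heps_of_miniversal {R : Type u} [CommRing R] [Algebra Λ R] {resR : R →ₐ[Λ] k}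
    {ξ : Family R resR F} (hξ : IsMiniversal ξ) (hs : ∀ A, Function.Surjective (ξ.app A)) : Heps F := by
  intro B A' p' p'' h
  have hd : Function.Surjective (Art.toBase (Art.dual Λ k)) := (Art.dual Λ k).res_surjective
  have hp' : Function.Surjective p' := fun a => by
    obtain ⟨d, hd⟩ := hd (Art.toBase A' a)
    obtain ⟨b, hb, -⟩ := h.surj a d hd.symm
    exact ⟨b, hb⟩
  refine ⟨fun z₁ z₂ e => ?_, s1_of_versal hξ.1 hs p' p'' _ _ h hd⟩
  have e₁ : F.map p' z₁ = F.map p' z₂ := congrArg (fun v => v.1.1) e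
  have e₂ : F.map p'' z₁ = F.map p'' z₂ := congrArg (fun v => v.1.2) e
  obtain ⟨ψ₁, rfl⟩ := hs B z₁
  obtain ⟨ψ₂, h₁, h₂⟩ := hξ.1 p' hp' (HomSet.map p' ψ₁) z₂ (by rw [ξ.natural]; exact e₁.symm)
  have h3 : HomSet.map p'' ψ₂ = HomSet.map p'' ψ₁ :=
    hξ.2.1 (by rw [ξ.natural, ξ.natural, h₂]; exact e₂.symm)
  rw [← h₂]
  exact congrArg _ (Subtype.ext (AlgHom.ext fun r => h.inj _ _
    (AlgHom.congr_fun (congrArg Subtype.val h₁.symm) r)
    (AlgHom.congr_fun (congrArg Subtype.val h3.symm) r)))

/-- A map to the dual numbers separating `x` from a subalgebra. -/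
theorem exists_hom_dual {R : Type u} [CommRing R] [Algebra Λ R] [IsNoetherianRing R] (res : R →ₐ[Λ] k)
    (hunit : ∀ a, res a ≠ 0 → IsUnit a) (B : Subalgebra Λ R) (hB : ∀ c : k, ∃ b ∈ B, res b = c)
    (N : Ideal R) (hNres : ∀ a ∈ N, res a = 0) (hN : ∀ a b, res a = 0 → res b = 0 → a * b ∈ N)
    (hNB : ∀ b ∈ B, res b = 0 → b ∈ N) {x : R} (hx : res x = 0) (hxN : x ∉ N) :
    ∃ φ : HomSet R res (Art.dual Λ k), TrivSqZeroExt.snd (φ.1 x : DualNumber k) ≠ 0 ∧
      ∀ b ∈ B, TrivSqZeroExt.snd (φ.1 b : DualNumber k) = 0 := by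
  classical
  let W : Set (Ideal R) := {M | N ≤ M ∧ (∀ a ∈ M, res a = 0) ∧ x ∉ M}
  obtain ⟨M, ⟨hNM, hMres, hxM⟩, hmax⟩ :=
    (wellFounded_gt (α := Ideal R)).has_min W ⟨N, le_rfl, hNres, hxN⟩
  have hspan : ∀ v, res v = 0 → ∃ a, v - a * x ∈ M := by
    intro v hv
    by_cases hvM : v ∈ M
    · exact ⟨0, by rwa [zero_mul, sub_zero]⟩
    have hx' : x ∈ M ⊔ Ideal.span {v} := by
      by_contra hx'
      refine hmax _ ⟨hNM.trans le_sup_left, fun a ha => ?_, hx'⟩
        (left_lt_sup.mpr fun h => hvM (h (Ideal.mem_span_singleton_self v)))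
      obtain ⟨y, hy, z, hz, rfl⟩ := Submodule.mem_sup.1 ha
      obtain ⟨c, rfl⟩ := Ideal.mem_span_singleton'.1 hz
      rw [map_add, map_mul, hMres y hy, hv, mul_zero, add_zero]
    obtain ⟨y, hy, z, hz, hyz⟩ := Submodule.mem_sup.1 hx'
    obtain ⟨c, rfl⟩ := Ideal.mem_span_singleton'.1 hz
    obtain ⟨d, hd⟩ := (hunit c fun hc => hxM (by
      rw [← hyz]
      exact add_mem hy (hNM (hN c v hc hv)))).exists_left_inv
    refine ⟨d, ?_⟩
    rw [show v - d * x = -(d * y) by
      rw [← hyz, mul_add, ← mul_assoc, hd, one_mul]; ring]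
    exact neg_mem (M.mul_mem_left d hy)
  have hex : ∀ r, ∃ b a, b ∈ B ∧ res b = res r ∧ r - b - a * x ∈ M := fun r => by
    obtain ⟨b, hb, hbr⟩ := hB (res r)
    obtain ⟨a, ha⟩ := hspan (r - b) (by rw [map_sub, hbr, sub_self])
    exact ⟨b, a, hb, hbr, ha⟩
  choose β α hβ hβr hα using hex
  have huniq : ∀ r b a, b ∈ B → res b = res r → r - b - a * x ∈ M → res (α r) = res a := by
    intro r b a hb hbr ha
    by_contra hne
    obtain ⟨d, hd⟩ := (hunit (α r - a) (by rw [map_sub]; exact sub_ne_zero.2 hne)).exists_left_inv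
    refine hxM ?_
    have h1 : (α r - a) * x ∈ M := by
      rw [show (α r - a) * x = (r - b - a * x) - (r - β r - α r * x) - (β r - b) by ring]
      exact sub_mem (sub_mem ha (hα r))
        (hNM (hNB _ (B.sub_mem (hβ r) hb) (by rw [map_sub, hβr, hbr, sub_self])))
    have := M.mul_mem_left d h1
    rwa [← mul_assoc, hd, one_mul] at this
  have hl : ∀ l, res (α (algebraMap Λ R l)) = 0 := fun l => by
    rw [huniq (algebraMap Λ R l) (algebraMap Λ R l) 0 (B.algebraMap_mem l) rfl (by simp), map_zero]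
  let θ : R →ₐ[Λ] DualNumber k :=
    { toFun := fun r => (res r, res (α r))
      map_one' := TrivSqZeroExt.ext (map_one res)
        ((congrArg (fun y => res (α y)) (map_one (algebraMap Λ R)).symm).trans (hl 1))
      map_mul' := fun r r' => TrivSqZeroExt.ext (map_mul res r r') (by
        refine (huniq (r * r') (β r * β r') (α r * β r' + α r' * β r) (B.mul_mem (hβ r) (hβ r'))
          (by rw [map_mul, map_mul, hβr, hβr]) ?_).trans ?_
        · rw [show r * r' - β r * β r' - (α r * β r' + α r' * β r) * x = (r - β r) * (r' - β r') +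
              (β r * (r' - β r' - α r' * x) + β r' * (r - β r - α r * x)) by ring]
          exact add_mem (hNM (hN _ _ (by rw [map_sub, hβr, sub_self]) (by rw [map_sub, hβr, sub_self])))
            (add_mem (M.mul_mem_left _ (hα r')) (M.mul_mem_left _ (hα r)))
        · change _ = res r • res (α r') + MulOpposite.op (res r') • res (α r)
          rw [map_add, map_mul, map_mul, hβr, hβr, op_smul_eq_smul, smul_eq_mul, smul_eq_mul]
          ring)
      map_zero' := TrivSqZeroExt.ext (map_zero res)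
        ((congrArg (fun y => res (α y)) (map_zero (algebraMap Λ R)).symm).trans (hl 0))
      map_add' := fun r r' => TrivSqZeroExt.ext (map_add res r r') (by
        refine (huniq (r + r') (β r + β r') (α r + α r') (B.add_mem (hβ r) (hβ r'))
          (by rw [map_add, map_add, hβr, hβr]) ?_).trans (map_add res _ _)
        rw [show r + r' - (β r + β r') - (α r + α r') * x =
          (r - β r - α r * x) + (r' - β r' - α r' * x) by ring]
        exact add_mem (hα r) (hα r'))
      commutes' := fun l => TrivSqZeroExt.ext (res.commutes l) ((hl l).trans (by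
        rw [TrivSqZeroExt.algebraMap_eq_inl']; rfl)) }
  refine ⟨⟨θ, AlgHom.ext fun _ => rfl⟩, ?_, fun b hb => ?_⟩
  · change res (α x) ≠ 0
    rw [huniq x 0 1 B.zero_mem (by rw [map_zero, hx]) (by simp), map_one]
    exact one_ne_zero
  · change res (α b) = 0
    rw [huniq b b 0 hb rfl (by simp), map_zero]

theorem isUnit_of_res_ne_zero (R : CRing Λ k) (a : R.carrier) (h : R.res a ≠ 0) : IsUnit a := by
  by_contra hu
  exact h ((CRing.mem_maximalIdeal_iff R a).1 ((IsLocalRing.mem_maximalIdeal a).2 hu))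

/-- A morphism of coefficient rings which is injective on tangent spaces is surjective. -/
theorem surjective_of_tangent_injective {S R : CRing Λ k} (e : S.carrier →ₐ[Λ] R.carrier)
    (he : R.res.comp e = S.res)
    (h : ∀ φ φ' : HomSet R.carrier R.res (Art.dual Λ k), φ.1.comp e = φ'.1.comp e → φ = φ') :
    Function.Surjective e := by
  let mS := IsLocalRing.maximalIdeal S.carrier
  let mR := IsLocalRing.maximalIdeal R.carrier
  have hres : ∀ s, R.res (e s) = S.res s := AlgHom.congr_fun he
  have hmap : mS.map (e : S.carrier →+* R.carrier) ≤ mR := Ideal.map_le_iff_le_comap.mpr fun s hs => by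
    rw [Ideal.mem_comap, CRing.mem_maximalIdeal_iff]
    exact (hres s).trans ((CRing.mem_maximalIdeal_iff S s).1 hs)
  let N := mS.map (e : S.carrier →+* R.carrier) ⊔ mR * mR
  have hmN : mR ≤ N := by
    intro x hx
    by_contra hxN
    obtain ⟨φ, hφx, hφB⟩ := exists_hom_dual R.res (isUnit_of_res_ne_zero R) e.range
      (fun c => by
        obtain ⟨s, rfl⟩ := S.res_surjective c
        exact ⟨e s, ⟨s, rfl⟩, hres s⟩) N
      (fun a ha => (CRing.mem_maximalIdeal_iff R a).1 (sup_le hmap Ideal.mul_le_left ha))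
      (fun a b ha hb => Submodule.mem_sup_right (Ideal.mul_mem_mul
        ((CRing.mem_maximalIdeal_iff R a).2 ha) ((CRing.mem_maximalIdeal_iff R b).2 hb)))
      (by
        rintro b ⟨s, rfl⟩ hb
        exact Submodule.mem_sup_left (Ideal.mem_map_of_mem _ ((CRing.mem_maximalIdeal_iff S s).2
          ((hres s).symm.trans hb))))
      ((CRing.mem_maximalIdeal_iff R x).1 hx) hxN
    let φ₀ : HomSet R.carrier R.res (Art.dual Λ k) :=
      HomSet.map Art.baseToDual ⟨R.res, AlgHom.id_comp _⟩
    have := h φ φ₀ (AlgHom.ext fun s => TrivSqZeroExt.ext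
      ((AlgHom.congr_fun φ.2 (e s)).trans (AlgHom.congr_fun φ₀.2 (e s)).symm) (hφB (e s) ⟨s, rfl⟩))
    exact hφx (by rw [this]; rfl)
  have hgen : mS.map (e : S.carrier →+* R.carrier) = mR := by
    refine le_antisymm hmap (Submodule.le_of_le_smul_of_le_jacobson_bot (IsNoetherian.noetherian mR)
      (IsLocalRing.maximalIdeal_le_jacobson ⊥) ?_)
    rw [smul_eq_mul]
    exact hmN
  have hmod : ∀ r, ∃ s, r - e s ∈ mR := fun r => by
    obtain ⟨s, hs⟩ := S.res_surjective (R.res r)
    exact ⟨s, (CRing.mem_maximalIdeal_iff R _).2 (by rw [map_sub, hres, hs, sub_self])⟩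
  have hstep : ∀ n, ∀ x ∈ mR ^ n, ∃ s ∈ mS ^ n, x - e s ∈ mR ^ (n + 1) := by
    intro n x hx
    rw [← hgen, ← Ideal.map_pow] at hx
    change x ∈ Ideal.span _ at hx
    induction hx using Submodule.span_induction with
    | mem y hy =>
      obtain ⟨s, hs, rfl⟩ := hy
      refine ⟨s, hs, ?_⟩
      change e s - e s ∈ _
      rw [sub_self]
      exact zero_mem _
    | zero => exact ⟨0, zero_mem _, by rw [map_zero, sub_self]; exact zero_mem _⟩
    | add y z _ _ hy hz =>
      obtain ⟨s, hs, hs'⟩ := hy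
      obtain ⟨t, ht, ht'⟩ := hz
      exact ⟨s + t, add_mem hs ht, by rw [map_add, add_sub_add_comm]; exact add_mem hs' ht'⟩
    | smul b y hymem hy =>
      obtain ⟨s, hs, hs'⟩ := hy
      obtain ⟨s₀, hs₀⟩ := hmod b
      refine ⟨s₀ * s, Ideal.mul_mem_left _ _ hs, ?_⟩
      have hy' : y ∈ mR ^ n := by
        rw [← hgen, ← Ideal.map_pow]
        exact hymem
      rw [smul_eq_mul, map_mul, show b * y - e s₀ * e s = (b - e s₀) * y + e s₀ * (y - e s) by ring,
        pow_succ']
      refine add_mem (Ideal.mul_mem_mul hs₀ hy') (Ideal.mul_mem_left _ _ ?_)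
      rw [← pow_succ']
      exact hs'
  intro r
  choose f hf hf' using hstep
  let acc : ∀ n, {s : S.carrier // r - e s ∈ mR ^ n} := fun n =>
    Nat.rec (motive := fun n => {s : S.carrier // r - e s ∈ mR ^ n})
      ⟨0, by simp⟩ (fun n p => ⟨p.1 + f n (r - e p.1) p.2, by
        rw [map_add, ← sub_sub]
        exact hf' n _ p.2⟩) n
  have := S.isAdicComplete
  obtain ⟨L, hL⟩ := exists_adic_limit (fun n => (acc n).1) fun n => by
    change (acc n).1 + f n (r - e (acc n).1) (acc n).2 - (acc n).1 ∈ _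
    rw [add_sub_cancel_left]
    exact hf n _ (acc n).2
  refine ⟨L, (sub_eq_zero.mp (R.isAdicComplete.toIsHausdorff.haus _ fun n => ?_)).symm⟩
  rw [SModEq.zero, smul_eq_mul, Ideal.mul_top]
  have h2 : e ((acc n).1 - L) ∈ mR ^ n := by
    have h3 := Ideal.mem_map_of_mem (e : S.carrier →+* R.carrier) (hL n)
    rw [Ideal.map_pow, hgen] at h3
    exact h3
  have := add_mem (acc n).2 h2
  rwa [map_sub, sub_add_sub_cancel] at this

/-- A surjective endomorphism of a Noetherian ring is injective. -/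
theorem injective_of_surjective_endo {R : Type u} [CommRing R] [IsNoetherianRing R] (f : R →+* R)
    (hf : Function.Surjective f) : Function.Injective f := by
  have hit : ∀ n, Function.Surjective (f^[n]) := fun n => hf.iterate n
  let J : ℕ → Ideal R := fun n =>
    { carrier := {x | f^[n] x = 0}
      add_mem' := fun {a b} ha hb => by
        change f^[n] (a + b) = 0
        rw [iterate_map_add f n, show f^[n] a = 0 from ha, show f^[n] b = 0 from hb, add_zero]
      zero_mem' := iterate_map_zero f n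
      smul_mem' := fun c {x} hx => by
        change f^[n] (c * x) = 0
        rw [iterate_map_mul f n, show f^[n] x = 0 from hx, mul_zero] }
  obtain ⟨n, hn⟩ := monotone_stabilizes_iff_noetherian.mpr inferInstance
    (⟨J, monotone_nat_of_le_succ fun n x hx => by
      change f^[n + 1] x = 0
      rw [Function.iterate_succ_apply', show f^[n] x = 0 from hx, map_zero]⟩ : ℕ →o Ideal R)
  refine (injective_iff_map_eq_zero f).2 fun x hx => ?_
  obtain ⟨y, rfl⟩ := hit n x
  have h1 : y ∈ J (n + 1) := by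
    change f^[n + 1] y = 0
    rw [Function.iterate_succ_apply']
    exact hx
  rw [← show J n = J (n + 1) from hn (n + 1) (Nat.le_succ n)] at h1
  exact h1

/-- A compatible system of maps to the truncations gives a map to the coefficient ring. -/
theorem exists_limit_hom {R : Type u} [CommRing R] [Algebra Λ R] {resR : R →ₐ[Λ] k} (S : CRing Λ k)
    (φ : ∀ n, HomSet R resR (S.trunc n)) (hφ : ∀ n, HomSet.map (S.truncMap n) (φ (n + 1)) = φ n) :
    ∃ e : R →ₐ[Λ] S.carrier, S.res.comp e = resR ∧ ∀ n, (S.truncHom n).1.comp e = (φ n).1 := by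
  let I := IsLocalRing.maximalIdeal S.carrier
  have := S.isAdicComplete
  let f : ∀ n : ℕ, R →+* S.carrier ⧸ I ^ n := fun n =>
    (Ideal.Quotient.factor (Ideal.pow_le_pow_right (Nat.le_succ n))).comp (φ n).1.toRingHom
  have hf : ∀ {m n : ℕ} (hle : m ≤ n), (Ideal.Quotient.factorPow I hle).comp (f n) = f m := by
    intro m n hle
    induction n, hle using Nat.le_induction with
    | base =>
      refine RingHom.ext fun a => ?_
      obtain ⟨b, hb⟩ := Ideal.Quotient.mk_surjective (f m a)
      rw [RingHom.comp_apply, ← hb]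
      rfl
    | succ n hle ih =>
      rw [← ih]
      refine RingHom.ext fun a => ?_
      obtain ⟨b, hb⟩ := Ideal.Quotient.mk_surjective ((φ (n + 1)).1 a)
      have h1 : (φ n).1 a = Ideal.Quotient.mk _ b := by
        rw [← hφ n]
        change (S.truncMap n) ((φ (n + 1)).1 a) = _
        rw [← hb]
        rfl
      change Ideal.Quotient.factorPow I (hle.trans (Nat.le_succ n))
          (Ideal.Quotient.factor (Ideal.pow_le_pow_right (Nat.le_succ (n + 1))) ((φ (n + 1)).1 a)) =
        Ideal.Quotient.factorPow I hle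
          (Ideal.Quotient.factor (Ideal.pow_le_pow_right (Nat.le_succ n)) ((φ n).1 a))
      rw [h1, ← hb]
      rfl
  let e₀ : R →+* S.carrier := IsAdicComplete.liftRingHom I f hf
  have he₀ : ∀ (n : ℕ) a, Ideal.Quotient.mk (S.mpow n) (e₀ a) = (φ n).1 a := fun n a => by
    refine (IsAdicComplete.mk_liftRingHom I f hf (n + 1) a).trans ?_
    rw [← hφ n]
    obtain ⟨b, hb⟩ := Ideal.Quotient.mk_surjective ((φ (n + 1)).1 a)
    change Ideal.Quotient.factor (Ideal.pow_le_pow_right (Nat.le_succ (n + 1))) ((φ (n + 1)).1 a) =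
      (S.truncMap n) ((φ (n + 1)).1 a)
    rw [← hb]
    rfl
  let e : R →ₐ[Λ] S.carrier :=
    { e₀ with
      commutes' := fun r => sub_eq_zero.mp (S.isAdicComplete.toIsHausdorff.haus _ fun n => by
        rw [SModEq.zero, smul_eq_mul, Ideal.mul_top]
        refine Ideal.pow_le_pow_right (Nat.le_succ n) (Ideal.Quotient.eq.mp ?_)
        exact (he₀ n _).trans ((φ n).1.commutes r)) }
  have hcomp : ∀ n, (S.truncHom n).1.comp e = (φ n).1 := fun n => AlgHom.ext (he₀ n)
  refine ⟨e, AlgHom.ext fun a => ?_, hcomp⟩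
  have := AlgHom.congr_fun (φ 0).2 a
  rw [← this, ← hcomp 0]
  rfl

theorem app_along_trunc {R S : CRing Λ k} (ξ : Family R.carrier R.res F) (e : R.carrier →ₐ[Λ] S.carrier)
    (he : S.res.comp e = R.res) (n : ℕ) (ψ : HomSet R.carrier R.res (S.trunc n))
    (hψ : (S.truncHom n).1.comp e = ψ.1) : (ξ.along e he).app _ (S.truncHom n) = ξ.app _ ψ :=
  congrArg (ξ.app _) (Subtype.ext hψ)

/-- A versal family induces every family extending a given first order datum. -/
theorem exists_along {R S : CRing Λ k} {ξ : Family R.carrier R.res F} (hξ : IsVersal ξ)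
    (η : Family S.carrier S.res F) (ψ : HomSet R.carrier R.res (S.trunc 1))
    (hψ : ξ.app _ ψ = η.app _ (S.truncHom 1)) :
    ∃ (e : R.carrier →ₐ[Λ] S.carrier) (he : S.res.comp e = R.res),
      ξ.along e he = η ∧ (S.truncHom 1).1.comp e = ψ.1 := by
  have hstep : ∀ n (a : HomSet R.carrier R.res (S.trunc n)), ξ.app _ a = η.app _ (S.truncHom n) →
      ∃ b : HomSet R.carrier R.res (S.trunc (n + 1)), HomSet.map (S.truncMap n) b = a ∧
        ξ.app _ b = η.app _ (S.truncHom (n + 1)) := fun n a ha =>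
    hξ (S.truncMap n) (truncMap_surjective S n) a _ (by
      rw [← η.natural, CRing.truncMap_truncHom, ha])
  choose next hn₁ hn₂ using hstep
  let s : ∀ n, {a : HomSet R.carrier R.res (S.trunc (n + 1)) // ξ.app _ a = η.app _ (S.truncHom (n + 1))} :=
    fun n => Nat.rec (motive := fun n =>
      {a : HomSet R.carrier R.res (S.trunc (n + 1)) // ξ.app _ a = η.app _ (S.truncHom (n + 1))})
      ⟨ψ, hψ⟩ (fun n p => ⟨next (n + 1) p.1 p.2, hn₂ (n + 1) p.1 p.2⟩) n
  let φ : ∀ n, HomSet R.carrier R.res (S.trunc n) := fun n => HomSet.map (S.truncMap n) (s n).1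
  have hs : ∀ n, φ (n + 1) = (s n).1 := fun n => hn₁ (n + 1) (s n).1 (s n).2
  obtain ⟨e, he, hφ⟩ := exists_limit_hom S φ fun n => by rw [hs]
  refine ⟨e, he, toFormalElt_injective _ _ fun n => ?_, (hφ 1).trans (congrArg Subtype.val (hs 0))⟩
  rw [app_along_trunc ξ e he n (φ n) (hφ n), ξ.natural, (s n).2, ← η.natural, CRing.truncMap_truncHom]

theorem exists_along_of_h0 {R S : CRing Λ k} {ξ : Family R.carrier R.res F} (hξ : IsVersal ξ) (h0 : H0 F)
    (η : Family S.carrier S.res F) :
    ∃ (e : R.carrier →ₐ[Λ] S.carrier) (he : S.res.comp e = R.res), ξ.along e he = η := by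
  obtain ⟨ψ, hψ⟩ := versal_surjective hξ h0 _ (η.app _ (S.truncHom 1))
  obtain ⟨e, he, h, -⟩ := exists_along hξ η ψ hψ
  exact ⟨e, he, h⟩

/-- Bijectivity on tangent spaces over a Noetherian ring gives a finite dimensional tangent space. -/
theorem hfin_of_tangent_bijective [TangentStr F] [Module.Finite Λ k] {R : CRing Λ k}
    (ξ : Family R.carrier R.res F) (hξ : Function.Bijective (ξ.app (Art.dual Λ k))) : Hfin F := by
  obtain ⟨r, g, hg⟩ := Submodule.fg_iff_exists_fin_generating_family.1
    (IsNoetherian.noetherian (IsLocalRing.maximalIdeal R.carrier))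
  obtain ⟨s, c, hc⟩ := Submodule.fg_iff_exists_fin_generating_family.1
    (Module.Finite.fg_top (R := Λ) (M := k))
  choose b hb using fun j => R.res_surjective (c j)
  let inv : F.obj (Art.dual Λ k) → HomSet R.carrier R.res (Art.dual Λ k) := fun x => (hξ.2 x).choose
  have hinv : ∀ x, ξ.app _ (inv x) = x := fun x => (hξ.2 x).choose_spec
  have huniq : ∀ x ψ, ξ.app _ ψ = x → inv x = ψ := fun x ψ h => hξ.1 ((hinv x).trans h.symm)
  let gb : Fin r ⊕ Fin s → R.carrier := Sum.elim g b
  let L : TangentSpace F →ₗ[k] (Fin r ⊕ Fin s → k) :=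
    { toFun := fun x i => TrivSqZeroExt.snd ((inv (TangentSpace.val x)).1 (gb i) : DualNumber k)
      map_add' := fun x y => by
        obtain ⟨ω, hω₁, hω₂⟩ := fibreProd_lift Art.isFibreProd_dual2 (inv (TangentSpace.val x))
          (inv (TangentSpace.val y))
          (Subtype.ext ((inv (TangentSpace.val x)).2.trans (inv (TangentSpace.val y)).2.symm))
        have hadd : ξ.app _ (HomSet.map Art.plus ω) = TangentSpace.val (x + y) := by
          refine (ξ.natural Art.plus ω).trans ((TangentStr.add_eq (ξ.app _ ω)).symm.trans ?_)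
          rw [← ξ.natural, ← ξ.natural, hω₁, hω₂, hinv, hinv]
          rfl
        funext i
        rw [huniq _ _ hadd, ← hω₁, ← hω₂]
        rfl
      map_smul' := fun a x => by
        have hsm : ξ.app _ (HomSet.map (Art.scale a) (inv (TangentSpace.val x))) =
            TangentSpace.val (a • x) := by
          rw [ξ.natural, hinv]
          exact (TangentStr.smul_eq a _).symm
        funext i
        rw [huniq _ _ hsm]
        rfl }
  refine Module.Finite.of_injective L fun x y hxy => ?_
  have hfst : ∀ (ψ : HomSet R.carrier R.res (Art.dual Λ k)) a,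
      TrivSqZeroExt.fst (ψ.1 a : DualNumber k) = R.res a := fun ψ a => AlgHom.congr_fun ψ.2 a
  let ψx := inv (TangentSpace.val x)
  let ψy := inv (TangentSpace.val y)
  have hgb : ∀ i, ψx.1 (gb i) = ψy.1 (gb i) := fun i =>
    TrivSqZeroExt.ext ((hfst ψx _).trans (hfst ψy _).symm) (congrFun hxy i)
  have hm : ∀ a ∈ IsLocalRing.maximalIdeal R.carrier, ψx.1 a = ψy.1 a := by
    intro a ha
    rw [← hg] at ha
    induction ha using Submodule.span_induction with
    | mem a ha =>
      obtain ⟨i, rfl⟩ := ha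
      exact hgb (Sum.inl i)
    | zero => rw [map_zero, map_zero]
    | add a b _ _ ha hb => rw [map_add, map_add, ha, hb]
    | smul b a hamem ha =>
      rw [hg] at hamem
      rw [smul_eq_mul, map_mul, map_mul, ha]
      have hm : ∀ u u' v : DualNumber k, u.fst = u'.fst → v.fst = 0 → u * v = u' * v := by
        intro u u' v h hv
        refine TrivSqZeroExt.ext (by rw [TrivSqZeroExt.fst_mul, TrivSqZeroExt.fst_mul, h]) ?_
        rw [TrivSqZeroExt.snd_mul, TrivSqZeroExt.snd_mul, h, hv]
        simp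
      exact hm _ _ _ ((hfst ψx b).trans (hfst ψy b).symm)
        ((hfst ψy a).trans ((CRing.mem_maximalIdeal_iff _ a).1 hamem))
  have heq : ψx = ψy := Subtype.ext (AlgHom.ext fun a => by
    obtain ⟨l, hl⟩ := (Submodule.mem_span_range_iff_exists_fun Λ).1
      (hc.symm ▸ Submodule.mem_top : R.res a ∈ Submodule.span Λ (Set.range c))
    have hd := hm (a - ∑ j, l j • b j) ((CRing.mem_maximalIdeal_iff _ _).2 (by
      simp only [map_sub, map_sum, map_smul, hb, hl, sub_self]))
    have hsum : ψx.1 (∑ j, l j • b j) = ψy.1 (∑ j, l j • b j) := by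
      simp only [map_sum, map_smul]
      exact Finset.sum_congr rfl fun j _ => congrArg _ (hgb (Sum.inr j))
    rwa [map_sub, map_sub, hsum, sub_left_inj] at hd)
  exact (hinv (TangentSpace.val x)).symm.trans ((congrArg _ heq).trans (hinv (TangentSpace.val y)))

theorem push_eq_along {R' R : CRing Λ k} (η : Family R'.carrier R'.res F)
    (f : R'.carrier →ₐ[Λ] R.carrier) (hf : R.res.comp f = R'.res) :
    η.toFormalElt.push f hf = (η.along f hf).toFormalElt := by
  refine FormalElt.ext' fun n => ?_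
  change F.map (CRing.truncMapOfHom f hf n) (η.app _ (R'.truncHom n)) = _
  rw [← η.natural]
  rfl

/-- A hull is minimal versal. -/
theorem isMinimalVersal_of_miniversal {R : CRing Λ k} {ξ : Family R.carrier R.res F}
    (hξ : IsMiniversal ξ) : ξ.IsMinimalVersal := by
  refine ⟨hξ.1, fun R' u f hf hu => ?_⟩
  obtain ⟨η, rfl⟩ := (toFormalElt_bijective R' F).2 u
  have hη : η.along f hf = ξ := (toFormalElt_bijective R F).1 ((push_eq_along η f hf).symm.trans hu)
  refine surjective_of_tangent_injective f hf fun φ φ' h => hξ.2.1 ?_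
  rw [← hη]
  exact congrArg (η.app _) (Subtype.ext h)

/-- An endomorphism of a pro-representable functor, bijective on tangents, is bijective. -/
theorem bijective_app_of_tangent_bijective {U : Art Λ k ⥤ Type v} (P : ProRep U) (φ : U ⟶ U)
    (hd : Function.Bijective (φ.app (Art.dual Λ k))) (A : Art Λ k) : Function.Bijective (φ.app A) := by
  obtain ⟨e, ⟨he, hea⟩, -⟩ := exists_unique_along P P.ring (P.family.push φ)
  have hcomp : ∀ (A : Art Λ k) (ψ : HomSet P.ring.carrier P.ring.res A),
      φ.app A (P.family.app A ψ) =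
        P.family.app A ⟨ψ.1.comp e, by rw [← AlgHom.comp_assoc, ψ.2, he]⟩ := fun A ψ =>
    (congrArg (fun η : Family P.ring.carrier P.ring.res U => η.app A ψ) hea).symm
  have hs : Function.Surjective e := by
    refine surjective_of_tangent_injective e he fun ψ ψ' h => (P.universal _).1 (hd.1 ?_)
    rw [hcomp, hcomp]
    exact congrArg _ (Subtype.ext h)
  have hb : Function.Bijective e := ⟨injective_of_surjective_endo e.toRingHom hs, hs⟩
  let E := AlgEquiv.ofBijective e hb
  refine ⟨fun y y' h => ?_, fun y => ?_⟩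
  · obtain ⟨ψ, rfl⟩ := (P.universal A).2 y
    obtain ⟨ψ', rfl⟩ := (P.universal A).2 y'
    rw [hcomp, hcomp] at h
    have h' := congrArg Subtype.val ((P.universal A).1 h)
    refine congrArg _ (Subtype.ext (AlgHom.ext fun r => ?_))
    obtain ⟨s, rfl⟩ := hs r
    exact AlgHom.congr_fun h' s
  · obtain ⟨ψ, rfl⟩ := (P.universal A).2 y
    refine ⟨P.family.app A ⟨ψ.1.comp E.symm.toAlgHom, AlgHom.ext fun r => ?_⟩, ?_⟩
    · obtain ⟨s, rfl⟩ := hs r
      change A.res (ψ.1 (E.symm (E s))) = _
      rw [E.symm_apply_apply]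
      exact (AlgHom.congr_fun ψ.2 s).trans (AlgHom.congr_fun he s).symm
    · rw [hcomp]
      refine congrArg _ (Subtype.ext (AlgHom.ext fun r => ?_))
      change ψ.1 (E.symm (E r)) = _
      rw [E.symm_apply_apply]

end Groth.Agent.ArtHull
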