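import Groth.Agent.ArtHull.General
import Groth.Agent.ArtHull.Versal
import Mathlib.Algebra.Group.MinimalAxioms
import Mathlib.RingTheory.Derivation.Basic
import Mathlib.LinearAlgebra.Dimension.Finrank
import Mathlib.LinearAlgebra.FiniteDimensional.Basic

/-!
Tangent spaces: surjectivity criteria on cotangent spaces, square-zero objects, and the vector space
structure on `F(k[ε])`.
-/

set_option autoImplicit false

universe u v

open CategoryTheory ArtFun

namespace Groth.Agent.ArtHull

variable {Λ : Type u} {k : Type u} [CommRing Λ] [Field k] [Algebra Λ k]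

section Surjective

/-- An object of `Art Λ k` as a coefficient ring. -/
noncomputable def artCRing (A : Art Λ k) : CRing Λ k where
  carrier := A
  res := A.res
  res_surjective := A.res_surjective
  isAdicComplete := by
    obtain ⟨N, hN⟩ := (isArtinianRing_iff_isNilpotent_maximalIdeal A).mp A.isArtinianRing
    have key : ∀ n, N ≤ n → (IsLocalRing.maximalIdeal A) ^ n = ⊥ := fun n hn => by
      rw [← le_bot_iff, ← show (IsLocalRing.maximalIdeal A) ^ N = ⊥ from hN.trans Ideal.zero_eq_bot]
      exact Ideal.pow_le_pow_right hn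
    exact
      { haus' := fun x hx => by
          have := hx N
          rw [SModEq.zero, smul_eq_mul, Ideal.mul_top, key N le_rfl, Ideal.mem_bot] at this
          exact this
        prec' := fun f hf => ⟨f N, fun n => by
          rcases le_total n N with h | h
          · exact hf h
          · have := (hf h).symm
            rw [SModEq.sub_mem, smul_eq_mul, Ideal.mul_top, key N le_rfl, Ideal.mem_bot] at this
            rw [SModEq.sub_mem, this]
            exact zero_mem _⟩ }

theorem dual_mul_eq {u u' v : DualNumber k} (h : u.fst = u'.fst) (hv : v.fst = 0) : u * v = u' * v := by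
  refine TrivSqZeroExt.ext (by rw [TrivSqZeroExt.fst_mul, TrivSqZeroExt.fst_mul, h]) ?_
  rw [TrivSqZeroExt.snd_mul, TrivSqZeroExt.snd_mul, h, hv]
  simp

/-- Surjectivity on cotangent spaces gives surjectivity. -/
theorem surjective_of_cotangent (R S : CRing Λ k) (e : R.carrier →ₐ[Λ] S.carrier) (he : S.res.comp e = R.res)
    (h : IsLocalRing.maximalIdeal S.carrier ≤
      Ideal.map e (IsLocalRing.maximalIdeal R.carrier) ⊔ IsLocalRing.maximalIdeal S.carrier ^ 2) :
    Function.Surjective e := by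
  refine surjective_of_tangent_injective e he fun φ φ' hφ => Subtype.ext (AlgHom.ext fun a => ?_)
  have hfst : ∀ (ψ : HomSet S.carrier S.res (Art.dual Λ k)) b,
      TrivSqZeroExt.fst (ψ.1 b : DualNumber k) = S.res b := fun ψ b => AlgHom.congr_fun ψ.2 b
  have hzero : ∀ b ∈ IsLocalRing.maximalIdeal S.carrier, S.res b = 0 := fun b hb =>
    (CRing.mem_maximalIdeal_iff S b).1 hb
  have heq : ∀ r, φ.1 (e r) = φ'.1 (e r) := AlgHom.congr_fun hφ
  have key : ∀ b ∈ IsLocalRing.maximalIdeal S.carrier, φ.1 b = φ'.1 b := by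
    intro b hb
    obtain ⟨y, hy, z, hz, rfl⟩ := Submodule.mem_sup.1 (h hb)
    rw [map_add, map_add]
    congr 1
    · clear hb
      rw [Ideal.map] at hy
      induction hy using Submodule.span_induction with
      | mem w hw => obtain ⟨r, _, rfl⟩ := hw; exact heq r
      | zero => rw [map_zero, map_zero]
      | add w w' _ _ hw hw' => rw [map_add, map_add, hw, hw']
      | smul c w hw' hw =>
        rw [smul_eq_mul, map_mul, map_mul, hw]
        refine dual_mul_eq ((hfst φ c).trans (hfst φ' c).symm) ((hfst φ' w).trans (hzero w ?_))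
        refine (Ideal.map_le_iff_le_comap.2 (fun r hr => ?_) : Ideal.map e _ ≤ _) hw'
        rw [Ideal.mem_comap, CRing.mem_maximalIdeal_iff]
        exact (AlgHom.congr_fun he r).trans ((CRing.mem_maximalIdeal_iff R r).1 hr)
    · rw [pow_two] at hz
      refine Submodule.mul_induction_on hz (fun c hc d hd => ?_) fun x y hx hy => by
        rw [map_add, map_add, hx, hy]
      rw [map_mul, map_mul]
      have h0 : ∀ (ψ : HomSet S.carrier S.res (Art.dual Λ k)), ψ.1 c * ψ.1 d = (0 : DualNumber k) :=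
        fun ψ => (dual_mul_eq (u' := (0 : DualNumber k)) ((hfst ψ c).trans (hzero c hc))
          ((hfst ψ d).trans (hzero d hd))).trans (zero_mul _)
      exact (h0 φ).trans (h0 φ').symm
  obtain ⟨r, hr⟩ := R.res_surjective (S.res a)
  have := key (a - e r) ((CRing.mem_maximalIdeal_iff S _).2 (by
    rw [map_sub, show S.res (e r) = R.res r from AlgHom.congr_fun he r, hr, sub_self]))
  rwa [map_sub, map_sub, heq, sub_left_inj] at this

/-- Injectivity on derivations into `k` gives surjectivity. -/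
theorem surjective_of_derivation (R S : CRing Λ k) [Algebra S.carrier k] [IsScalarTower Λ S.carrier k]
    (hres : ∀ s, algebraMap S.carrier k s = S.res s) (e : R.carrier →ₐ[Λ] S.carrier)
    (he : S.res.comp e = R.res)
    (h : ∀ D₁ D₂ : Derivation Λ S.carrier k, (∀ r, D₁ (e r) = D₂ (e r)) → D₁ = D₂) :
    Function.Surjective e := by
  have hfst : ∀ (ψ : HomSet S.carrier S.res (Art.dual Λ k)) b,
      TrivSqZeroExt.fst (ψ.1 b : DualNumber k) = S.res b := fun ψ b => AlgHom.congr_fun ψ.2 b
  let D : HomSet S.carrier S.res (Art.dual Λ k) → Derivation Λ S.carrier k := fun ψ =>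
    Derivation.mk'
      { toFun := fun a => TrivSqZeroExt.snd (ψ.1 a : DualNumber k)
        map_add' := fun a b => by rw [map_add]; rfl
        map_smul' := fun c a => by rw [map_smul]; rfl }
      (fun a b => by
        change TrivSqZeroExt.snd (ψ.1 (a * b) : DualNumber k) = _
        rw [map_mul]
        erw [TrivSqZeroExt.snd_mul]
        rw [hfst, hfst, Algebra.smul_def a, Algebra.smul_def b, hres, hres, op_smul_eq_smul,
          smul_eq_mul, smul_eq_mul]
        rfl)
  refine surjective_of_tangent_injective e he fun φ φ' hφ => Subtype.ext (AlgHom.ext fun a =>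
    TrivSqZeroExt.ext ((hfst φ a).trans (hfst φ' a).symm) ?_)
  exact DFunLike.congr_fun (h (D φ) (D φ') fun r =>
    congrArg TrivSqZeroExt.snd (AlgHom.congr_fun hφ r)) a

end Surjective

section SquareZero

variable {F : Art Λ k ⥤ Type v}

theorem tszeArt_zero_bijective : Function.Bijective (Art.toBase (tszeArt Λ k 0)) :=
  ⟨fun _ _ h => TrivSqZeroExt.ext h (Subsingleton.elim _ _), toBase_surjective _⟩

variable [IsNoetherianRing Λ] [Module.Finite Λ k]

/-- Under `H_ε` the comparison map is bijective for fibre products with `k ⊕ kⁿ` over `k`. -/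
theorem cmp_bijective_tszeArt (h2 : Heps F) : ∀ (n : ℕ) {B A : Art Λ k} (p' : B ⟶ A) (p'' : B ⟶ tszeArt Λ k n)
    (h : Art.IsFibreProd p' p'' (Art.toBase A) (Art.toBase (tszeArt Λ k n))), Function.Bijective (cmp F h) := by
  intro n
  induction n with
  | zero => exact fun p' p'' h => cmp_bijective_of_bijective F h tszeArt_zero_bijective
  | succ n ih =>
    intro B A p' p'' h
    obtain ⟨B', q', q'', hB'⟩ := exists_fibreProd_of_surjective (Art.toBase A) (Art.toBase (tszeArt Λ k n))
      (toBase_surjective _)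
    obtain ⟨r, hr₁, hr₂⟩ := fibreProd_liftHom hB' p' (p'' ≫ tszeTail n)
      (by rw [Art.eq_toBase (p' ≫ _), Art.eq_toBase ((p'' ≫ _) ≫ _)])
    let π : tszeArt Λ k (n + 1) ⟶ Art.dual Λ k := tszeHom (LinearMap.proj (0 : Fin (n + 1)))
    have ht := isFibreProd_tszeArt (Λ := Λ) (k := k) n
    have hsq : Art.IsFibreProd r (p'' ≫ π) (Art.toBase B') (Art.toBase (Art.dual Λ k)) := by
      refine ⟨by rw [Art.eq_toBase (r ≫ _), Art.eq_toBase ((p'' ≫ π) ≫ _)], fun b₁ b₂ e₁ e₂ => h.inj _ _ ?_ ?_,
        fun b' d e => ?_⟩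
      · rw [← hr₁]; exact congrArg q' e₁
      · refine ht.inj _ _ ?_ e₂
        change (p'' ≫ tszeTail n) b₁ = (p'' ≫ tszeTail n) b₂
        rw [← hr₂]; exact congrArg q'' e₁
      · obtain ⟨t, ht₁, ht₂⟩ := ht.surj (q'' b') d ((Art.res_app q'' b').trans e)
        obtain ⟨b, hb₁, hb₂⟩ := h.surj (q' b') t (by
          refine (hB'.w_apply b').trans ?_
          rw [← ht₁]
          exact Art.res_app (tszeTail n) t)
        refine ⟨b, hB'.inj _ _ ?_ ?_, ?_⟩
        · change (r ≫ q') b = _
          rw [hr₁]; exact hb₁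
        · change (r ≫ q'') b = _
          rw [hr₂, Art.comp_apply, hb₂, ht₁]
        · rw [Art.comp_apply, hb₂, ht₂]
    refine ⟨fun z₁ z₂ e => ?_, fun x => ?_⟩
    · obtain ⟨e₁, e₂⟩ := (cmp_eq_iff h).mp e
      refine (h2 _ _ hsq).1 ((cmp_eq_iff hsq).mpr ⟨(ih q' q'' hB').1 ((cmp_eq_iff hB').mpr ⟨?_, ?_⟩), ?_⟩)
      · rw [map_map_apply, map_map_apply, hr₁, e₁]
      · rw [map_map_apply, map_map_apply, hr₂, ← map_map_apply, ← map_map_apply, e₂]
      · rw [← map_map_apply, ← map_map_apply, e₂]
    · obtain ⟨z', hz'₁, hz'₂⟩ := exists_of_cmp_surjective (ih q' q'' hB').2 x.1.1 (F.map (tszeTail n) x.1.2) (by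
        rw [x.2, map_map_apply, Art.eq_toBase (tszeTail n ≫ _)])
      obtain ⟨z, hz₁, hz₂⟩ := exists_of_cmp_surjective (h2 _ _ hsq).2 z' (F.map π x.1.2) (by
        rw [map_map_apply, Art.eq_toBase (π ≫ _), ← x.2, ← hz'₁, map_map_apply,
          Art.eq_toBase (q' ≫ _)])
      refine ⟨z, FibProd.ext ?_ ?_⟩
      · change F.map p' z = _
        rw [← hr₁, ← map_map_apply, hz₁, hz'₁]
      · change F.map p'' z = _
        refine (h2 _ _ ht).1 ((cmp_eq_iff ht).mpr ⟨?_, ?_⟩)
        · rw [map_map_apply, ← hr₂, ← map_map_apply, hz₁, hz'₂]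
        · rw [map_map_apply, hz₂]

/-- The same for any square-zero object split over `k`. -/
theorem cmp_bijective_of_sq_zero (h2 : Heps F) {E : Art Λ k} (σ : Art.base Λ k ⟶ E)
    (hE : IsLocalRing.maximalIdeal E ^ 2 = ⊥) {B A : Art Λ k} (p' : B ⟶ A) (p'' : B ⟶ E)
    (h : Art.IsFibreProd p' p'' (Art.toBase A) (Art.toBase E)) : Function.Bijective (cmp F h) := by
  have hσ : ∀ c : k, E.res (σ c) = c := fun c => Art.res_app σ c
  let : Algebra k E := σ.toAlgHom.toRingHom.toAlgebra
  let m := (IsLocalRing.maximalIdeal E).restrictScalars k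
  have hmm : ∀ a ∈ IsLocalRing.maximalIdeal E, ∀ w ∈ IsLocalRing.maximalIdeal E, a * w = 0 := fun a ha w hw => by
    have := Ideal.mul_mem_mul ha hw
    rwa [← pow_two, hE, Ideal.mem_bot] at this
  have hsub : ∀ a : E, a - σ (E.res a) ∈ IsLocalRing.maximalIdeal E := fun a => by
    rw [Art.mem_maximalIdeal_iff, map_sub, hσ, sub_self]
  obtain ⟨s, hs⟩ := IsNoetherian.noetherian (IsLocalRing.maximalIdeal E)
  have hfg : m.FG := ⟨s, le_antisymm (Submodule.span_le.2 fun w hw => show w ∈ IsLocalRing.maximalIdeal E from hs ▸ Submodule.subset_span hw) fun w hw => by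
    rw [Submodule.restrictScalars_mem, ← hs] at hw
    induction hw using Submodule.span_induction with
    | mem y hy => exact Submodule.subset_span hy
    | zero => exact zero_mem _
    | add y z _ _ hy hz => exact add_mem hy hz
    | smul a y hy' hy =>
      rw [hs] at hy'
      have e : a • y = E.res a • y := by
        rw [smul_eq_mul, Algebra.smul_def, ← sub_eq_zero, ← sub_mul]
        exact hmm _ (hsub a) _ hy'
      rw [e]
      exact Submodule.smul_mem _ _ hy⟩
  have : Module.Finite k m := Module.Finite.iff_fg.2 hfg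
  let n := Module.finrank k m
  let b : Module.Basis (Fin n) k m := Module.finBasis k m
  let ι : (Fin n → k) ≃ₗ[k] m := b.equivFun.symm
  have hιm : ∀ v, (ι v : E) ∈ IsLocalRing.maximalIdeal E := fun v => (ι v).2
  have hιs : ∀ (c : k) v, σ c * (ι v : E) = (ι (c • v) : E) := fun c v => by
    rw [map_smul, Submodule.coe_smul_of_tower, Algebra.smul_def]
    rfl
  let e₀ : tszeArt Λ k n → E := fun x => σ (TrivSqZeroExt.fst x) + (ι (TrivSqZeroExt.snd x) : E)
  let e : tszeArt Λ k n ⟶ E := Art.homMk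
    { toFun := e₀
      map_one' := by
        change σ.toAlgHom 1 + (ι (0 : Fin n → k) : E) = 1
        rw [map_one, map_zero, Submodule.coe_zero, add_zero]
      map_mul' := fun x y => by
        change σ.toAlgHom (TrivSqZeroExt.fst x * TrivSqZeroExt.fst y) +
          (ι (TrivSqZeroExt.fst x • TrivSqZeroExt.snd y + MulOpposite.op (TrivSqZeroExt.fst y) • TrivSqZeroExt.snd x) : E) = _
        rw [op_smul_eq_smul, map_add, Submodule.coe_add, ← hιs, ← hιs,
          show σ.toAlgHom (TrivSqZeroExt.fst x * TrivSqZeroExt.fst y) =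
            σ (TrivSqZeroExt.fst x) * σ (TrivSqZeroExt.fst y) from map_mul σ.toAlgHom _ _]
        exact (show ∀ a b p q : E, p * q = 0 → a * b + (a * q + b * p) = (a + p) * (b + q) from
          fun a b p q hpq => by linear_combination -hpq)
          _ _ _ _ (hmm _ (hιm (TrivSqZeroExt.snd x)) _ (hιm (TrivSqZeroExt.snd y)))
      map_zero' := by
        change σ.toAlgHom 0 + (ι (0 : Fin n → k) : E) = 0
        rw [map_zero, map_zero, Submodule.coe_zero, add_zero]
      map_add' := fun x y => by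
        change σ.toAlgHom (TrivSqZeroExt.fst x + TrivSqZeroExt.fst y) +
          (ι (TrivSqZeroExt.snd x + TrivSqZeroExt.snd y) : E) = _
        rw [map_add ι, Submodule.coe_add,
          show σ.toAlgHom (TrivSqZeroExt.fst x + TrivSqZeroExt.fst y) =
            σ (TrivSqZeroExt.fst x) + σ (TrivSqZeroExt.fst y) from map_add σ.toAlgHom _ _]
        exact add_add_add_comm _ _ _ _
      commutes' := fun l => by
        change σ.toAlgHom (algebraMap Λ (Art.base Λ k) l) + (ι (0 : Fin n → k) : E) = _
        rw [AlgHom.commutes, map_zero, Submodule.coe_zero, add_zero] }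
    (AlgHom.ext fun x => by
      change E.res (e₀ x) = TrivSqZeroExt.fst x
      simp only [e₀, map_add, hσ, (Art.mem_maximalIdeal_iff E _).1 (hιm _), add_zero]
      rfl)
  have hres : ∀ x, E.res (e x) = TrivSqZeroExt.fst x := fun x => (Art.res_app e x).trans rfl
  have he : Function.Bijective e := by
    refine ⟨fun x y hxy => ?_, fun a => ?_⟩
    · have h1 : TrivSqZeroExt.fst x = TrivSqZeroExt.fst y := by rw [← hres, ← hres, hxy]
      refine TrivSqZeroExt.ext h1 (ι.injective (Subtype.ext ?_))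
      have h2 : e₀ x = e₀ y := hxy
      exact add_left_cancel (h2.trans (congrArg (fun c => σ c + (ι (TrivSqZeroExt.snd y) : E)) h1.symm))
    · refine ⟨(E.res a, ι.symm ⟨_, hsub a⟩), ?_⟩
      change σ (E.res a) + (ι (ι.symm ⟨_, hsub a⟩) : E) = a
      rw [LinearEquiv.apply_symm_apply]
      exact add_sub_cancel _ _
  obtain ⟨e', he₁, he₂⟩ := exists_inv_of_bijective e he
  have h' : Art.IsFibreProd p' (p'' ≫ e') (Art.toBase A) (Art.toBase (tszeArt Λ k n)) := by
    refine ⟨by rw [Art.eq_toBase (p' ≫ _), Art.eq_toBase ((p'' ≫ e') ≫ _)], fun b₁ b₂ e₁ e₂ => h.inj _ _ e₁ ?_,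
      fun a t w => ?_⟩
    · have := congrArg e e₂
      change (p'' ≫ e' ≫ e) b₁ = (p'' ≫ e' ≫ e) b₂ at this
      rwa [he₂, Category.comp_id] at this
    · obtain ⟨z, hz₁, hz₂⟩ := h.surj a (e t) (w.trans (Art.res_app e t).symm)
      refine ⟨z, hz₁, ?_⟩
      rw [Art.comp_apply, hz₂]
      change (e ≫ e') t = t
      rw [he₁]
      rfl
  obtain ⟨hinj, hsurj⟩ := cmp_bijective_tszeArt h2 n p' (p'' ≫ e') h'
  refine ⟨fun z₁ z₂ e => ?_, fun x => ?_⟩
  · obtain ⟨e₁, e₂⟩ := (cmp_eq_iff h).mp e
    exact hinj ((cmp_eq_iff h').mpr ⟨e₁, by rw [← map_map_apply, ← map_map_apply, e₂]⟩)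
  · obtain ⟨z, hz₁, hz₂⟩ := exists_of_cmp_surjective hsurj x.1.1 (F.map e' x.1.2) (by
      rw [x.2, map_map_apply, Art.eq_toBase (e' ≫ _)])
    refine ⟨z, FibProd.ext hz₁ ?_⟩
    have := congrArg (F.map e) hz₂
    rw [map_map_apply, map_map_apply, Category.assoc, he₂, Category.comp_id, map_id_elt] at this
    exact this

end SquareZero

section Str

variable {F : Art Λ k ⥤ Type v}

/-- Evaluation at a functional. -/
noncomputable def evalFun {n : ℕ} (w : F.obj (tszeArt Λ k n)) (ℓ : (Fin n → k) →ₗ[k] k) :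
    F.obj (Art.dual Λ k) := F.map (tszeHom ℓ) w

theorem nonempty_tangentStr (h0 : H0 F) (h2 : Heps F) : Nonempty (TangentStr F) := by
  classical
  let T := F.obj (Art.dual Λ k)
  obtain ⟨pt⟩ := h0.1
  have hb := h0.2
  let E := Equiv.ofBijective (cmp F (Art.isFibreProd_dual2 (Λ := Λ) (k := k))) (h2 _ _ Art.isFibreProd_dual2)
  let add : T → T → T := fun x y => F.map Art.plus (E.symm ⟨(x, y), Subsingleton.elim _ _⟩)
  let zero : T := F.map Art.baseToDual pt
  let sm : k → T → T := fun c x => F.map (Art.scale c) x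
  have hadd : ∀ z, add (F.map Art.pr₁ z) (F.map Art.pr₂ z) = F.map Art.plus z := fun z => by
    simp only [add]
    exact congrArg _ (E.symm_apply_eq.2 (FibProd.ext rfl rfl))
  have hsum : ∀ {n : ℕ} (w : F.obj (tszeArt Λ k n)) ℓ ℓ',
      add (evalFun w ℓ) (evalFun w ℓ') = evalFun w (ℓ + ℓ') := fun {n} w ℓ ℓ' => by
    let g : tszeArt Λ k n ⟶ Art.dual2 Λ k :=
      Art.homMk (Art.tszeMap (LinearMap.prod ℓ ℓ')) (AlgHom.ext fun _ => rfl)
    have h1 : g ≫ Art.pr₁ = tszeHom ℓ := Art.hom_ext (AlgHom.ext fun a => TrivSqZeroExt.ext rfl rfl)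
    have h2 : g ≫ Art.pr₂ = tszeHom ℓ' := Art.hom_ext (AlgHom.ext fun a => TrivSqZeroExt.ext rfl rfl)
    have h3 : g ≫ Art.plus = tszeHom (ℓ + ℓ') := Art.hom_ext (AlgHom.ext fun a => TrivSqZeroExt.ext rfl rfl)
    simp only [evalFun]
    rw [← h1, ← h2, ← h3, ← map_map_apply, ← map_map_apply, ← map_map_apply, hadd]
  have hzero : ∀ {n : ℕ} (w : F.obj (tszeArt Λ k n)), evalFun w 0 = zero := fun {n} w => by
    have : (tszeHom 0 : tszeArt Λ k n ⟶ _) = Art.toBase _ ≫ Art.baseToDual :=
      Art.hom_ext (AlgHom.ext fun a => TrivSqZeroExt.ext rfl rfl)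
    simp only [evalFun, this]
    rw [← map_map_apply]
    exact congrArg _ (Subsingleton.elim _ _)
  have hsm : ∀ {n : ℕ} (w : F.obj (tszeArt Λ k n)) c ℓ, sm c (evalFun w ℓ) = evalFun w (c • ℓ) := fun {n} w c ℓ => by
    simp only [sm, evalFun, map_map_apply]
    congr 1
  have rep : ∀ {n : ℕ} (e : Fin n → T), ∃ w, ∀ i, evalFun w (LinearMap.proj i) = e i := fun {n} e =>
    exists_tangent_tuple h0 h2 n e
  have hassoc : ∀ x y z, add (add x y) z = add x (add y z) := fun x y z => by
    obtain ⟨w, hw⟩ := rep ![x, y, z]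
    rw [show x = _ from (hw 0).symm, show y = _ from (hw 1).symm, show z = _ from (hw 2).symm,
      hsum, hsum, hsum, hsum, add_assoc]
  have hcomm : ∀ x y, add x y = add y x := fun x y => by
    obtain ⟨w, hw⟩ := rep ![x, y]
    rw [show x = _ from (hw 0).symm, show y = _ from (hw 1).symm, hsum, hsum, add_comm]
  have hzero_add : ∀ x, add zero x = x := fun x => by
    obtain ⟨w, hw⟩ := rep ![x]
    rw [show x = _ from (hw 0).symm, ← hzero w, hsum, zero_add]
  have hneg : ∀ x, add (sm (-1) x) x = zero := fun x => by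
    obtain ⟨w, hw⟩ := rep ![x]
    rw [show x = _ from (hw 0).symm, hsm, hsum]
    convert hzero w using 2
    ext i
    simp
  have hone : ∀ x, sm 1 x = x := fun x => by
    obtain ⟨w, hw⟩ := rep ![x]
    rw [show x = _ from (hw 0).symm, hsm, one_smul]
  have hmul : ∀ a b x, sm (a * b) x = sm a (sm b x) := fun a b x => by
    obtain ⟨w, hw⟩ := rep ![x]
    rw [show x = _ from (hw 0).symm, hsm, hsm, hsm, mul_smul]
  have hsmadd : ∀ a x y, sm a (add x y) = add (sm a x) (sm a y) := fun a x y => by
    obtain ⟨w, hw⟩ := rep ![x, y]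
    rw [show x = _ from (hw 0).symm, show y = _ from (hw 1).symm, hsm, hsm, hsum, hsum, hsm, smul_add]
  have haddsm : ∀ a b x, sm (a + b) x = add (sm a x) (sm b x) := fun a b x => by
    obtain ⟨w, hw⟩ := rep ![x]
    rw [show x = _ from (hw 0).symm, hsm, hsm, hsm, hsum, add_smul]
  have hsm0 : ∀ x, sm 0 x = zero := fun x => by
    obtain ⟨w, hw⟩ := rep ![x]
    rw [show x = _ from (hw 0).symm, hsm, zero_smul, hzero]
  have hsmzero : ∀ a, sm a zero = zero := fun a => by
    obtain ⟨w, -⟩ := rep ![zero]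
    rw [← hzero w, hsm, smul_zero]
  let : Add T := ⟨add⟩
  let : Zero T := ⟨zero⟩
  let : Neg T := ⟨sm (-1)⟩
  let grp : AddCommGroup T :=
    { AddGroup.ofLeftAxioms (G := T) hassoc hzero_add hneg with add_comm := hcomm }
  let : SMul k T := ⟨sm⟩
  exact ⟨{
    addCommGroup := grp
    module :=
      { one_smul := hone
        mul_smul := hmul
        smul_zero := hsmzero
        smul_add := hsmadd
        add_smul := haddsm
        zero_smul := hsm0 }
    smul_eq := fun _ _ => rfl
    add_eq := hadd }⟩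

/-- The differential is linear. -/
theorem exists_linearMap_map {G : Art Λ k ⥤ Type v} [TangentStr F] [TangentStr G] (h0 : H0 F) (h2 : Heps F)
    (φ : F ⟶ G) : ∃ f : TangentSpace F →ₗ[k] TangentSpace G, ⇑f = TangentSpace.map φ := by
  refine ⟨{ toFun := TangentSpace.map φ, map_add' := fun x y => ?_, map_smul' := fun c x => ?_ }, rfl⟩
  · have := h0.2
    obtain ⟨z, hz₁, hz₂⟩ := exists_of_cmp_surjective (h2 _ _ Art.isFibreProd_dual2).2 (TangentSpace.val x)
      (TangentSpace.val y) (Subsingleton.elim _ _)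
    have e1 : x + y = F.map Art.plus z := by
      refine Eq.trans ?_ (TangentStr.add_eq z)
      rw [hz₁, hz₂]; rfl
    have e2 := TangentStr.add_eq (F := G) (φ.app _ z)
    rw [← NatTrans.naturality_apply φ Art.pr₁ z, ← NatTrans.naturality_apply φ Art.pr₂ z,
      ← NatTrans.naturality_apply φ Art.plus z, hz₁, hz₂, ← e1] at e2
    exact e2.symm
  · have e1 : c • x = F.map (Art.scale c) (TangentSpace.val x) := TangentStr.smul_eq c _
    refine Eq.trans ?_ (TangentStr.smul_eq (F := G) c (φ.app _ (TangentSpace.val x))).symm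
    rw [← NatTrans.naturality_apply φ (Art.scale c) (TangentSpace.val x), ← e1]
    rfl

end Str

end Groth.Agent.ArtHull
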