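import Groth.Agent.ArtHull.Smooth
import Groth.Agent.ArtHull.Tangent
import Groth.Agent.CAlgCompl.Basic
import Groth.Agent.FSAdic.Transfer
import Mathlib.RingTheory.TensorProduct.Maps
import Mathlib.LinearAlgebra.TensorProduct.RightExactness

/-!
Completion of an augmented `Λ`-algebra as a coefficient ring, and applications: smooth coefficient rings,
coproducts, pushouts.
-/

set_option autoImplicit false

universe u v

open CategoryTheory ArtFun
open scoped TensorProduct

namespace Groth.Agent.ArtHull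

variable {Λ : Type u} {k : Type u} [CommRing Λ] [Field k] [Algebra Λ k]

theorem hom_map_maximalIdeal {C S : CRing Λ k} (h : C.carrier →ₐ[Λ] S.carrier) (hh : S.res.comp h = C.res)
    {c : C.carrier} (hc : c ∈ IsLocalRing.maximalIdeal C.carrier) :
    h c ∈ IsLocalRing.maximalIdeal S.carrier := by
  rw [CRing.mem_maximalIdeal_iff, show S.res (h c) = C.res c from AlgHom.congr_fun hh c]
  exact (CRing.mem_maximalIdeal_iff C c).1 hc

theorem exists_completion [IsNoetherianRing Λ] [Module.Finite Λ k] (T : Type u) [CommRing T] [Algebra Λ T]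
    (res : T →ₐ[Λ] k) (hres : Function.Surjective res) (hfg : (RingHom.ker res).FG) :
    ∃ (C : CRing Λ k) (i : T →ₐ[Λ] C.carrier), C.res.comp i = res ∧
      ∀ (S : CRing Λ k) (g : T →ₐ[Λ] S.carrier), S.res.comp g = res →
        ∃! h : C.carrier →ₐ[Λ] S.carrier, S.res.comp h = C.res ∧ h.comp i = g := by
  let I : Ideal T := RingHom.ker res
  have hImax : I.IsMaximal := RingHom.ker_isMaximal_of_surjective (res : T →+* k) hres
  let e : (T ⧸ I) ≃ₐ[Λ] k := Ideal.quotientKerAlgEquivOfSurjective hres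
  have : IsNoetherianRing (T ⧸ I) := isNoetherianRing_of_ringEquiv k e.symm.toRingEquiv
  have := CAlgCompl.isNoetherianRing_adicCompletion_of_fg I hfg
  have := AdicCompletion.isAdicComplete_self I hfg
  have hm := AdicCompletion.isMaximal_map_of_le I I le_rfl hfg
  have := isLocalRing_of_isAdicComplete_maximal (I.map (algebraMap T (AdicCompletion I T)))
  have hmax : IsLocalRing.maximalIdeal (AdicCompletion I T) =
      I.map (algebraMap T (AdicCompletion I T)) := (IsLocalRing.eq_maximalIdeal hm).symm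
  have : IsScalarTower Λ T (AdicCompletion I T) := IsScalarTower.of_algebraMap_eq fun l => by
    rw [AdicCompletion.algebraMap_apply, AdicCompletion.algebraMap_apply]
    rfl
  let i : T →ₐ[Λ] AdicCompletion I T := IsScalarTower.toAlgHom Λ T _
  let r : AdicCompletion I T →ₐ[Λ] k :=
    e.toAlgHom.comp ((AdicCompletion.evalOneₐ I).restrictScalars Λ)
  have hri : ∀ t, r (i t) = res t := fun t => by
    change e (AdicCompletion.evalOneₐ I (algebraMap T _ t)) = _
    rw [AlgHom.commutes]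
    rfl
  let C : CRing Λ k :=
    { carrier := AdicCompletion I T
      res := r
      res_surjective := fun c => by
        obtain ⟨t, rfl⟩ := hres c
        exact ⟨i t, hri t⟩
      isAdicComplete := by rw [hmax]; infer_instance }
  refine ⟨C, i, AlgHom.ext hri, fun S g hg => ?_⟩
  let m := IsLocalRing.maximalIdeal S.carrier
  have := S.isAdicComplete
  have hgI : I.map g ≤ m := Ideal.map_le_iff_le_comap.mpr fun t ht => by
    rw [Ideal.mem_comap, CRing.mem_maximalIdeal_iff, show S.res (g t) = res t from AlgHom.congr_fun hg t]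
    exact RingHom.mem_ker.mp ht
  have hgn : ∀ n, I ^ n ≤ (m ^ n).comap g := fun n => Ideal.map_le_iff_le_comap.mp (by
    rw [Ideal.map_pow]
    exact Ideal.pow_right_mono hgI n)
  let f : ∀ n, AdicCompletion I T →ₐ[Λ] S.carrier ⧸ m ^ n := fun n =>
    (Ideal.quotientMapₐ (m ^ n) g (hgn n)).comp ((AdicCompletion.evalₐ I n).restrictScalars Λ)
  have hf : ∀ {a b : ℕ} (hab : a ≤ b),
      (Ideal.Quotient.factorₐ Λ (Ideal.pow_le_pow_right hab)).comp (f b) = f a := by
    intro a b hab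
    refine AlgHom.ext fun x => ?_
    obtain ⟨p, rfl⟩ := AdicCompletion.mk_surjective I T x
    have hmk : ∀ n, f n (AdicCompletion.mk I T p) = Ideal.Quotient.mk _ (g (p n)) := fun n =>
      (congrArg (Ideal.quotientMapₐ (m ^ n) g (hgn n)) (AdicCompletion.evalₐ_mk I n p)).trans rfl
    rw [AlgHom.comp_apply, hmk, hmk]
    change Ideal.Quotient.mk _ (g (p b)) = Ideal.Quotient.mk _ (g (p a))
    rw [Ideal.Quotient.mk_eq_mk_iff_sub_mem, ← map_sub]
    have h := (p.property hab).symm
    rw [SModEq.sub_mem, smul_eq_mul, Ideal.mul_top] at h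
    exact hgn a h
  let h : C.carrier →ₐ[Λ] S.carrier := IsAdicComplete.liftAlgHom m f hf
  have hh : ∀ n c, Ideal.Quotient.mk (m ^ n) (h c) = f n c := fun n c =>
    IsAdicComplete.mk_liftAlgHom m f hf n c
  have hhi : h.comp i = g := AlgHom.ext fun t => sub_eq_zero.mp
    (S.isAdicComplete.toIsHausdorff.haus _ fun n => by
      rw [SModEq.zero, smul_eq_mul, Ideal.mul_top, ← Ideal.Quotient.eq]
      refine (hh n (i t)).trans ?_
      change Ideal.quotientMap _ _ (hgn n) (AdicCompletion.evalₐ I n (algebraMap T _ t)) = _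
      rw [AlgHom.commutes]
      rfl)
  have hdec : ∀ (n : ℕ) (c : C.carrier), ∃ t,
      c - i t ∈ IsLocalRing.maximalIdeal C.carrier ^ n := fun n c => by
    obtain ⟨t, ht⟩ := Ideal.Quotient.mk_surjective (AdicCompletion.evalₐ I n c)
    refine ⟨t, ?_⟩
    change c - i t ∈ IsLocalRing.maximalIdeal (AdicCompletion I T) ^ n
    rw [hmax, ← FSAdic.ker_evalₐ I hfg, RingHom.mem_ker]
    change AdicCompletion.evalₐ I n (c - algebraMap T _ t) = 0
    rw [map_sub, AlgHom.commutes, ← ht]
    exact sub_self _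
  refine ⟨h, ⟨AlgHom.ext fun c => ?_, hhi⟩, fun h' hh' => AlgHom.ext fun c => ?_⟩
  · obtain ⟨t, ht⟩ := hdec 1 c
    rw [pow_one] at ht
    have h1 : f 1 (c - i t) = 0 := by
      obtain ⟨x, hx⟩ : ∃ x, AdicCompletion.evalₐ I 1 (c - i t) = x := ⟨_, rfl⟩
      change Ideal.quotientMap _ _ (hgn 1) (AdicCompletion.evalₐ I 1 (c - i t)) = 0
      rw [show AdicCompletion.evalₐ I 1 (c - i t) = 0 from RingHom.mem_ker.mp
        ((FSAdic.ker_evalₐ I hfg 1).symm ▸ (by rw [pow_one, ← hmax]; exact ht))]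
      exact map_zero _
    have h2 : S.res (h (c - i t)) = 0 := by
      rw [← CRing.mem_maximalIdeal_iff, ← pow_one (IsLocalRing.maximalIdeal S.carrier)]
      exact Ideal.Quotient.eq_zero_iff_mem.mp ((hh 1 _).trans h1)
    rw [map_sub, map_sub, sub_eq_zero] at h2
    have h3 : C.res (c - i t) = 0 := (CRing.mem_maximalIdeal_iff C _).1 ht
    rw [map_sub, sub_eq_zero] at h3
    change S.res (h c) = C.res c
    rw [h2, h3, show h (i t) = g t from AlgHom.congr_fun hhi t]
    exact (AlgHom.congr_fun hg t).trans (hri t).symm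
  · refine sub_eq_zero.mp (S.isAdicComplete.toIsHausdorff.haus _ fun n => ?_)
    rw [SModEq.zero, smul_eq_mul, Ideal.mul_top]
    obtain ⟨t, ht⟩ := hdec n c
    have key : ∀ q : C.carrier →ₐ[Λ] S.carrier, S.res.comp q = C.res → q.comp i = g →
        q c - g t ∈ m ^ n := fun q hq hqi => by
      rw [show g t = q (i t) from (AlgHom.congr_fun hqi t).symm, ← map_sub]
      refine (Ideal.map_le_iff_le_comap.mp ?_) ht
      rw [Ideal.map_pow]
      exact Ideal.pow_right_mono
        (Ideal.map_le_iff_le_comap.mpr fun x hx => Ideal.mem_comap.mpr (hom_map_maximalIdeal q hq hx)) n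
    have h1 := key h' hh'.1 hh'.2
    have hres' : S.res.comp h = C.res := by
      refine AlgHom.ext fun c' => ?_
      obtain ⟨t', ht'⟩ := hdec 1 c'
      rw [pow_one] at ht'
      have h2 : S.res (h (c' - i t')) = 0 := by
        rw [← CRing.mem_maximalIdeal_iff, ← pow_one (IsLocalRing.maximalIdeal S.carrier)]
        refine Ideal.Quotient.eq_zero_iff_mem.mp ((hh 1 _).trans ?_)
        change Ideal.quotientMap _ _ (hgn 1) (AdicCompletion.evalₐ I 1 (c' - i t')) = 0
        rw [show AdicCompletion.evalₐ I 1 (c' - i t') = 0 from RingHom.mem_ker.mp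
          ((FSAdic.ker_evalₐ I hfg 1).symm ▸ (by rw [pow_one, ← hmax]; exact ht'))]
        exact map_zero _
      rw [map_sub, map_sub, sub_eq_zero] at h2
      have h3 : C.res (c' - i t') = 0 := (CRing.mem_maximalIdeal_iff C _).1 ht'
      rw [map_sub, sub_eq_zero] at h3
      change S.res (h c') = C.res c'
      rw [h2, h3, show h (i t') = g t' from AlgHom.congr_fun hhi t']
      exact (AlgHom.congr_fun hg t').trans (hri t').symm
    have := sub_mem h1 (key h hres' hhi)
    rwa [sub_sub_sub_cancel_right] at this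

/-- A free coefficient ring: maps out of it to coefficient rings are given by the images of finitely
many generators with prescribed residues. -/
theorem exists_free_cring [IsNoetherianRing Λ] [Module.Finite Λ k] {σ : Type u} [Finite σ] (c : σ → k)
    (hc : Algebra.adjoin Λ (Set.range c) = ⊤) :
    ∃ (C : CRing Λ k) (w : σ → C.carrier), (∀ s, C.res (w s) = c s) ∧
      ∀ (S : CRing Λ k) (v : σ → S.carrier), (∀ s, S.res (v s) = c s) →
        ∃! h : C.carrier →ₐ[Λ] S.carrier, S.res.comp h = C.res ∧ ∀ s, h (w s) = v s := by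
  let res : MvPolynomial σ Λ →ₐ[Λ] k := MvPolynomial.aeval c
  have hres : Function.Surjective res := by
    rw [← AlgHom.range_eq_top, ← Algebra.adjoin_range_eq_range_aeval, hc]
  obtain ⟨C, i, hi, hu⟩ := exists_completion _ res hres (IsNoetherian.noetherian _)
  refine ⟨C, fun s => i (MvPolynomial.X s), fun s =>
    (AlgHom.congr_fun hi _).trans (MvPolynomial.aeval_X c s), fun S v hv => ?_⟩
  obtain ⟨h, ⟨h1, h2⟩, huniq⟩ := hu S (MvPolynomial.aeval v) (MvPolynomial.algHom_ext fun s => by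
    change S.res (MvPolynomial.aeval v (MvPolynomial.X s)) = res (MvPolynomial.X s)
    rw [MvPolynomial.aeval_X, MvPolynomial.aeval_X, hv])
  refine ⟨h, ⟨h1, fun s => (AlgHom.congr_fun h2 _).trans (MvPolynomial.aeval_X v s)⟩, fun h' hh' =>
    huniq h' ⟨hh'.1, MvPolynomial.algHom_ext fun s => ?_⟩⟩
  change h' (i (MvPolynomial.X s)) = _
  rw [hh'.2, MvPolynomial.aeval_X]

theorem exists_smooth [IsNoetherianRing Λ] [Module.Finite Λ k] :
    ∃ R : CRing Λ k, IsSmoothFunctor (hR R.carrier R.res) := by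
  obtain ⟨r, c, hc⟩ := Submodule.fg_iff_exists_fin_generating_family.1
    (Module.Finite.fg_top (R := Λ) (M := k))
  obtain ⟨C, w, hw, hu⟩ := exists_free_cring (σ := ULift.{u} (Fin r)) (fun s => c s.down) (eq_top_iff.mpr
    fun x _ => by
      obtain ⟨l, rfl⟩ := (Submodule.mem_span_range_iff_exists_fun Λ).1
        (hc.symm ▸ Submodule.mem_top : x ∈ Submodule.span Λ (Set.range c))
      exact Subalgebra.sum_mem _ fun i _ =>
        Subalgebra.smul_mem _ (Algebra.subset_adjoin (Set.mem_range_self (ULift.up i))) _)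
  refine ⟨C, fun B A μ hμ φ => ?_⟩
  choose b hb using fun s => hμ (φ.1 (w s))
  have hbr : ∀ s, (artCRing B).res (b s) = c s.down := fun s => by
    change B.res (b s) = _
    rw [← Art.res_app μ, hb, ← hw s]
    exact AlgHom.congr_fun φ.2 (w s)
  obtain ⟨ψ, ⟨hψr, hψ⟩, -⟩ := hu (artCRing B) b hbr
  refine ⟨⟨ψ, hψr⟩, Subtype.ext ?_⟩
  refine (hu (artCRing A) (fun s => φ.1 (w s)) fun s =>
    (AlgHom.congr_fun φ.2 (w s)).trans (hw s)).unique ⟨?_, fun s => ?_⟩ ⟨φ.2, fun _ => rfl⟩
  · exact (HomSet.map μ ⟨ψ, hψr⟩).2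
  · change μ (ψ (w s)) = φ.1 (w s)
    rw [hψ, hb]

/-- Quotient of a coefficient ring by a proper ideal. -/
theorem exists_quotient_cring (C : CRing Λ k) (J : Ideal C.carrier) (hJ : J ≤ RingHom.ker C.res) :
    ∃ (P : CRing Λ k) (q : C.carrier →ₐ[Λ] P.carrier), Function.Surjective q ∧ RingHom.ker q = J ∧
      P.res.comp q = C.res := by
  have hne : J ≠ ⊤ := fun h => by
    simpa using RingHom.mem_ker.mp (hJ (h ▸ Submodule.mem_top : (1 : C.carrier) ∈ J))
  have : Nontrivial (C.carrier ⧸ J) := Ideal.Quotient.nontrivial_iff.2 hne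
  have : IsLocalRing (C.carrier ⧸ J) := .of_surjective' _ Ideal.Quotient.mk_surjective
  have := C.isAdicComplete
  exact ⟨{ carrier := C.carrier ⧸ J
           res := Ideal.Quotient.liftₐ J C.res fun a ha => RingHom.mem_ker.mp (hJ ha)
           res_surjective := fun c => by
             obtain ⟨a, ha⟩ := C.res_surjective c
             exact ⟨Ideal.Quotient.mk J a, ha⟩
           isAdicComplete := isAdicComplete_quotient J },
    Ideal.Quotient.mkₐ Λ J, Ideal.Quotient.mk_surjective, Ideal.Quotient.mkₐ_ker Λ J,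
    Ideal.Quotient.liftₐ_comp _ _ _⟩

theorem fg_ker_productMap [IsNoetherianRing Λ] [Module.Finite Λ k] (R S : CRing Λ k) :
    (RingHom.ker (Algebra.TensorProduct.productMap R.res S.res)).FG := by
  let q := Algebra.TensorProduct.map R.res S.res
  have hq : Function.Surjective q := TensorProduct.map_surjective R.res_surjective S.res_surjective
  let μ : k ⊗[Λ] k →ₐ[Λ] k := Algebra.TensorProduct.productMap (AlgHom.id Λ k) (AlgHom.id Λ k)
  have hcomp : Algebra.TensorProduct.productMap R.res S.res = μ.comp q :=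
    Algebra.TensorProduct.ext' fun a b => by simp [μ, q]
  have : IsNoetherianRing (k ⊗[Λ] k) :=
    isNoetherianRing_iff.mpr (isNoetherian_of_tower Λ inferInstance)
  rw [hcomp]
  refine Ideal.fg_ker_comp q.toRingHom μ.toRingHom ?_ (IsNoetherian.noetherian _) hq
  change (RingHom.ker q).FG
  rw [Algebra.TensorProduct.map_ker _ _ R.res_surjective S.res_surjective]
  exact Submodule.FG.sup (Ideal.FG.map (IsNoetherian.noetherian _) _)
    (Ideal.FG.map (IsNoetherian.noetherian _) _)

theorem exists_coproduct [IsNoetherianRing Λ] [Module.Finite Λ k] (R S : CRing Λ k) :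
    ∃ (P : CRing Λ k) (i₁ : R.carrier →ₐ[Λ] P.carrier) (i₂ : S.carrier →ₐ[Λ] P.carrier),
      P.res.comp i₁ = R.res ∧ P.res.comp i₂ = S.res ∧
      ∀ (T : CRing Λ k) (g₁ : R.carrier →ₐ[Λ] T.carrier) (g₂ : S.carrier →ₐ[Λ] T.carrier),
        T.res.comp g₁ = R.res → T.res.comp g₂ = S.res →
          ∃! h : P.carrier →ₐ[Λ] T.carrier, T.res.comp h = P.res ∧ h.comp i₁ = g₁ ∧ h.comp i₂ = g₂ := by
  let res := Algebra.TensorProduct.productMap R.res S.res
  obtain ⟨P, i, hi, hu⟩ := exists_completion _ res (fun c => by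
    obtain ⟨a, rfl⟩ := R.res_surjective c
    exact ⟨a ⊗ₜ 1, by simp [res]⟩) (fg_ker_productMap R S)
  refine ⟨P, i.comp Algebra.TensorProduct.includeLeft, i.comp Algebra.TensorProduct.includeRight,
    ?_, ?_, fun T g₁ g₂ h₁ h₂ => ?_⟩
  · rw [← AlgHom.comp_assoc, hi]; exact Algebra.TensorProduct.productMap_left _ _
  · rw [← AlgHom.comp_assoc, hi]; exact Algebra.TensorProduct.productMap_right _ _
  obtain ⟨h, ⟨hr, hc⟩, huniq⟩ := hu T (Algebra.TensorProduct.productMap g₁ g₂)
    (Algebra.TensorProduct.ext' fun a b => by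
      simp [res, ← show T.res.comp g₁ = R.res from h₁, ← show T.res.comp g₂ = S.res from h₂])
  refine ⟨h, ⟨hr, ?_, ?_⟩, fun h' hh' => huniq h' ⟨hh'.1, Algebra.TensorProduct.ext' fun a b => ?_⟩⟩
  · rw [← AlgHom.comp_assoc, hc]; exact Algebra.TensorProduct.productMap_left _ _
  · rw [← AlgHom.comp_assoc, hc]; exact Algebra.TensorProduct.productMap_right _ _
  · rw [← mul_one a, ← one_mul b, ← Algebra.TensorProduct.tmul_mul_tmul, map_mul, map_mul]
    exact congrArg₂ (· * ·)
      ((AlgHom.congr_fun hh'.2.1 a).trans (by simp)) ((AlgHom.congr_fun hh'.2.2 b).trans (by simp))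

theorem exists_pushout [IsNoetherianRing Λ] [Module.Finite Λ k] (R S₁ S₂ : CRing Λ k)
    (f₁ : R.carrier →ₐ[Λ] S₁.carrier) (hf₁ : S₁.res.comp f₁ = R.res)
    (f₂ : R.carrier →ₐ[Λ] S₂.carrier) (hf₂ : S₂.res.comp f₂ = R.res) :
    ∃ (P : CRing Λ k) (i₁ : S₁.carrier →ₐ[Λ] P.carrier) (i₂ : S₂.carrier →ₐ[Λ] P.carrier),
      P.res.comp i₁ = S₁.res ∧ P.res.comp i₂ = S₂.res ∧ i₁.comp f₁ = i₂.comp f₂ ∧
      ∀ (T : CRing Λ k) (g₁ : S₁.carrier →ₐ[Λ] T.carrier) (g₂ : S₂.carrier →ₐ[Λ] T.carrier),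
        T.res.comp g₁ = S₁.res → T.res.comp g₂ = S₂.res → g₁.comp f₁ = g₂.comp f₂ →
          ∃! h : P.carrier →ₐ[Λ] T.carrier,
            T.res.comp h = P.res ∧ h.comp i₁ = g₁ ∧ h.comp i₂ = g₂ := by
  obtain ⟨C, i₁, i₂, h₁, h₂, hu⟩ := exists_coproduct S₁ S₂
  let J : Ideal C.carrier := Ideal.span (Set.range fun r => i₁ (f₁ r) - i₂ (f₂ r))
  have hJ : J ≤ RingHom.ker C.res := Ideal.span_le.mpr (by
    rintro - ⟨r, rfl⟩
    change C.res (i₁ (f₁ r) - i₂ (f₂ r)) = 0
    rw [map_sub, show C.res (i₁ (f₁ r)) = R.res r from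
      (AlgHom.congr_fun h₁ _).trans (AlgHom.congr_fun hf₁ r),
      show C.res (i₂ (f₂ r)) = R.res r from
      (AlgHom.congr_fun h₂ _).trans (AlgHom.congr_fun hf₂ r), sub_self])
  obtain ⟨P, q, hq, hker, hqr⟩ := exists_quotient_cring C J hJ
  refine ⟨P, q.comp i₁, q.comp i₂, by rw [← AlgHom.comp_assoc, hqr, h₁],
    by rw [← AlgHom.comp_assoc, hqr, h₂], AlgHom.ext fun r => ?_, fun T g₁ g₂ e₁ e₂ e => ?_⟩
  · rw [← sub_eq_zero]
    change q (i₁ (f₁ r)) - q (i₂ (f₂ r)) = 0
    rw [← map_sub, ← RingHom.mem_ker, hker]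
    exact Ideal.subset_span ⟨r, rfl⟩
  obtain ⟨h, ⟨hr, hh₁, hh₂⟩, huniq⟩ := hu T g₁ g₂ e₁ e₂
  have hle : RingHom.ker q ≤ RingHom.ker h := by
    rw [hker]
    refine Ideal.span_le.mpr ?_
    rintro - ⟨r, rfl⟩
    change h (i₁ (f₁ r) - i₂ (f₂ r)) = 0
    rw [map_sub, show h (i₁ (f₁ r)) = g₁ (f₁ r) from AlgHom.congr_fun hh₁ _,
      show h (i₂ (f₂ r)) = g₂ (f₂ r) from AlgHom.congr_fun hh₂ _, sub_eq_zero]
    exact AlgHom.congr_fun e r
  let h' : P.carrier →ₐ[Λ] T.carrier :=
    (Ideal.Quotient.liftₐ (RingHom.ker q) h fun a ha => RingHom.mem_ker.mp (hle ha)).comp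
      (Ideal.quotientKerAlgEquivOfSurjective hq).symm.toAlgHom
  have hh' : ∀ a, h' (q a) = h a := fun a => by
    have : (Ideal.quotientKerAlgEquivOfSurjective hq).symm (q a) = Ideal.Quotient.mk _ a :=
      (Ideal.quotientKerAlgEquivOfSurjective hq).symm_apply_eq.mpr rfl
    exact congrArg (Ideal.Quotient.liftₐ (RingHom.ker q) h fun a ha => RingHom.mem_ker.mp (hle ha)) this
  refine ⟨h', ⟨AlgHom.ext fun y => ?_, ?_, ?_⟩, fun k' hk' => AlgHom.ext fun y => ?_⟩
  · obtain ⟨a, rfl⟩ := hq y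
    change T.res (h' (q a)) = _
    rw [hh']
    exact (AlgHom.congr_fun hr a).trans (AlgHom.congr_fun hqr a).symm
  · exact AlgHom.ext fun a => (hh' _).trans (AlgHom.congr_fun hh₁ a)
  · exact AlgHom.ext fun a => (hh' _).trans (AlgHom.congr_fun hh₂ a)
  · obtain ⟨a, rfl⟩ := hq y
    rw [hh', ← huniq (k'.comp q) ⟨by rw [← AlgHom.comp_assoc, hk'.1, hqr], hk'.2.1, hk'.2.2⟩]
    rfl

end Groth.Agent.ArtHull
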