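import Groth.Prelude.Def_ArtFun5
import Groth.Agent.AdicNoeth.Basic
import Mathlib.RingTheory.AdicCompletion.LocalRing
import Mathlib.RingTheory.Polynomial.Basic

/-!
The free coefficient ring on `n` generators: completion of `Λ[X₁, …, Xₙ]` at the kernel of the
augmentation.
-/

set_option autoImplicit false

universe u

open CategoryTheory ArtFun

namespace Groth.Agent.ArtHull

variable {Λ : Type u} {k : Type u} [CommRing Λ] [Field k] [Algebra Λ k]

/-- Two augmentations of a local algebra to `k` agree when `Λ → k` is surjective. -/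
theorem res_unique (hk : Function.Surjective (algebraMap Λ k)) {R : Type u} [CommRing R] [Algebra Λ R]
    [IsLocalRing R] (f g : R →ₐ[Λ] k) : f = g := by
  refine AlgHom.ext fun r => ?_
  obtain ⟨l, hl⟩ := hk (f r)
  have hs : ∀ h : R →ₐ[Λ] k, Function.Surjective h := fun h c => by
    obtain ⟨l, rfl⟩ := hk c
    exact ⟨algebraMap Λ R l, h.commutes l⟩
  have hker : ∀ h : R →ₐ[Λ] k, RingHom.ker (h : R →+* k) = IsLocalRing.maximalIdeal R := fun h =>
    IsLocalRing.eq_maximalIdeal (RingHom.ker_isMaximal_of_surjective _ (hs h))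
  have h1 : r - algebraMap Λ R l ∈ RingHom.ker (f : R →+* k) := by
    rw [RingHom.mem_ker]
    change f _ = 0
    rw [map_sub, f.commutes, hl, sub_self]
  rw [hker f, ← hker g, RingHom.mem_ker] at h1
  change g _ = 0 at h1
  rw [map_sub, g.commutes, hl, sub_eq_zero] at h1
  exact h1.symm

/-- The free coefficient ring on `n` generators. -/
theorem exists_free [IsNoetherianRing Λ] (hk : Function.Surjective (algebraMap Λ k)) (n : ℕ) :
    ∃ (C : CRing Λ k) (t : Fin n → C.carrier), (∀ i, C.res (t i) = 0) ∧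
      ∀ (A : Art Λ k) (a : Fin n → A), (∀ i, A.res (a i) = 0) →
        ∃! w : HomSet C.carrier C.res A, ∀ i, w.1 (t i) = a i := by
  classical
  let P := MvPolynomial (Fin n) Λ
  let r : P →ₐ[Λ] k := MvPolynomial.aeval fun _ => 0
  have hr : Function.Surjective r := fun c => by
    obtain ⟨l, rfl⟩ := hk c
    exact ⟨algebraMap Λ P l, r.commutes l⟩
  let M : Ideal P := RingHom.ker (r : P →+* k)
  have hM : M.IsMaximal := RingHom.ker_isMaximal_of_surjective _ hr
  have hfg : M.FG := IsNoetherian.noetherian M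
  let C₀ := AdicCompletion M P
  have hMC := AdicCompletion.isMaximal_map_of_le M M le_rfl hfg
  have hcomp := AdicCompletion.isAdicComplete_self M hfg
  have hloc : IsLocalRing C₀ :=
    isLocalRing_of_isAdicComplete_maximal (M.map (algebraMap P C₀))
  have hmax : IsLocalRing.maximalIdeal C₀ = M.map (algebraMap P C₀) :=
    (IsLocalRing.eq_maximalIdeal hMC).symm
  have : IsNoetherianRing C₀ := Groth.Agent.AdicNoeth.isNoetherianRing_adicCompletion M
  let res : C₀ →ₐ[Λ] k :=
    (Ideal.Quotient.liftₐ M r fun x hx => hx).comp ((AdicCompletion.evalOneₐ M).restrictScalars Λ)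
  have hres : Function.Surjective res := fun c => by
    obtain ⟨l, rfl⟩ := hk c
    exact ⟨algebraMap Λ C₀ l, res.commutes l⟩
  let C : CRing Λ k :=
    { carrier := C₀
      res := res
      res_surjective := hres
      isAdicComplete := by rw [hmax]; exact hcomp }
  have hX : ∀ i, res (algebraMap P C₀ (MvPolynomial.X i)) = 0 := fun i => by
    change Ideal.Quotient.liftₐ M r (fun x hx => hx)
      (AdicCompletion.evalOneₐ M (algebraMap P C₀ (MvPolynomial.X i))) = 0
    rw [AlgHom.commutes]
    exact MvPolynomial.aeval_X _ i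
  refine ⟨C, fun i => algebraMap P C₀ (MvPolynomial.X i), hX, fun A a ha => ?_⟩
  obtain ⟨N, hN⟩ := (isArtinianRing_iff_isNilpotent_maximalIdeal A).mp A.isArtinianRing
  let w₀ : P →ₐ[Λ] A := MvPolynomial.aeval a
  have hw₀ : A.res.comp w₀ = r := MvPolynomial.algHom_ext fun i => by simp [w₀, r, ha]
  have hMN : ∀ x ∈ M ^ N, w₀ x = 0 := fun x hx => by
    have h1 : M.map (w₀ : P →+* A) ≤ IsLocalRing.maximalIdeal A :=
      Ideal.map_le_iff_le_comap.mpr fun y hy => by
        rw [Ideal.mem_comap, Art.mem_maximalIdeal_iff]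
        exact (AlgHom.congr_fun hw₀ y).trans hy
    have h2 := Ideal.pow_right_mono h1 N
      (Ideal.map_pow (w₀ : P →+* A) M N ▸ Ideal.mem_map_of_mem (w₀ : P →+* A) hx)
    rwa [hN, Ideal.zero_eq_bot, Ideal.mem_bot] at h2
  let w : C₀ →ₐ[Λ] A :=
    (Ideal.Quotient.liftₐ (M ^ N) w₀ hMN).comp ((AdicCompletion.evalₐ M N).restrictScalars Λ)
  have hwP : ∀ p, w (algebraMap P C₀ p) = w₀ p := fun p => by
    change Ideal.Quotient.liftₐ (M ^ N) w₀ hMN (AdicCompletion.evalₐ M N (algebraMap P C₀ p)) = _
    rw [AlgHom.commutes]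
    rfl
  refine ⟨⟨w, res_unique hk (R := C₀) _ _⟩, fun i => ?_, ?_⟩
  · exact (hwP _).trans (MvPolynomial.aeval_X a i)
  · rintro ⟨w', hw'⟩ hw'a
    refine Subtype.ext (AlgHom.ext fun c => ?_)
    change w' c = w c
    obtain ⟨p, hp⟩ := Ideal.Quotient.mk_surjective (AdicCompletion.evalₐ M N c)
    have hkill : ∀ (v : C₀ →ₐ[Λ] A), A.res.comp v = res → v (c - algebraMap P C₀ p) = 0 := by
      intro v hv
      have hm : c - algebraMap P C₀ p ∈ (M ^ N).map (algebraMap P C₀) := by
        have h0 : AdicCompletion.evalₐ M N (c - algebraMap P C₀ p) = 0 := by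
          rw [map_sub, AlgHom.commutes, ← hp, Ideal.Quotient.algebraMap_eq, sub_self]
        rw [← Submodule.restrictScalars_mem P, ← Ideal.smul_top_eq_map,
          AdicCompletion.pow_smul_top_eq_ker_eval hfg, LinearMap.mem_ker]
        exact (AdicCompletion.factor_evalₐ_eq_eval M (c - algebraMap P C₀ p)
          (by rw [smul_eq_mul, Ideal.mul_top])).symm.trans ((congrArg _ h0).trans (map_zero _))
      rw [Ideal.map_pow, ← hmax] at hm
      have h1 : (IsLocalRing.maximalIdeal C₀).map (v : C₀ →+* A) ≤ IsLocalRing.maximalIdeal A :=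
        Ideal.map_le_iff_le_comap.mpr fun y hy => by
          rw [Ideal.mem_comap, Art.mem_maximalIdeal_iff]
          exact (AlgHom.congr_fun hv y).trans ((C.mem_maximalIdeal_iff y).1 hy)
      have h2 := Ideal.pow_right_mono h1 N
        (Ideal.map_pow (v : C₀ →+* A) _ N ▸ Ideal.mem_map_of_mem (v : C₀ →+* A) hm)
      rwa [hN, Ideal.zero_eq_bot, Ideal.mem_bot] at h2
    have e : w'.comp (IsScalarTower.toAlgHom Λ P C₀) = w₀ := MvPolynomial.algHom_ext fun i => by
      exact (hw'a i).trans (MvPolynomial.aeval_X a i).symm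
    have e' : w' (algebraMap P C₀ p) = w (algebraMap P C₀ p) :=
      (AlgHom.congr_fun e p).trans (hwP p).symm
    have a1 := hkill w' hw'
    have a2 := hkill w (res_unique hk (R := C₀) _ _)
    rw [map_sub, sub_eq_zero] at a1 a2
    rw [a1, a2, e']

end Groth.Agent.ArtHull
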