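import Groth.Agent.ArtHull.Basic
import Groth.Agent.ArtHull.Free

/-!
Consequences of Schlessinger's conditions: surjectivity for every surjective leg, linearity of the
tangent space on finite products, and the square of a small extension with the dual numbers.
-/

set_option autoImplicit false

universe u v

open CategoryTheory ArtFun

namespace Groth.Agent.ArtHull

variable {Λ : Type u} {k : Type u} [CommRing Λ] [Field k] [Algebra Λ k]

/-- Morphisms into a fibre product, from any augmented algebra. -/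
theorem fibreProd_lift {B A A' A'' : Art Λ k} {p' : B ⟶ A'} {p'' : B ⟶ A''} {f' : A' ⟶ A} {f'' : A'' ⟶ A}
    (h : Art.IsFibreProd p' p'' f' f'') {R : Type u} [CommRing R] [Algebra Λ R] {resR : R →ₐ[Λ] k}
    (a : HomSet R resR A') (b : HomSet R resR A'') (hab : HomSet.map f' a = HomSet.map f'' b) :
    ∃ c : HomSet R resR B, HomSet.map p' c = a ∧ HomSet.map p'' c = b := by
  choose c hc₁ hc₂ using fun r => h.surj (a.1 r) (b.1 r) (AlgHom.congr_fun (congrArg Subtype.val hab) r)
  let cA : R →ₐ[Λ] B :=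
    { toFun := c
      map_one' := h.inj _ _ (by rw [hc₁, map_one, map_one]) (by rw [hc₂, map_one, map_one])
      map_mul' := fun r s => h.inj _ _ (by rw [hc₁, map_mul, map_mul, hc₁, hc₁])
        (by rw [hc₂, map_mul, map_mul, hc₂, hc₂])
      map_zero' := h.inj _ _ (by rw [hc₁, map_zero, map_zero]) (by rw [hc₂, map_zero, map_zero])
      map_add' := fun r s => h.inj _ _ (by rw [hc₁, map_add, map_add, hc₁, hc₁])
        (by rw [hc₂, map_add, map_add, hc₂, hc₂])
      commutes' := fun l => h.inj _ _ (by rw [hc₁, AlgHom.commutes, AlgHom.commutes])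
        (by rw [hc₂, AlgHom.commutes, AlgHom.commutes]) }
  have hres : B.res.comp cA = resR := AlgHom.ext fun r => by
    rw [← a.2]
    change B.res (c r) = A'.res (a.1 r)
    rw [← hc₁, Art.res_app]
  exact ⟨⟨cA, hres⟩, Subtype.ext (AlgHom.ext hc₁), Subtype.ext (AlgHom.ext hc₂)⟩

/-- Morphisms into a fibre product, inside `Art Λ k`. -/
theorem fibreProd_liftHom {B A A' A'' : Art Λ k} {p' : B ⟶ A'} {p'' : B ⟶ A''} {f' : A' ⟶ A} {f'' : A'' ⟶ A}
    (h : Art.IsFibreProd p' p'' f' f'') {D : Art Λ k} (a : D ⟶ A') (b : D ⟶ A'') (hab : a ≫ f' = b ≫ f'') :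
    ∃ c : D ⟶ B, c ≫ p' = a ∧ c ≫ p'' = b := by
  obtain ⟨c, h₁, h₂⟩ := fibreProd_lift h (R := D) (resR := D.res) ⟨a.toAlgHom, a.res_comp⟩
    ⟨b.toAlgHom, b.res_comp⟩ (Subtype.ext (congrArg Art.Hom.toAlgHom hab))
  exact ⟨Art.homMk c.1 c.2, Art.hom_ext (congrArg Subtype.val h₁), Art.hom_ext (congrArg Subtype.val h₂)⟩

/-- `H̄` gives surjectivity for all squares with a surjective leg. -/
theorem cmp_surjective_of_surjective [IsNoetherianRing Λ] (hk : Function.Surjective (algebraMap Λ k))
    {F : Art Λ k ⥤ Type v} (hbar : Hbar F) {B A A' A'' : Art Λ k} {p' : B ⟶ A'} {p'' : B ⟶ A''}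
    {f' : A' ⟶ A} {f'' : A'' ⟶ A} (h : Art.IsFibreProd p' p'' f' f'') (hs : Function.Surjective f'') :
    Function.Surjective (cmp F h) := by
  have hbij : ∀ {A'' A : Art Λ k} (f'' : A'' ⟶ A), Function.Bijective f'' →
      ∀ {B A' : Art Λ k} (p' : B ⟶ A') (p'' : B ⟶ A'') (f' : A' ⟶ A)
        (h : Art.IsFibreProd p' p'' f' f''), Function.Surjective (cmp F h) := by
    intro A'' A f'' hf B A' p' p'' f' h x
    have hp' : Function.Bijective p' := by
      refine ⟨fun b₁ b₂ e => h.inj _ _ e (hf.1 ?_), fun a' => ?_⟩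
      · exact (h.w_apply b₁).symm.trans ((congrArg f' e).trans (h.w_apply b₂))
      · obtain ⟨a'', ha⟩ := hf.2 (f' a')
        obtain ⟨b, hb, -⟩ := h.surj a' a'' ha.symm
        exact ⟨b, hb⟩
    obtain ⟨g, hg₁, hg₂⟩ := exists_inv_of_bijective p' hp'
    obtain ⟨g'', hi₁, -⟩ := exists_inv_of_bijective f'' hf
    refine ⟨F.map g x.1.1, FibProd.ext ?_ ?_⟩
    · change F.map p' (F.map g x.1.1) = _
      rw [← Functor.map_comp_apply, hg₂, F.map_id]; rfl
    · change F.map p'' (F.map g x.1.1) = _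
      have e1 : F.map f'' (F.map p'' (F.map g x.1.1)) = F.map f'' x.1.2 := by
        rw [← x.2, ← Functor.map_comp_apply, ← Functor.map_comp_apply, ← h.w, ← Category.assoc,
          hg₂, Category.id_comp]
      have e2 := congrArg (F.map g'') e1
      rw [← Functor.map_comp_apply, ← Functor.map_comp_apply F f'' g'', hi₁, F.map_id] at e2
      exact e2
  let P : ∀ {A'' A : Art Λ k}, (A'' ⟶ A) → Prop := fun {A'' A} f'' =>
    ∀ {B A' : Art Λ k} (p' : B ⟶ A') (p'' : B ⟶ A'') (f' : A' ⟶ A)
      (h : Art.IsFibreProd p' p'' f' f''), Function.Surjective (cmp F h)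
  refine surjective_induction P hbij ?_ f'' hs p' p'' f' h
  intro A'' C A g t _ hg ht B A' p' p'' f' h x
  have hPg : P g := by
    rcases hg with hg | hg
    · exact hbij g hg
    · exact fun p' p'' f' h => hbar p' p'' f' g h hg
  obtain ⟨B', q', q'', hB'⟩ := exists_fibreProd hk f' t
  obtain ⟨r, hr₁, hr₂⟩ := fibreProd_liftHom hB' p' (p'' ≫ g) (by rw [h.w, Category.assoc])
  have hsq : Art.IsFibreProd r p'' q'' g := by
    refine ⟨hr₂, fun b₁ b₂ e₁ e₂ => h.inj _ _ ?_ e₂, fun b' a'' e => ?_⟩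
    · rw [← hr₁]
      exact congrArg q' e₁
    · have e0 : f' (q' b') = (g ≫ t) a'' := by
        rw [hB'.w_apply, e]; rfl
      obtain ⟨b, hb₁, hb₂⟩ := h.surj (q' b') a'' e0
      refine ⟨b, hB'.inj _ _ ?_ ?_, hb₂⟩
      · change (r ≫ q') b = _
        rw [hr₁]; exact hb₁
      · change (r ≫ q'') b = _
        rw [hr₂, Art.comp_apply, hb₂, e]
  obtain ⟨z', hz'⟩ := ht q' q'' f' hB' ⟨(x.1.1, F.map g x.1.2), x.2.trans (Functor.map_comp_apply ..)⟩
  have hz'₁ : F.map q' z' = x.1.1 := congrArg (fun y => y.1.1) hz'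
  have hz'₂ : F.map q'' z' = F.map g x.1.2 := congrArg (fun y => y.1.2) hz'
  obtain ⟨z, hz⟩ := hPg r p'' q'' hsq ⟨(z', x.1.2), hz'₂⟩
  have hz₁ : F.map r z = z' := congrArg (fun y => y.1.1) hz
  have hz₂ : F.map p'' z = x.1.2 := congrArg (fun y => y.1.2) hz
  refine ⟨z, FibProd.ext ?_ hz₂⟩
  change F.map p' z = _
  rw [← hr₁, Functor.map_comp_apply, hz₁, hz'₁]

variable (Λ k) in
/-- `k ⊕ k^n` as an object. -/
def tszeArt (n : ℕ) : Art Λ k :=
  { carrier := TrivSqZeroExt k (Fin n → k)
    isLocalRing := Art.isLocalRing_tsze k (Fin n → k)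
    isArtinianRing := Art.isArtinianRing_tsze k (Fin n → k)
    res := TrivSqZeroExt.fstHom Λ k (Fin n → k)
    res_surjective := fun a => ⟨TrivSqZeroExt.inl a, rfl⟩ }

/-- A functional gives a map to the dual numbers. -/
def tszeHom {n : ℕ} (ℓ : (Fin n → k) →ₗ[k] k) : tszeArt Λ k n ⟶ Art.dual Λ k :=
  Art.homMk (Art.tszeMap ℓ) (AlgHom.ext fun _ => rfl)

/-- Dropping the first coordinate. -/
def tszeTail (n : ℕ) : tszeArt Λ k (n + 1) ⟶ tszeArt Λ k n :=
  Art.homMk (Art.tszeMap (LinearMap.pi fun i => LinearMap.proj i.succ)) (AlgHom.ext fun _ => rfl)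

theorem isFibreProd_tszeArt (n : ℕ) :
    Art.IsFibreProd (tszeTail n) (tszeHom (LinearMap.proj (0 : Fin (n + 1))))
      (Art.toBase (tszeArt Λ k n)) (Art.toBase (Art.dual Λ k)) where
  w := by rw [Art.eq_toBase (tszeTail n ≫ _), Art.eq_toBase (tszeHom _ ≫ _)]
  inj b₁ b₂ h₁ h₂ := by
    refine TrivSqZeroExt.ext (by have e := congrArg TrivSqZeroExt.fst h₁; exact e) (funext fun i => ?_)
    induction i using Fin.cases with
    | zero => have e := congrArg TrivSqZeroExt.snd h₂; exact e
    | succ i => have e := congrFun (congrArg TrivSqZeroExt.snd h₁) i; exact e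
  surj a' a'' h := by
    refine ⟨(a'.fst, Fin.cons a''.snd a'.snd), TrivSqZeroExt.ext rfl (funext fun i => ?_),
      TrivSqZeroExt.ext h ?_⟩
    · exact Fin.cons_succ (α := fun _ => k) a''.snd a'.snd i
    · change Fin.cons (α := fun _ => k) a''.snd a'.snd 0 = _
      exact Fin.cons_zero (α := fun _ => k) _ _

variable {F : Art Λ k ⥤ Type v}

theorem exists_tangent_tuple (h0 : H0 F) (heps : Heps F) :
    ∀ (n : ℕ) (e : Fin n → F.obj (Art.dual Λ k)),
      ∃ z : F.obj (tszeArt Λ k n), ∀ i, F.map (tszeHom (LinearMap.proj i)) z = e i := by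
  intro n
  induction n with
  | zero =>
    intro e
    obtain ⟨x⟩ := h0.1
    exact ⟨F.map (Art.homMk ((Algebra.ofId k (TrivSqZeroExt k (Fin 0 → k))).restrictScalars Λ)
      (AlgHom.ext fun _ => rfl) : Art.base Λ k ⟶ tszeArt Λ k 0) x, fun i => i.elim0⟩
  | succ n ih =>
    intro e
    obtain ⟨z, hz⟩ := ih fun i => e i.succ
    obtain ⟨w, hw⟩ := (heps _ _ (isFibreProd_tszeArt n)).2 ⟨(z, e 0), by
      have := h0.2; exact Subsingleton.elim _ _⟩
    have hw₁ : F.map (tszeTail n) w = z := congrArg (fun y => y.1.1) hw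
    refine ⟨w, fun i => ?_⟩
    induction i using Fin.cases with
    | zero => exact congrArg (fun y => y.1.2) hw
    | succ i =>
      rw [← hz i, ← hw₁, ← Functor.map_comp_apply]
      congr 1

theorem map_tszeHom [TangentStr F] (h0 : H0 F) :
    ∀ (n : ℕ) (z : F.obj (tszeArt Λ k n)) (ℓ : (Fin n → k) →ₗ[k] k),
      TangentSpace.mk (F.map (tszeHom ℓ) z) =
        ∑ i, ℓ (Pi.single i 1) • TangentSpace.mk (F.map (tszeHom (LinearMap.proj i)) z) := by
  intro n
  induction n with
  | zero =>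
    intro z ℓ
    have := h0.2
    rw [Finset.univ_eq_empty, Finset.sum_empty]
    let x := TangentSpace.mk (F.map (tszeHom ℓ) z)
    have hscale : (Art.scale (0 : k) : Art.dual Λ k ⟶ _) =
        Art.toBase (Art.dual Λ k) ≫ Art.baseToDual :=
      Art.hom_ext (AlgHom.ext fun a => TrivSqZeroExt.ext rfl (zero_smul k a.snd))
    have hℓ : (tszeHom ℓ : tszeArt Λ k 0 ⟶ _) = Art.toBase _ ≫ Art.baseToDual :=
      Art.hom_ext (AlgHom.ext fun a => TrivSqZeroExt.ext rfl
        ((congrArg ℓ (Subsingleton.elim a.snd 0)).trans (map_zero ℓ)))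
    rw [← zero_smul k x]
    refine Eq.trans ?_ (TangentStr.smul_eq (0 : k) (F.map (tszeHom ℓ) z)).symm
    change F.map (tszeHom ℓ) z = _
    rw [hscale, Functor.map_comp_apply]
    conv_lhs => rw [hℓ, Functor.map_comp_apply]
    exact congrArg _ (Subsingleton.elim _ _)
  | succ n ih =>
    intro z ℓ
    let ℓ' : (Fin n → k) →ₗ[k] k := ∑ i, ℓ (Pi.single i.succ 1) • LinearMap.proj i
    let c : k := ℓ (Pi.single 0 1)
    let L : (Fin (n + 1) → k) →ₗ[k] k × k :=
      LinearMap.prod (ℓ'.comp (LinearMap.pi fun i => LinearMap.proj i.succ)) (c • LinearMap.proj 0)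
    let g : tszeArt Λ k (n + 1) ⟶ Art.dual2 Λ k := Art.homMk (Art.tszeMap L) (AlgHom.ext fun _ => rfl)
    have hℓ : ∀ v, ℓ v = (L v).1 + (L v).2 := fun v => by
      conv_lhs => rw [pi_eq_sum_univ' v, map_sum]
      rw [Fin.sum_univ_succ, add_comm]
      simp [L, ℓ', c, map_smul, LinearMap.sum_apply, mul_comm]
    have hp : g ≫ Art.plus = tszeHom ℓ :=
      Art.hom_ext (AlgHom.ext fun a => TrivSqZeroExt.ext rfl (hℓ a.snd).symm)
    have h1 : g ≫ Art.pr₁ = tszeTail n ≫ tszeHom ℓ' :=
      Art.hom_ext (AlgHom.ext fun a => TrivSqZeroExt.ext rfl rfl)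
    have h2 : g ≫ Art.pr₂ = tszeHom (LinearMap.proj 0) ≫ Art.scale c :=
      Art.hom_ext (AlgHom.ext fun a => TrivSqZeroExt.ext rfl rfl)
    have hadd : TangentSpace.mk (F.map (tszeHom ℓ) z) =
        TangentSpace.mk (F.map (tszeHom ℓ') (F.map (tszeTail n) z)) +
          c • TangentSpace.mk (F.map (tszeHom (LinearMap.proj 0)) z) := by
      rw [← hp, ← Functor.map_comp_apply, ← h1, Functor.map_comp_apply, Functor.map_comp_apply]
      refine (TangentStr.add_eq (F := F) (F.map g z)).symm.trans ?_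
      refine congrArg₂ (fun a b : TangentSpace F => a + b) rfl ?_
      rw [← Functor.map_comp_apply, h2, Functor.map_comp_apply]
      exact (TangentStr.smul_eq c _).symm
    rw [hadd, ih, Fin.sum_univ_succ, add_comm]
    congr 1
    refine Finset.sum_congr rfl fun i _ => ?_
    congr 1
    · simp [ℓ', LinearMap.sum_apply, Pi.single_apply]
    · rw [← Functor.map_comp_apply]
      rfl

/-- For a small extension with kernel `(x)`, `B ×_A B` is `B ×_k k[ε]`. -/
theorem exists_dual_square [IsNoetherianRing Λ] (hk : Function.Surjective (algebraMap Λ k))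
    {B A : Art Λ k} (μ : B ⟶ A) (hμ : Art.IsSmallExt μ) :
    ∃ (E : Art Λ k) (p : E ⟶ B) (p' : E ⟶ Art.dual Λ k) (Θ : E ⟶ B),
      Art.IsFibreProd p p' (Art.toBase B) (Art.toBase (Art.dual Λ k)) ∧
        Art.IsFibreProd p Θ μ μ ∧
        ∀ e : E, (p' e : DualNumber k).snd = 0 → Θ e = p e := by
  obtain ⟨E, p, p', hE⟩ := exists_fibreProd hk (Art.toBase B) (Art.toBase (Art.dual Λ k))
  obtain ⟨hsurj, hne, ⟨x, hx⟩, hann⟩ := hμ
  rw [Ideal.submodule_span_eq] at hx
  have hμx : μ x = 0 := by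
    change μ.toAlgHom x = 0
    exact RingHom.mem_ker.mp (hx ▸ Ideal.mem_span_singleton_self x)
  have hxmul : ∀ b, B.res b = 0 → b * x = 0 := fun b hb => by
    have := Ideal.mul_mem_mul ((Art.mem_maximalIdeal_iff B b).mpr hb)
      (hx ▸ Ideal.mem_span_singleton_self x : x ∈ RingHom.ker μ.toAlgHom)
    rwa [hann, Ideal.mem_bot] at this
  let σ : k → Λ := Function.surjInv hk
  let ν : k → B := fun c => algebraMap Λ B (σ c) * x
  have hν : ∀ b, ν (B.res b) = b * x := fun b => by
    rw [← sub_eq_zero, ← sub_mul]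
    exact hxmul _ (by rw [map_sub, res_algebraMap, Function.surjInv_eq hk, sub_self])
  have hνadd : ∀ c d, ν (c + d) = ν c + ν d := fun c d => by
    obtain ⟨a, rfl⟩ := B.res_surjective c
    obtain ⟨b, rfl⟩ := B.res_surjective d
    rw [← map_add, hν, hν, hν, add_mul]
  have hν0 : ν 0 = 0 := by rw [← map_zero B.res, hν, zero_mul]
  have hνmul : ∀ (b : B) c, ν (B.res b * c) = b * ν c := fun b c => by
    obtain ⟨a, rfl⟩ := B.res_surjective c
    rw [← map_mul, hν, hν, mul_assoc]
  have hxx : x * x = 0 := hxmul x (by rw [← Art.res_app μ, hμx, map_zero])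
  have hfst : ∀ e, (p' e : DualNumber k).fst = B.res (p e) := fun e => (hE.w_apply e).symm
  let θ : E → B := fun e => p e + ν (p' e : DualNumber k).snd
  let Θ₀ : E →ₐ[Λ] B :=
    { toFun := θ
      map_one' := by
        change p.toAlgHom 1 + ν (p'.toAlgHom 1 : DualNumber k).snd = 1
        rw [map_one, map_one]
        exact (congrArg (1 + ·) hν0).trans (add_zero 1)
      map_mul' := fun a b => by
        change p.toAlgHom (a * b) + ν (p'.toAlgHom (a * b) : DualNumber k).snd = θ a * θ b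
        rw [map_mul, map_mul]
        change p a * p b + ν ((p' a : DualNumber k) * (p' b : DualNumber k)).snd = θ a * θ b
        have e1 : ν (p' a : DualNumber k).snd * ν (p' b : DualNumber k).snd = 0 := by
          change algebraMap Λ B _ * x * (algebraMap Λ B _ * x) = 0
          rw [mul_mul_mul_comm, hxx, mul_zero]
        have hm : ∀ u v : DualNumber k, (u * v).snd = u.fst * v.snd + v.fst * u.snd := fun u v => by
          rw [TrivSqZeroExt.snd_mul, op_smul_eq_smul, smul_eq_mul, smul_eq_mul]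
        erw [hm, hfst, hfst, hνadd, hνmul, hνmul]
        simp only [θ, add_mul, mul_add, e1, add_zero]
        ring
      map_zero' := by
        change p.toAlgHom 0 + ν (p'.toAlgHom 0 : DualNumber k).snd = 0
        rw [map_zero, map_zero]
        exact (congrArg (0 + ·) hν0).trans (add_zero 0)
      map_add' := fun a b => by
        change p.toAlgHom (a + b) + ν (p'.toAlgHom (a + b) : DualNumber k).snd = θ a + θ b
        rw [map_add, map_add]
        change p a + p b + ν ((p' a : DualNumber k).snd + (p' b : DualNumber k).snd) = θ a + θ b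
        rw [hνadd]
        simp only [θ]
        ring
      commutes' := fun l => by
        change p.toAlgHom (algebraMap Λ E l) + ν (p'.toAlgHom (algebraMap Λ E l) : DualNumber k).snd =
          algebraMap Λ B l
        rw [AlgHom.commutes, AlgHom.commutes]
        exact (congrArg (algebraMap Λ B l + ·) hν0).trans (add_zero _) }
  have hμν : ∀ c, μ (ν c) = 0 := fun c => by
    change μ.toAlgHom (algebraMap Λ B (σ c) * x) = 0
    rw [map_mul, show μ.toAlgHom x = 0 from hμx, mul_zero]
  have hμθ : ∀ e, μ (θ e) = μ (p e) := fun e => by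
    change μ.toAlgHom (p e + ν (p' e : DualNumber k).snd) = μ.toAlgHom (p e)
    rw [map_add, show μ.toAlgHom (ν _) = 0 from hμν _, add_zero]
  let Θ : E ⟶ B := Art.homMk Θ₀ (AlgHom.ext fun e => by
    change B.res (θ e) = E.res e
    rw [← Art.res_app μ, hμθ, Art.res_app, Art.res_app])
  refine ⟨E, p, p', Θ, hE, ⟨Art.hom_ext (AlgHom.ext fun e => (hμθ e).symm),
    fun a b ha hb => ?_, fun a b h => ?_⟩, fun e he => ?_⟩
  · have hb' : ν (p' a : DualNumber k).snd = ν (p' b : DualNumber k).snd := by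
      have : p a + ν (p' a : DualNumber k).snd = p b + ν (p' b : DualNumber k).snd := hb
      rw [ha] at this
      exact add_left_cancel this
    refine hE.inj a b ha (TrivSqZeroExt.ext (by rw [hfst, hfst, ha]) ?_)
    by_contra hne'
    have h0 : ν ((p' a : DualNumber k).snd - (p' b : DualNumber k).snd) = 0 := by
      have := hνadd ((p' a : DualNumber k).snd - (p' b : DualNumber k).snd) (p' b : DualNumber k).snd
      rw [sub_add_cancel, hb'] at this
      exact add_eq_right.mp this.symm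
    obtain ⟨d, hd⟩ := B.res_surjective ((p' a : DualNumber k).snd - (p' b : DualNumber k).snd)
    rw [← hd, hν] at h0
    have hu : IsUnit d := by
      by_contra hu
      have := (Art.mem_maximalIdeal_iff B d).mp ((IsLocalRing.mem_maximalIdeal d).mpr hu)
      rw [hd, sub_eq_zero] at this
      exact hne' this
    refine hne ?_
    rw [hx, Ideal.span_singleton_eq_bot]
    exact hu.mul_right_eq_zero.mp h0
  · have hba : b - a ∈ RingHom.ker μ.toAlgHom := by
      rw [RingHom.mem_ker, map_sub, sub_eq_zero]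
      exact h.symm
    rw [hx] at hba
    obtain ⟨r, hr⟩ := Ideal.mem_span_singleton'.mp hba
    obtain ⟨e, he₁, he₂⟩ := hE.surj a ((B.res a, B.res r) : DualNumber k) rfl
    refine ⟨e, he₁, ?_⟩
    change p e + ν (p' e : DualNumber k).snd = b
    rw [he₁, he₂]
    change a + ν (B.res r) = b
    rw [hν, hr, add_sub_cancel]
  · change p e + ν (p' e : DualNumber k).snd = p e
    rw [he, hν0, add_zero]

end Groth.Agent.ArtHull
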