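import Groth.Agent.ArtHull.General
import Mathlib.CategoryTheory.Limits.Types.Pullbacks
import Mathlib.CategoryTheory.Limits.FunctorCategory.Basic

/-!
Deformation functors: consequences of Schlessinger's conditions at small extensions, pullbacks of functors,
and smoothness criteria.
-/

set_option autoImplicit false

universe u v

open CategoryTheory CategoryTheory.Limits ArtFun

namespace Groth.Agent.ArtHull

variable {Λ : Type u} {k : Type u} [CommRing Λ] [Field k] [Algebra Λ k]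

section Pullback

variable {C : Type*} [Category C] {F G H : C ⥤ Type v} (f : H ⟶ F) (g : G ⟶ F)

theorem exists_pullback_elt (A : C) (a : H.obj A) (b : G.obj A) (h : f.app A a = g.app A b) :
    ∃ z : (pullback f g).obj A, (pullback.fst f g).app A z = a ∧ (pullback.snd f g).app A z = b :=
  Types.exists_of_isPullback ((IsPullback.of_hasPullback f g).app A) a b h

theorem pullback_elt_ext (A : C) {z₁ z₂ : (pullback f g).obj A}
    (h₁ : (pullback.fst f g).app A z₁ = (pullback.fst f g).app A z₂)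
    (h₂ : (pullback.snd f g).app A z₁ = (pullback.snd f g).app A z₂) : z₁ = z₂ :=
  Types.ext_of_isPullback ((IsPullback.of_hasPullback f g).app A) h₁ h₂

theorem pullback_elt_w (A : C) (z : (pullback f g).obj A) :
    f.app A ((pullback.fst f g).app A z) = g.app A ((pullback.snd f g).app A z) := by
  change ((pullback.fst f g ≫ f).app A) z = ((pullback.snd f g ≫ g).app A) z
  rw [pullback.condition]

end Pullback

section Conditions

variable {F : Art Λ k ⥤ Type v}

/-- Condition (RS). -/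
def RS (F : Art Λ k ⥤ Type v) : Prop :=
  ∀ ⦃B A A' A'' : Art Λ k⦄ (p' : B ⟶ A') (p'' : B ⟶ A'') (f' : A' ⟶ A) (f'' : A'' ⟶ A)
    (h : Art.IsFibreProd p' p'' f' f''), Function.Surjective f'' → Function.Bijective (cmp F h)

theorem hbar_of_rs (hF : RS F) : Hbar F := fun _ _ _ _ p' p'' f' f'' h hf => (hF p' p'' f' f'' h hf.1).2

theorem heps_of_rs (hF : RS F) : Heps F := fun _ _ p' p'' h => hF p' p'' _ _ h (toBase_surjective _)

theorem hsq_of_rs (hF : RS F) : HSq F := fun _ _ _ p₁ p₂ f h hf => hF p₁ p₂ f f h hf.1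

variable [IsNoetherianRing Λ] [Module.Finite Λ k]

/-- `H̄`, `H_ε` and `H` give bijectivity along small extensions. -/
theorem cmp_injective_of_hsq (h0 : Subsingleton (F.obj (Art.base Λ k))) (hbar : Hbar F) (heps : Heps F)
    (hsq : HSq F) {B A A' A'' : Art Λ k} {p' : B ⟶ A'} {p'' : B ⟶ A''} {f' : A' ⟶ A} {f'' : A'' ⟶ A}
    (h : Art.IsFibreProd p' p'' f' f'') (hf : Art.IsSmallExt f'') : Function.Injective (cmp F h) := by
  intro z₁ z₂ e
  obtain ⟨e₁, e₂⟩ := (cmp_eq_iff h).mp e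
  have hp' := isSmallExt_fst h hf
  obtain ⟨E, p, q, Θ, hE, hsqB, hθ⟩ := exists_dual_square' p' hp'
  obtain ⟨E', π, q', Θ', hE', hsqA, hθ'⟩ := exists_dual_square' f'' hf
  obtain ⟨r, hr₁, hr₂⟩ := fibreProd_liftHom hsqA (p ≫ p'') (Θ ≫ p'')
    (by rw [Category.assoc, Category.assoc, ← h.w, reassoc_of% hsqB.w])
  obtain ⟨Δ, hΔ₁, hΔ₂⟩ := fibreProd_liftHom hsqB (𝟙 B) (𝟙 B) rfl
  obtain ⟨Δ', hΔ'₁, hΔ'₂⟩ := fibreProd_liftHom hsqA (𝟙 A'') (𝟙 A'') rfl
  obtain ⟨w, hw₁, hw₂⟩ := exists_of_cmp_surjective (hbar _ _ _ _ hsqB hp') z₁ z₂ e₁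
  -- `E` is also the fibre product of `B` and the dual numbers through `r`
  have hE2 : Art.IsFibreProd p (r ≫ q') (Art.toBase B) (Art.toBase (Art.dual Λ k)) := by
    refine ⟨by rw [Art.eq_toBase (p ≫ _), Art.eq_toBase ((r ≫ q') ≫ _)], fun a₁ a₂ h₁ h₂ => ?_,
      fun b d hbd => ?_⟩
    · have hr : r a₁ = r a₂ := hE'.inj _ _ (by
        change (r ≫ π) a₁ = (r ≫ π) a₂
        rw [hr₁]; exact congrArg p'' h₁) h₂
      refine hsqB.inj _ _ h₁ (h.inj _ _ ((hsqB.w_apply a₁).symm.trans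
        ((congrArg p' h₁).trans (hsqB.w_apply a₂))) ?_)
      change (Θ ≫ p'') a₁ = (Θ ≫ p'') a₂
      rw [← hr₂]; exact congrArg Θ' hr
    · obtain ⟨e', he₁, he₂⟩ := hE'.surj (p'' b) d ((Art.res_app p'' b).trans hbd)
      obtain ⟨b₂, hb₂, hb₂'⟩ := h.surj (p' b) (Θ' e')
        ((h.w_apply b).trans ((congrArg f'' he₁.symm).trans (hsqA.w_apply e')))
      obtain ⟨a, ha₁, ha₂⟩ := hsqB.surj b b₂ hb₂.symm
      refine ⟨a, ha₁, ?_⟩
      have : r a = e' := hsqA.inj _ _ (by
        change (r ≫ π) a = _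
        rw [hr₁, Art.comp_apply, ha₁, he₁]) (by
        change (r ≫ Θ') a = _
        rw [hr₂, Art.comp_apply, ha₂, hb₂'])
      rw [Art.comp_apply, this, he₂]
  have hΔr : Δ ≫ r = p'' ≫ Δ' := Art.hom_ext (AlgHom.ext fun x => hsqA.inj _ _
    (show ((Δ ≫ r) ≫ π) x = ((p'' ≫ Δ') ≫ π) x by
      rw [Category.assoc, hr₁, ← Category.assoc, hΔ₁, Category.id_comp, Category.assoc, hΔ'₁,
        Category.comp_id])
    (show ((Δ ≫ r) ≫ Θ') x = ((p'' ≫ Δ') ≫ Θ') x by
      rw [Category.assoc, hr₂, ← Category.assoc, hΔ₂, Category.id_comp, Category.assoc, hΔ'₂,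
        Category.comp_id]))
  have hrw : F.map r w = F.map r (F.map Δ z₁) := (hsq _ _ _ hsqA hf).1 ((cmp_eq_iff hsqA).mpr ⟨by
      rw [map_map_apply, map_map_apply, map_map_apply, hr₁, reassoc_of% hΔ₁, ← map_map_apply, hw₁], by
      rw [map_map_apply, map_map_apply, map_map_apply, hr₂, reassoc_of% hΔ₂, ← map_map_apply, hw₂, e₂]⟩)
  have hw : w = F.map Δ z₁ :=
    (heps _ _ hE2).1 ((cmp_eq_iff hE2).mpr ⟨by rw [hw₁, map_map_apply, hΔ₁, map_id_elt], by
      rw [← map_map_apply, hrw, map_map_apply]⟩)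
  rw [← hw₂, hw, map_map_apply, hΔ₂, map_id_elt]

end Conditions

section Smooth

variable [IsNoetherianRing Λ] [Module.Finite Λ k] {F G : Art Λ k ⥤ Type v}

/-- A morphism of deformation functors which is surjective on tangent spaces is smooth as soon as it
detects liftability along small extensions. -/
theorem isSmooth_of_tangent (φ : F ⟶ G) (hF0 : H0 F) (hF : RS F) (hG0 : H0 G) (hG : RS G)
    (hd : Function.Surjective (φ.app (Art.dual Λ k)))
    (hlift : ∀ ⦃B A : Art Λ k⦄ (μ : B ⟶ A), Art.IsSmallExt μ → ∀ (x : F.obj A) (y : G.obj B),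
      φ.app A x = G.map μ y → ∃ x', F.map μ x' = x) : IsSmooth φ := by
  refine isSmooth_of_small φ fun B A μ hμ x => ?_
  obtain ⟨x', hx'⟩ := hlift μ hμ x.1.1 x.1.2 x.2
  obtain ⟨z, hz₁, hz₂⟩ := exists_lift_small φ hG0.2 hF0.2 (heps_of_rs hF) (hbar_of_rs hG) (heps_of_rs hG) hd μ hμ x'
    x.1.2 (by rw [← x.2, ← hx', NatTrans.naturality_apply φ μ x'])
  exact ⟨z, Subtype.ext (Prod.ext (hz₁.trans hx') hz₂)⟩

/-- Two lifts along a surjection with equal images under a morphism injective on tangent spaces are equal. -/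
theorem eq_of_lifts (q : G ⟶ F) (hF0 : Subsingleton (F.obj (Art.base Λ k)))
    (hG0 : Subsingleton (G.obj (Art.base Λ k))) (hF : RS F) (hG : RS G)
    (hq : Function.Injective (q.app (Art.dual Λ k))) {B A : Art Λ k} (μ : B ⟶ A) (hμ : Function.Surjective μ) :
    ∀ y₁ y₂ : G.obj B, G.map μ y₁ = G.map μ y₂ → q.app B y₁ = q.app B y₂ → y₁ = y₂ := by
  refine surjective_induction (fun {B A} μ =>
    ∀ y₁ y₂ : G.obj B, G.map μ y₁ = G.map μ y₂ → q.app B y₁ = q.app B y₂ → y₁ = y₂) ?_ ?_ μ hμ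
  · intro B A f hf y₁ y₂ h _
    obtain ⟨g, hg, -⟩ := exists_inv_of_bijective f hf
    have := congrArg (G.map g) h
    rwa [map_map_apply, map_map_apply, hg, map_id_elt, map_id_elt] at this
  · intro B C A g t _ hg ht y₁ y₂ h hqy
    have hC : G.map g y₁ = G.map g y₂ := ht _ _ (by rw [map_map_apply, map_map_apply, h]) (by
      rw [NatTrans.naturality_apply q g y₁, NatTrans.naturality_apply q g y₂, hqy])
    rcases hg with hg | hg
    · obtain ⟨g', hg', -⟩ := exists_inv_of_bijective g hg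
      have := congrArg (G.map g') hC
      rwa [map_map_apply, map_map_apply, hg', map_id_elt, map_id_elt] at this
    · exact eq_of_lifts_small q hF0 hG0 (hsq_of_rs hF) (hbar_of_rs hG) (heps_of_rs hG) hq g hg y₁ y₂ hC hqy

end Smooth

end Groth.Agent.ArtHull
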