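import Groth.Agent.ArtHull.Versal
import Mathlib.RingTheory.Derivation.Basic

/-!
Minimal versal families are miniversal when `k` has no `Λ`-derivations.
-/

set_option autoImplicit false

universe u v

open CategoryTheory ArtFun

namespace Groth.Agent.ArtHull

variable {Λ : Type u} {k : Type u} [CommRing Λ] [Field k] [Algebra Λ k] {F : Art Λ k ⥤ Type v}

theorem finite_carrier_of_finite [Module.Finite Λ k] (A : Art Λ k) : Module.Finite Λ A := by
  obtain ⟨N, hN⟩ := (isArtinianRing_iff_isNilpotent_maximalIdeal A).mp A.isArtinianRing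
  obtain ⟨r, c, hc⟩ := Submodule.fg_iff_exists_fin_generating_family.1
    (Module.Finite.fg_top (R := Λ) (M := k))
  choose w hw using fun i => A.res_surjective (c i)
  let m := IsLocalRing.maximalIdeal A
  have step : ∀ j, ((m ^ (j + 1)).restrictScalars Λ).FG → ((m ^ j).restrictScalars Λ).FG := by
    classical
    intro j hj
    obtain ⟨s, hs⟩ := IsNoetherian.noetherian (m ^ j)
    let s' : Finset A := (Finset.univ ×ˢ s).image fun p : Fin r × A => w p.1 * p.2
    have hs' : (s' : Set A) ⊆ (m ^ j : Ideal A) := by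
      intro y hy
      obtain ⟨p, hp, rfl⟩ := Finset.mem_image.1 hy
      exact Ideal.mul_mem_left _ _ (hs ▸ Submodule.subset_span (Finset.mem_product.1 hp).2)
    have hj' : (m ^ j).restrictScalars Λ =
        Submodule.span Λ (s' : Set A) ⊔ (m ^ (j + 1)).restrictScalars Λ := by
      refine le_antisymm (fun x hx => ?_) (sup_le (Submodule.span_le.mpr hs')
        fun x hx => Ideal.pow_le_pow_right (Nat.le_succ j) hx)
      rw [Submodule.restrictScalars_mem, ← hs] at hx
      have key : ∀ y ∈ (s : Set A), ∀ b : A, b * y ∈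
          Submodule.span Λ (s' : Set A) ⊔ (m ^ (j + 1)).restrictScalars Λ := by
        intro y hy b
        obtain ⟨l, hl⟩ := (Submodule.mem_span_range_iff_exists_fun Λ).1
          (hc.symm ▸ Submodule.mem_top : A.res b ∈ Submodule.span Λ (Set.range c))
        rw [show b * y = (b - ∑ i, l i • w i) * y + ∑ i, l i • (w i * y) by
          rw [sub_mul, Finset.sum_mul]
          simp only [smul_mul_assoc, sub_add_cancel]]
        refine Submodule.add_mem _ (Submodule.mem_sup_right ?_)
          (Submodule.mem_sup_left (Submodule.sum_mem _ fun i _ => Submodule.smul_mem _ _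
            (Submodule.subset_span (Finset.mem_image.2
              ⟨(i, y), Finset.mem_product.2 ⟨Finset.mem_univ _, hy⟩, rfl⟩))))
        rw [Submodule.restrictScalars_mem, pow_succ']
        refine Ideal.mul_mem_mul ((Art.mem_maximalIdeal_iff A _).mpr ?_)
          (hs ▸ Submodule.subset_span hy)
        simp only [map_sub, map_sum, map_smul, hw, hl, sub_self]
      suffices h : ∀ b : A, b * x ∈ Submodule.span Λ (s' : Set A) ⊔ (m ^ (j + 1)).restrictScalars Λ by
        simpa using h 1
      induction hx using Submodule.span_induction with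
      | mem y hy => exact key y hy
      | zero => exact fun b => by rw [mul_zero]; exact Submodule.zero_mem _
      | add y z _ _ hy hz => exact fun b => by rw [mul_add]; exact Submodule.add_mem _ (hy b) (hz b)
      | smul a y _ ih => exact fun b => by rw [smul_eq_mul, ← mul_assoc]; exact ih _
    rw [hj']
    exact (Submodule.fg_span s'.finite_toSet).sup hj
  have main : ∀ d j, j + d = N → ((m ^ j).restrictScalars Λ).FG := by
    intro d
    induction d with
    | zero =>
      intro j hj
      rw [show j = N by omega, hN]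
      exact ⟨∅, by simp⟩
    | succ d ih => exact fun j hj => step j (ih (j + 1) (by omega))
  refine ⟨?_⟩
  have h0 := main N 0 (Nat.zero_add N)
  rwa [pow_zero, Ideal.one_eq_top, Submodule.restrictScalars_top] at h0

theorem exists_art_of_finite' [IsNoetherianRing Λ] (E : Type u) [CommRing E] [Algebra Λ E]
    [Module.Finite Λ E] (res : E →ₐ[Λ] k) (hres : Function.Surjective res)
    (hnil : ∀ e, res e = 0 → IsNilpotent e) :
    ∃ (A : Art Λ k) (i : E ≃ₐ[Λ] A), A.res.comp i.toAlgHom = res := by
  have : Nontrivial E := ⟨0, 1, fun h => by simpa using congrArg res h⟩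
  have hloc : IsLocalRing E := by
    refine IsLocalRing.of_isUnit_or_isUnit_one_sub_self fun a => ?_
    rcases eq_or_ne (res a) 0 with h | h
    · exact Or.inr (hnil a h).isUnit_one_sub
    · refine Or.inl ?_
      obtain ⟨b, hb⟩ := hres (res a)⁻¹
      have hab : IsNilpotent (a * b - 1) :=
        hnil _ (by rw [map_sub, map_mul, hb, map_one, mul_inv_cancel₀ h, sub_self])
      exact isUnit_of_mul_isUnit_left (by simpa using hab.isUnit_add_one : IsUnit (a * b))
  have : IsNoetherianRing E := isNoetherianRing_iff.mpr (isNoetherian_of_tower Λ inferInstance)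
  have hart : IsArtinianRing E := by
    rw [isArtinianRing_iff_isNilpotent_maximalIdeal]
    have hmax : (RingHom.ker (res : E →+* k)).IsMaximal :=
      RingHom.ker_isMaximal_of_surjective _ hres
    rw [← IsLocalRing.eq_maximalIdeal hmax]
    exact Ideal.FG.isNilpotent_iff_le_nilradical (IsNoetherian.noetherian _) |>.mpr fun e he =>
      hnil e he
  exact ⟨Art.of E res hres, AlgEquiv.refl, rfl⟩

theorem isMiniversal_of_isMinimalVersal [IsNoetherianRing Λ] [Module.Finite Λ k]
    (hk : Subsingleton (Derivation Λ k k)) (h0 : H0 F) (h2 : Heps F) {R : CRing Λ k}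
    {ξ : Family R.carrier R.res F} (hξ : ξ.IsMinimalVersal) : IsMiniversal ξ := by
  have hs := versal_surjective hξ.1 h0
  refine ⟨hξ.1, fun φ φ' h => ?_, hs _⟩
  by_contra hne
  let φb : HomSet R.carrier R.res (Art.base Λ k) := ⟨R.res, AlgHom.id_comp _⟩
  let φ₀ : HomSet R.carrier R.res (Art.dual Λ k) := HomSet.map Art.baseToDual φb
  let ψ : HomSet R.carrier R.res (Art.dual Λ k) := HomSet.map (Art.scale (-1)) φ'
  obtain ⟨a, ha₁, ha₂⟩ := fibreProd_lift Art.isFibreProd_dual2 φ ψ (Subtype.ext (φ.2.trans ψ.2.symm))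
  obtain ⟨a', ha'₁, ha'₂⟩ :=
    fibreProd_lift Art.isFibreProd_dual2 φ' ψ (Subtype.ext (φ'.2.trans ψ.2.symm))
  have haa : ξ.app _ a = ξ.app _ a' := (h2 Art.pr₁ Art.pr₂ Art.isFibreProd_dual2).1 (FibProd.ext
    (by
      change F.map Art.pr₁ _ = F.map Art.pr₁ _
      rw [← ξ.natural, ← ξ.natural, ha₁, ha'₁, h])
    (by
      change F.map Art.pr₂ _ = F.map Art.pr₂ _
      rw [← ξ.natural, ← ξ.natural, ha₂, ha'₂]))
  let φ₁ : HomSet R.carrier R.res (Art.dual Λ k) := HomSet.map Art.plus a
  have hplus : ∀ (α β : HomSet R.carrier R.res (Art.dual Λ k)) (b : HomSet R.carrier R.res (Art.dual2 Λ k)),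
      HomSet.map Art.pr₁ b = α → HomSet.map Art.pr₂ b = β → ∀ r,
      TrivSqZeroExt.snd ((HomSet.map Art.plus b).1 r : DualNumber k) =
        TrivSqZeroExt.snd (α.1 r : DualNumber k) + TrivSqZeroExt.snd (β.1 r : DualNumber k) := by
    rintro α β b rfl rfl r
    rfl
  have hψ : ∀ r, TrivSqZeroExt.snd (ψ.1 r : DualNumber k) = -TrivSqZeroExt.snd (φ'.1 r : DualNumber k) :=
    fun r => neg_one_smul k _
  have hφ₁app : ξ.app _ φ₁ = ξ.app _ φ₀ := by
    refine (ξ.natural Art.plus a).trans ((congrArg (F.map Art.plus) haa).trans ?_)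
    rw [← ξ.natural]
    refine congrArg _ (Subtype.ext (AlgHom.ext fun r => TrivSqZeroExt.ext
      ((AlgHom.congr_fun (HomSet.map Art.plus a').2 r).trans (AlgHom.congr_fun φ₀.2 r).symm) ?_))
    refine (hplus _ _ a' ha'₁ ha'₂ r).trans ?_
    rw [hψ, add_neg_cancel]
    rfl
  let D : R.carrier → k := fun r => TrivSqZeroExt.snd (φ₁.1 r : DualNumber k)
  have hDfst : ∀ r, TrivSqZeroExt.fst (φ₁.1 r : DualNumber k) = R.res r := AlgHom.congr_fun φ₁.2
  have hDmul : ∀ r s, D (r * s) = R.res r * D s + R.res s * D r := fun r s => by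
    change TrivSqZeroExt.snd (φ₁.1 (r * s) : DualNumber k) = _
    rw [map_mul]
    have hm : ∀ u v : DualNumber k, (u * v).snd = u.fst * v.snd + v.fst * u.snd := fun u v => by
      rw [TrivSqZeroExt.snd_mul, op_smul_eq_smul, smul_eq_mul, smul_eq_mul]
    refine (hm _ _).trans ?_
    rw [hDfst, hDfst]
  have hDadd : ∀ r s, D (r + s) = D r + D s := fun r s => by
    change TrivSqZeroExt.snd (φ₁.1 (r + s) : DualNumber k) = _
    rw [map_add]
    rfl
  have hDl : ∀ l, D (algebraMap Λ R.carrier l) = 0 := fun l => by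
    change TrivSqZeroExt.snd (φ₁.1 (algebraMap Λ R.carrier l) : DualNumber k) = 0
    rw [AlgHom.commutes]
    change TrivSqZeroExt.snd (algebraMap Λ (DualNumber k) l) = 0
    rw [TrivSqZeroExt.algebraMap_eq_inl']
    rfl
  have hD0 : ¬ ∀ r, D r = 0 := by
    intro h0'
    refine hne (Subtype.ext (AlgHom.ext fun r => TrivSqZeroExt.ext
      ((AlgHom.congr_fun φ.2 r).trans (AlgHom.congr_fun φ'.2 r).symm) ?_))
    have := (hplus _ _ a ha₁ ha₂ r).symm.trans (h0' r)
    rwa [hψ, add_neg_eq_zero] at this
  obtain ⟨v, hv, hDv⟩ : ∃ v, R.res v = 0 ∧ D v ≠ 0 := by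
    by_contra hno
    push Not at hno
    have hσ : ∀ r s, R.res r = R.res s → D r = D s := fun r s hrs => by
      have h1 := hno (r - s) (by rw [map_sub, hrs, sub_self])
      have h2 := hDadd (r - s) s
      rw [sub_add_cancel, h1, zero_add] at h2
      exact h2
    let σ := Function.surjInv R.res_surjective
    have hσr : ∀ c, R.res (σ c) = c := Function.surjInv_eq R.res_surjective
    let δ : Derivation Λ k k :=
      { toFun := fun c => D (σ c)
        map_add' := fun x y => (hσ _ _ (by rw [hσr, map_add, hσr, hσr])).trans (hDadd _ _)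
        map_smul' := fun l x => by
          refine (hσ (σ (l • x)) (algebraMap Λ R.carrier l * σ x)
            (by rw [hσr, map_mul, AlgHom.commutes, hσr, Algebra.smul_def])).trans ?_
          rw [hDmul, hDl, AlgHom.commutes, mul_zero, add_zero, RingHom.id_apply, Algebra.smul_def]
        map_one_eq_zero' := (hσ (σ 1) (algebraMap Λ R.carrier 1)
          (by rw [hσr, AlgHom.commutes, map_one])).trans (hDl 1)
        leibniz' := fun x y => (hσ (σ (x * y)) (σ x * σ y) (by rw [hσr, map_mul, hσr, hσr])).trans (by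
          rw [hDmul, hσr, hσr]
          rfl) }
    refine hD0 fun r => ?_
    rw [hσ r (σ (R.res r)) (hσr _).symm]
    exact (congrArg (fun d : Derivation Λ k k => d (R.res r)) (Subsingleton.elim δ 0))
  have hlift : ∀ c d : k, ∃ r, R.res r = c ∧ D r = d := fun c d => by
    obtain ⟨r, hr⟩ := R.res_surjective c
    obtain ⟨a, ha⟩ := R.res_surjective ((d - D r) / D v)
    refine ⟨r + a * v, by rw [map_add, map_mul, hr, hv, mul_zero, add_zero], ?_⟩
    rw [hDadd, hDmul, hv, ha, zero_mul, add_zero, div_mul_cancel₀ _ hDv, add_sub_cancel]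
  have hker : RingHom.ker (R.truncHom 1).1 ≤ RingHom.ker φ₁.1 := by
    intro r hr
    rw [RingHom.mem_ker] at hr
    have hr' : r ∈ IsLocalRing.maximalIdeal R.carrier ^ (1 + 1) := Ideal.Quotient.eq_zero_iff_mem.1 hr
    rw [pow_two] at hr'
    refine Submodule.mul_induction_on hr' (fun x hx y hy => ?_) fun x y hx hy => ?_
    · rw [RingHom.mem_ker]
      refine TrivSqZeroExt.ext ?_ ?_
      · refine (hDfst (x * y)).trans ?_
        rw [map_mul, (CRing.mem_maximalIdeal_iff R x).1 hx, zero_mul]
        rfl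
      · refine (hDmul x y).trans ?_
        rw [(CRing.mem_maximalIdeal_iff R x).1 hx, (CRing.mem_maximalIdeal_iff R y).1 hy]
        simp only [zero_mul, add_zero]
        rfl
    · rw [RingHom.mem_ker] at hx hy ⊢
      rw [map_add, hx, hy, add_zero]
  have hπ : Function.Surjective (R.truncHom 1).1 := Ideal.Quotient.mk_surjective
  obtain ⟨g, hg⟩ := exists_descHom (R.truncHom 1) hπ φ₁ hker
  have hgr : ∀ r, g ((R.truncHom 1).1 r) = φ₁.1 r := fun r => AlgHom.congr_fun (congrArg Subtype.val hg) r
  let T := R.trunc 1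
  let E : Subalgebra Λ T := AlgHom.equalizer g.toAlgHom (Art.toBase T ≫ Art.baseToDual).toAlgHom
  have := finite_carrier_of_finite T
  have : Module.Finite Λ E := Module.Finite.of_injective E.val.toLinearMap Subtype.val_injective
  let resE : E →ₐ[Λ] k := T.res.comp E.val
  have hEs : Function.Surjective resE := fun c => by
    obtain ⟨r, hr, hDr⟩ := hlift c 0
    refine ⟨⟨(R.truncHom 1).1 r, ?_⟩, (AlgHom.congr_fun (R.truncHom 1).2 r).trans hr⟩
    change g ((R.truncHom 1).1 r) = Art.baseToDual (Art.toBase T ((R.truncHom 1).1 r))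
    rw [hgr]
    refine TrivSqZeroExt.ext ?_ hDr
    exact (hDfst r).trans (AlgHom.congr_fun (R.truncHom 1).2 r).symm
  obtain ⟨B, i, hi⟩ := exists_art_of_finite' E resE hEs (fun e he => by
    obtain ⟨N, hN⟩ := isNilpotent_of_res_eq_zero T he
    exact ⟨N, Subtype.ext hN⟩)
  have hiB : ∀ b, resE (i.symm b) = B.res b := fun b => by
    rw [← hi]; exact congrArg B.res (i.apply_symm_apply b)
  let incl : B ⟶ T := Art.homMk (E.val.comp i.symm.toAlgHom) (AlgHom.ext hiB)
  have hsq : Art.IsFibreProd (Art.toBase B) incl Art.baseToDual g := by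
    refine ⟨Art.hom_ext (AlgHom.ext fun b => ?_), fun b₁ b₂ _ h₂ => i.symm.injective (Subtype.ext h₂),
      fun c x hx => ?_⟩
    · refine Eq.trans ?_ (i.symm b).2.symm
      exact congrArg (Art.baseToDual (Λ := Λ) (k := k)).toAlgHom (hiB b).symm
    · have hc : T.res x = c := by
        rw [← Art.res_app g x, ← hx]
        rfl
      refine ⟨i ⟨x, ?_⟩, ?_, congrArg Subtype.val (i.symm_apply_apply _)⟩
      · change g x = Art.baseToDual (Art.toBase T x)
        rw [← hx]
        exact congrArg (Art.baseToDual (Λ := Λ) (k := k)).toAlgHom hc.symm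
      · exact (AlgHom.congr_fun hi _).trans hc
  have hgs : Function.Surjective g := fun d => by
    obtain ⟨r, hr, hDr⟩ := hlift (TrivSqZeroExt.fst (d : DualNumber k)) (TrivSqZeroExt.snd (d : DualNumber k))
    refine ⟨(R.truncHom 1).1 r, ?_⟩
    rw [hgr]
    exact TrivSqZeroExt.ext ((hDfst r).trans hr) hDr
  obtain ⟨u, hu⟩ := s1_of_versal hξ.1 hs _ _ _ _ hsq hgs ⟨(ξ.app _ φb, ξ.app _ (R.truncHom 1)), by
    rw [← ξ.natural, ← ξ.natural, hg]
    exact hφ₁app.symm⟩
  obtain ⟨ψB, hψB⟩ := hs B u
  obtain ⟨e, he, hea, he1⟩ := exists_along hξ.1 ξ (HomSet.map incl ψB) (by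
    rw [ξ.natural, hψB]
    exact congrArg (fun y => y.1.2) hu)
  have hesurj : Function.Surjective e := hξ.2 R ξ.toFormalElt e he (by rw [push_eq_along, hea])
  refine hD0 fun r => ?_
  obtain ⟨s, rfl⟩ := hesurj r
  have h1 : φ₁.1 (e s) = g (incl (ψB.1 s)) := by
    rw [← hgr]
    exact congrArg g.toAlgHom (AlgHom.congr_fun he1 s)
  change TrivSqZeroExt.snd (φ₁.1 (e s) : DualNumber k) = 0
  rw [h1]
  exact congrArg TrivSqZeroExt.snd (i.symm (ψB.1 s)).2

end Groth.Agent.ArtHull
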