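import Groth.Agent.ArtHull.Cond
import Groth.Agent.ArtHull.MinVersal

/-!
`Art Λ k` for `Λ → k` finite (not necessarily surjective): fibre products along surjections, reduction of
fibre product conditions and of smoothness to small extensions, the square of a small extension with the
dual numbers, and the resulting lifting criteria.
-/

set_option autoImplicit false

universe u v

open CategoryTheory ArtFun

namespace Groth.Agent.ArtHull

variable {Λ : Type u} {k : Type u} [CommRing Λ] [Field k] [Algebra Λ k]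

theorem map_map_apply (F : Art Λ k ⥤ Type v) {A B C : Art Λ k} (f : A ⟶ B) (g : B ⟶ C) (x : F.obj A) :
    F.map g (F.map f x) = F.map (f ≫ g) x :=
  (Functor.map_comp_apply ..).symm

theorem map_id_elt (F : Art Λ k ⥤ Type v) {A : Art Λ k} (x : F.obj A) : F.map (𝟙 A) x = x := by
  rw [F.map_id]; rfl

theorem toBase_surjective (A : Art Λ k) : Function.Surjective (Art.toBase A) := A.res_surjective

theorem comp_surjective {A B C : Art Λ k} {f : A ⟶ B} {g : B ⟶ C} (hf : Function.Surjective f)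
    (hg : Function.Surjective g) : Function.Surjective (f ≫ g) := fun c => by
  obtain ⟨b, rfl⟩ := hg c
  obtain ⟨a, rfl⟩ := hf b
  exact ⟨a, rfl⟩

theorem isIso_of_bijective {A B : Art Λ k} (f : A ⟶ B) (hf : Function.Bijective f) : IsIso f :=
  let ⟨g, h₁, h₂⟩ := exists_inv_of_bijective f hf
  ⟨g, h₁, h₂⟩

/-- A surjection whose kernel is killed by the maximal ideal sends it to itself and has nilpotent kernel. -/
theorem ker_le_maximalIdeal {A B : Art Λ k} (f : B ⟶ A) :
    RingHom.ker f.toAlgHom ≤ IsLocalRing.maximalIdeal B := fun b hb => by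
  rw [Art.mem_maximalIdeal_iff, ← Art.res_app f, show f b = 0 from hb, map_zero]

theorem exists_fibreProd_of_surjective [IsNoetherianRing Λ] [Module.Finite Λ k]
    {A A' A'' : Art Λ k} (f' : A' ⟶ A) (f'' : A'' ⟶ A) (hf : Function.Surjective f'') :
    ∃ (B : Art Λ k) (p' : B ⟶ A') (p'' : B ⟶ A''), Art.IsFibreProd p' p'' f' f'' := by
  let E : Subalgebra Λ (A' × A'') := AlgHom.equalizer
    (f'.toAlgHom.comp (AlgHom.fst Λ A' A'')) (f''.toAlgHom.comp (AlgHom.snd Λ A' A''))
  have := finite_carrier_of_finite A'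
  have := finite_carrier_of_finite A''
  have : Module.Finite Λ E := Module.Finite.of_injective E.val.toLinearMap Subtype.val_injective
  let r : E →ₐ[Λ] k := A'.res.comp ((AlgHom.fst Λ A' A'').comp E.val)
  have hr : Function.Surjective r := fun c => by
    obtain ⟨a, rfl⟩ := A'.res_surjective c
    obtain ⟨b, hb⟩ := hf (f' a)
    exact ⟨⟨(a, b), hb.symm⟩, rfl⟩
  have hnil : ∀ e, r e = 0 → IsNilpotent e := by
    intro e he
    have h2 : A''.res e.1.2 = 0 := by
      have := congrArg A.res (show f' e.1.1 = f'' e.1.2 from e.2)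
      rw [Art.res_app, Art.res_app] at this
      exact this.symm.trans he
    obtain ⟨a, ha⟩ := isNilpotent_of_res_eq_zero A' he
    obtain ⟨b, hb⟩ := isNilpotent_of_res_eq_zero A'' h2
    exact ⟨a + b, Subtype.ext (Prod.ext (pow_eq_zero_of_le (Nat.le_add_right a b) ha)
      (pow_eq_zero_of_le (Nat.le_add_left b a) hb))⟩
  obtain ⟨B, i, hi⟩ := exists_art_of_finite' E r hr hnil
  have hres : ∀ b, r (i.symm b) = B.res b := fun b => by
    rw [← hi]; exact congrArg B.res (i.apply_symm_apply b)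
  let p' : B ⟶ A' := Art.homMk (((AlgHom.fst Λ A' A'').comp E.val).comp i.symm.toAlgHom)
    (AlgHom.ext hres)
  let p'' : B ⟶ A'' := Art.homMk (((AlgHom.snd Λ A' A'').comp E.val).comp i.symm.toAlgHom)
    (AlgHom.ext fun b => by
      rw [← hres b]
      have := congrArg A.res (show f' (i.symm b).1.1 = f'' (i.symm b).1.2 from (i.symm b).2)
      rw [Art.res_app, Art.res_app] at this
      exact this.symm)
  exact ⟨B, p', p'', ⟨Art.hom_ext (AlgHom.ext fun b => (i.symm b).2),
    fun b₁ b₂ h₁ h₂ => i.symm.injective (Subtype.ext (Prod.ext h₁ h₂)),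
    fun a' a'' h => ⟨i ⟨(a', a''), h⟩, congrArg (fun e : E => e.1.1) (i.symm_apply_apply _),
      congrArg (fun e : E => e.1.2) (i.symm_apply_apply _)⟩⟩⟩

section FibreProd

variable {B A A' A'' : Art Λ k} {p' : B ⟶ A'} {p'' : B ⟶ A''} {f' : A' ⟶ A} {f'' : A'' ⟶ A}

theorem surjective_fst (h : Art.IsFibreProd p' p'' f' f'') (hf : Function.Surjective f'') :
    Function.Surjective p' := fun a => by
  obtain ⟨a'', ha⟩ := hf (f' a)
  obtain ⟨b, hb, -⟩ := h.surj a a'' ha.symm
  exact ⟨b, hb⟩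

theorem surjective_snd (h : Art.IsFibreProd p' p'' f' f'') (hf : Function.Surjective f') :
    Function.Surjective p'' := fun a => by
  obtain ⟨a', ha⟩ := hf (f'' a)
  obtain ⟨b, -, hb⟩ := h.surj a' a ha
  exact ⟨b, hb⟩

/-- The first projection of a fibre product along a small extension is a small extension. -/
theorem isSmallExt_fst (h : Art.IsFibreProd p' p'' f' f'') (hf : Art.IsSmallExt f'') : Art.IsSmallExt p' := by
  obtain ⟨hsurj, hne, ⟨x, hx⟩, hann⟩ := hf
  rw [Ideal.submodule_span_eq] at hx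
  have hx0 : f'' x = 0 := RingHom.mem_ker.mp (hx ▸ Ideal.mem_span_singleton_self x)
  obtain ⟨z, hz₁, hz₂⟩ := h.surj 0 x (by rw [hx0]; exact map_zero f'.toAlgHom)
  have hp's := surjective_fst h hsurj
  have hker : RingHom.ker p'.toAlgHom = Ideal.span {z} := by
    refine le_antisymm (fun b hb => ?_) ((Ideal.span_singleton_le_iff_mem _).mpr hz₁)
    have hb'' : p'' b ∈ RingHom.ker f''.toAlgHom := by
      rw [RingHom.mem_ker]
      exact (h.w_apply b).symm.trans ((congrArg f' (show p' b = 0 from hb)).trans (map_zero f'.toAlgHom))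
    rw [hx] at hb''
    obtain ⟨r, hr⟩ := Ideal.mem_span_singleton'.mp hb''
    obtain ⟨c, hc⟩ := A''.res_surjective (A''.res r)
    obtain ⟨b₀, hb₀⟩ := B.res_surjective (A''.res r)
    have hd : p'' b₀ * x = r * x := by
      rw [← sub_eq_zero, ← sub_mul]
      have hm := Ideal.mul_mem_mul ((Art.mem_maximalIdeal_iff A'' (p'' b₀ - r)).mpr (by
        rw [map_sub, Art.res_app, hb₀, sub_self])) (hx ▸ Ideal.mem_span_singleton_self x :
          x ∈ RingHom.ker f''.toAlgHom)
      rwa [hann, Ideal.mem_bot] at hm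
    refine Ideal.mem_span_singleton'.mpr ⟨b₀, h.inj _ _ ?_ ?_⟩
    · change p'.toAlgHom (b₀ * z) = p'.toAlgHom b
      rw [map_mul, show p'.toAlgHom z = 0 from hz₁, mul_zero]
      exact (show p' b = 0 from hb).symm
    · change p''.toAlgHom (b₀ * z) = p''.toAlgHom b
      rw [map_mul, show p''.toAlgHom z = x from hz₂]
      exact hd.trans hr
  refine ⟨hp's, fun h0 => hne ?_, ⟨⟨z, hker⟩⟩, ?_⟩
  · rw [hx, Ideal.span_singleton_eq_bot]
    rw [hker, Ideal.span_singleton_eq_bot] at h0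
    rw [← hz₂, h0]
    exact map_zero p''.toAlgHom
  · rw [hker, ← le_bot_iff, Ideal.mul_le]
    intro m hm y hy
    obtain ⟨r, rfl⟩ := Ideal.mem_span_singleton'.mp hy
    rw [Ideal.mem_bot]
    refine h.inj _ _ ?_ ?_
    · change p'.toAlgHom (m * (r * z)) = p'.toAlgHom 0
      rw [map_mul, map_mul, show p'.toAlgHom z = 0 from hz₁, mul_zero, mul_zero, map_zero]
    · change p''.toAlgHom (m * (r * z)) = p''.toAlgHom 0
      rw [map_mul, map_mul, show p''.toAlgHom z = x from hz₂, map_zero, ← mul_assoc]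
      have hm' := Ideal.mul_mem_mul (Ideal.mul_mem_right (p'' r) _ ((Art.mem_maximalIdeal_iff A'' (p'' m)).mpr (by
        rw [Art.res_app]; exact (Art.mem_maximalIdeal_iff B m).mp hm)))
        (hx ▸ Ideal.mem_span_singleton_self x : x ∈ RingHom.ker f''.toAlgHom)
      rwa [hann, Ideal.mem_bot] at hm'

end FibreProd

section Cmp

variable {F : Art Λ k ⥤ Type v}

theorem cmp_eq_iff {B A A' A'' : Art Λ k} {p' : B ⟶ A'} {p'' : B ⟶ A''} {f' : A' ⟶ A} {f'' : A'' ⟶ A}
    (h : Art.IsFibreProd p' p'' f' f'') {z₁ z₂ : F.obj B} :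
    cmp F h z₁ = cmp F h z₂ ↔ F.map p' z₁ = F.map p' z₂ ∧ F.map p'' z₁ = F.map p'' z₂ :=
  ⟨fun e => ⟨congrArg (fun y => y.1.1) e, congrArg (fun y => y.1.2) e⟩,
    fun e => FibProd.ext e.1 e.2⟩

theorem exists_of_cmp_surjective {B A A' A'' : Art Λ k} {p' : B ⟶ A'} {p'' : B ⟶ A''} {f' : A' ⟶ A}
    {f'' : A'' ⟶ A} {h : Art.IsFibreProd p' p'' f' f''} (hs : Function.Surjective (cmp F h))
    (x : F.obj A') (y : F.obj A'') (w : F.map f' x = F.map f'' y) :
    ∃ z, F.map p' z = x ∧ F.map p'' z = y := by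
  obtain ⟨z, hz⟩ := hs ⟨(x, y), w⟩
  exact ⟨z, congrArg (fun v => v.1.1) hz, congrArg (fun v => v.1.2) hz⟩

theorem cmp_bijective_of_bijective (F : Art Λ k ⥤ Type v) {B A A' A'' : Art Λ k} {p' : B ⟶ A'}
    {p'' : B ⟶ A''} {f' : A' ⟶ A} {f'' : A'' ⟶ A} (h : Art.IsFibreProd p' p'' f' f'')
    (hf : Function.Bijective f'') : Function.Bijective (cmp F h) := by
  have hp' : Function.Bijective p' :=
    ⟨fun b₁ b₂ e => h.inj _ _ e (hf.1 ((h.w_apply b₁).symm.trans ((congrArg f' e).trans (h.w_apply b₂)))),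
      surjective_fst h hf.2⟩
  obtain ⟨g, hg₁, hg₂⟩ := exists_inv_of_bijective p' hp'
  obtain ⟨g'', hi₁, -⟩ := exists_inv_of_bijective f'' hf
  refine ⟨fun z₁ z₂ e => ?_, fun x => ⟨F.map g x.1.1, FibProd.ext ?_ ?_⟩⟩
  · have := congrArg (F.map g) ((cmp_eq_iff h).mp e).1
    rwa [map_map_apply, map_map_apply, hg₁, map_id_elt, map_id_elt] at this
  · change F.map p' (F.map g x.1.1) = _
    rw [map_map_apply, hg₂, map_id_elt]
  · change F.map p'' (F.map g x.1.1) = _
    have e1 : F.map f'' (F.map p'' (F.map g x.1.1)) = F.map f'' x.1.2 := by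
      rw [← x.2, map_map_apply, map_map_apply, ← h.w, ← Category.assoc, hg₂, Category.id_comp]
    have e2 := congrArg (F.map g'') e1
    rwa [map_map_apply F f'' g'', map_map_apply F f'' g'', hi₁, map_id_elt, map_id_elt] at e2

variable [IsNoetherianRing Λ] [Module.Finite Λ k]

/-- A property of surjective legs stable under composition of squares holds once it holds for small
extensions. -/
theorem cmp_of_small (P : ∀ {X Y : Type v}, (X → Y) → Prop)
    (hbij : ∀ {X Y : Type v} {f : X → Y}, Function.Bijective f → P f)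
    (hcomb : ∀ {B A A' A'' C B' : Art Λ k} {p' : B ⟶ A'} {p'' : B ⟶ A''} {f' : A' ⟶ A} {t : C ⟶ A}
      {g : A'' ⟶ C} {q' : B' ⟶ A'} {q'' : B' ⟶ C} {r : B ⟶ B'}
      (h : Art.IsFibreProd p' p'' f' (g ≫ t)) (hB' : Art.IsFibreProd q' q'' f' t)
      (hsq : Art.IsFibreProd r p'' q'' g), r ≫ q' = p' →
      P (cmp F hB') → P (cmp F hsq) → P (cmp F h))
    (hsmall : ∀ ⦃B A A' A'' : Art Λ k⦄ (p' : B ⟶ A') (p'' : B ⟶ A'') (f' : A' ⟶ A) (f'' : A'' ⟶ A)
      (h : Art.IsFibreProd p' p'' f' f''), Art.IsSmallExt f'' → P (cmp F h))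
    {B A A' A'' : Art Λ k} {p' : B ⟶ A'} {p'' : B ⟶ A''}
    {f' : A' ⟶ A} {f'' : A'' ⟶ A} (h : Art.IsFibreProd p' p'' f' f'') (hs : Function.Surjective f'') :
    P (cmp F h) := by
  let Q : ∀ {A'' A : Art Λ k}, (A'' ⟶ A) → Prop := fun {A'' A} f'' =>
    ∀ {B A' : Art Λ k} (p' : B ⟶ A') (p'' : B ⟶ A'') (f' : A' ⟶ A)
      (h : Art.IsFibreProd p' p'' f' f''), P (cmp F h)
  refine surjective_induction Q (fun f hf _ _ _ _ _ h => hbij (cmp_bijective_of_bijective F h hf))
    ?_ f'' hs p' p'' f' h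
  intro A'' C A g t htsurj hg ht B A' p' p'' f' h
  have hPg : Q g := by
    rcases hg with hg | hg
    · exact fun _ _ _ h => hbij (cmp_bijective_of_bijective F h hg)
    · exact fun p' p'' f' h => hsmall p' p'' f' g h hg
  obtain ⟨B', q', q'', hB'⟩ := exists_fibreProd_of_surjective f' t htsurj
  obtain ⟨r, hr₁, hr₂⟩ := fibreProd_liftHom hB' p' (p'' ≫ g) (by rw [h.w, Category.assoc])
  have hsq : Art.IsFibreProd r p'' q'' g := by
    refine ⟨hr₂, fun b₁ b₂ e₁ e₂ => h.inj _ _ ?_ e₂, fun b' a'' e => ?_⟩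
    · rw [← hr₁]
      exact congrArg q' e₁
    · have e0 : f' (q' b') = (g ≫ t) a'' := by
        rw [hB'.w_apply, e]; rfl
      obtain ⟨b, hb₁, hb₂⟩ := h.surj (q' b') a'' e0
      refine ⟨b, hB'.inj _ _ ?_ ?_, hb₂⟩
      · change (r ≫ q') b = _
        rw [hr₁]; exact hb₁
      · change (r ≫ q'') b = _
        rw [hr₂, Art.comp_apply, hb₂, e]
  exact hcomb h hB' hsq hr₁ (ht q' q'' f' hB') (hPg r p'' q'' hsq)

omit [IsNoetherianRing Λ] [Module.Finite Λ k] in
theorem comb_surjective {B A A' A'' C B' : Art Λ k} {p' : B ⟶ A'} {p'' : B ⟶ A''} {f' : A' ⟶ A}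
    {t : C ⟶ A} {g : A'' ⟶ C} {q' : B' ⟶ A'} {q'' : B' ⟶ C} {r : B ⟶ B'}
    (h : Art.IsFibreProd p' p'' f' (g ≫ t)) (hB' : Art.IsFibreProd q' q'' f' t)
    (hsq : Art.IsFibreProd r p'' q'' g) (hr : r ≫ q' = p') (h₁ : Function.Surjective (cmp F hB'))
    (h₂ : Function.Surjective (cmp F hsq)) : Function.Surjective (cmp F h) := fun x => by
  obtain ⟨z', hz'₁, hz'₂⟩ := exists_of_cmp_surjective h₁ x.1.1 (F.map g x.1.2)
    (x.2.trans (map_map_apply F g t _).symm)
  obtain ⟨z, hz₁, hz₂⟩ := exists_of_cmp_surjective h₂ z' x.1.2 hz'₂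
  refine ⟨z, FibProd.ext ?_ hz₂⟩
  change F.map p' z = _
  rw [← hr, ← map_map_apply, hz₁, hz'₁]

omit [IsNoetherianRing Λ] [Module.Finite Λ k] in
theorem comb_injective {B A A' A'' C B' : Art Λ k} {p' : B ⟶ A'} {p'' : B ⟶ A''} {f' : A' ⟶ A}
    {t : C ⟶ A} {g : A'' ⟶ C} {q' : B' ⟶ A'} {q'' : B' ⟶ C} {r : B ⟶ B'}
    (h : Art.IsFibreProd p' p'' f' (g ≫ t)) (hB' : Art.IsFibreProd q' q'' f' t)
    (hsq : Art.IsFibreProd r p'' q'' g) (hr : r ≫ q' = p') (h₁ : Function.Injective (cmp F hB'))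
    (h₂ : Function.Injective (cmp F hsq)) : Function.Injective (cmp F h) := fun z₁ z₂ e => by
  obtain ⟨e₁, e₂⟩ := (cmp_eq_iff h).mp e
  refine h₂ ((cmp_eq_iff hsq).mpr ⟨h₁ ((cmp_eq_iff hB').mpr ⟨?_, ?_⟩), e₂⟩)
  · rw [map_map_apply, map_map_apply, hr, e₁]
  · rw [map_map_apply, map_map_apply, hsq.w, ← map_map_apply, ← map_map_apply, e₂]

theorem cmp_surjective_of_small (hbar : Hbar F) {B A A' A'' : Art Λ k} {p' : B ⟶ A'} {p'' : B ⟶ A''}
    {f' : A' ⟶ A} {f'' : A'' ⟶ A} (h : Art.IsFibreProd p' p'' f' f'') (hs : Function.Surjective f'') :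
    Function.Surjective (cmp F h) :=
  cmp_of_small (fun f => Function.Surjective f) (fun hf => hf.2)
    (fun h hB' hsq hr h₁ h₂ => comb_surjective h hB' hsq hr h₁ h₂)
    (fun _ _ _ _ p' p'' f' f'' h hf => hbar p' p'' f' f'' h hf) h hs

theorem cmp_injective_of_small
    (hsmall : ∀ ⦃B A A' A'' : Art Λ k⦄ (p' : B ⟶ A') (p'' : B ⟶ A'') (f' : A' ⟶ A) (f'' : A'' ⟶ A)
      (h : Art.IsFibreProd p' p'' f' f''), Art.IsSmallExt f'' → Function.Injective (cmp F h))
    {B A A' A'' : Art Λ k} {p' : B ⟶ A'} {p'' : B ⟶ A''}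
    {f' : A' ⟶ A} {f'' : A'' ⟶ A} (h : Art.IsFibreProd p' p'' f' f'') (hs : Function.Surjective f'') :
    Function.Injective (cmp F h) :=
  cmp_of_small (fun f => Function.Injective f) (fun hf => hf.1)
    (fun h hB' hsq hr h₁ h₂ => comb_injective h hB' hsq hr h₁ h₂) hsmall h hs

theorem cmp_bijective_of_small
    (hsmall : ∀ ⦃B A A' A'' : Art Λ k⦄ (p' : B ⟶ A') (p'' : B ⟶ A'') (f' : A' ⟶ A) (f'' : A'' ⟶ A)
      (h : Art.IsFibreProd p' p'' f' f''), Art.IsSmallExt f'' → Function.Bijective (cmp F h))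
    {B A A' A'' : Art Λ k} {p' : B ⟶ A'} {p'' : B ⟶ A''}
    {f' : A' ⟶ A} {f'' : A'' ⟶ A} (h : Art.IsFibreProd p' p'' f' f'') (hs : Function.Surjective f'') :
    Function.Bijective (cmp F h) :=
  ⟨cmp_injective_of_small (fun _ _ _ _ p' p'' f' f'' h hf => (hsmall p' p'' f' f'' h hf).1) h hs,
    cmp_surjective_of_small (fun _ _ _ _ p' p'' f' f'' h hf => (hsmall p' p'' f' f'' h hf).2) h hs⟩

end Cmp

section Smooth

variable {F G H : Art Λ k ⥤ Type v}

theorem exists_of_relCmp_surjective {η : F ⟶ G} {B A : Art Λ k} {μ : B ⟶ A}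
    (h : Function.Surjective (relCmp η μ)) (x : F.obj A) (y : G.obj B) (w : η.app A x = G.map μ y) :
    ∃ z, F.map μ z = x ∧ η.app B z = y := by
  obtain ⟨z, hz⟩ := h ⟨(x, y), w⟩
  exact ⟨z, congrArg (fun v => v.1.1) hz, congrArg (fun v => v.1.2) hz⟩

theorem relCmp_surjective_of_bijective (η : F ⟶ G) {B A : Art Λ k} (μ : B ⟶ A) (hμ : Function.Bijective μ) :
    Function.Surjective (relCmp η μ) := fun x => by
  obtain ⟨g, hg₁, hg₂⟩ := exists_inv_of_bijective μ hμ
  refine ⟨F.map g x.1.1, Subtype.ext (Prod.ext ?_ ?_)⟩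
  · change F.map μ (F.map g x.1.1) = _
    rw [map_map_apply, hg₂, map_id_elt]
  · change η.app B (F.map g x.1.1) = _
    rw [NatTrans.naturality_apply η g x.1.1, x.2, map_map_apply, hg₁, map_id_elt]

/-- Smoothness may be tested on small extensions. -/
theorem isSmooth_of_small (η : F ⟶ G)
    (h : ∀ ⦃B A : Art Λ k⦄ (μ : B ⟶ A), Art.IsSmallExt μ → Function.Surjective (relCmp η μ)) :
    IsSmooth η := by
  intro B A μ hμ
  refine surjective_induction (fun {B A} μ => Function.Surjective (relCmp η μ))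
    (fun f hf => relCmp_surjective_of_bijective η f hf) ?_ μ hμ
  intro B C A g t _ hg ht x
  obtain ⟨y, hy₁, hy₂⟩ := exists_of_relCmp_surjective ht x.1.1 (G.map g x.1.2)
    (x.2.trans (map_map_apply G g t _).symm)
  have hg' : Function.Surjective (relCmp η g) := by
    rcases hg with hg | hg
    · exact relCmp_surjective_of_bijective η g hg
    · exact h g hg
  obtain ⟨z, hz₁, hz₂⟩ := exists_of_relCmp_surjective hg' y x.1.2 hy₂
  refine ⟨z, Subtype.ext (Prod.ext ?_ hz₂)⟩
  change F.map (g ≫ t) z = _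
  rw [← map_map_apply, hz₁, hy₁]

end Smooth

section DualSquare

/-- For a small extension with kernel `(x)`, `B ×_A B` is `B ×_k k[ε]`. -/
theorem exists_dual_square' [IsNoetherianRing Λ] [Module.Finite Λ k]
    {B A : Art Λ k} (μ : B ⟶ A) (hμ : Art.IsSmallExt μ) :
    ∃ (E : Art Λ k) (p : E ⟶ B) (p' : E ⟶ Art.dual Λ k) (Θ : E ⟶ B),
      Art.IsFibreProd p p' (Art.toBase B) (Art.toBase (Art.dual Λ k)) ∧
        Art.IsFibreProd p Θ μ μ ∧
        ∀ e : E, (p' e : DualNumber k).snd = 0 ↔ Θ e = p e := by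
  obtain ⟨E, p, p', hE⟩ := exists_fibreProd_of_surjective (Art.toBase B) (Art.toBase (Art.dual Λ k))
    (toBase_surjective _)
  obtain ⟨hsurj, hne, ⟨x, hx⟩, hann⟩ := hμ
  rw [Ideal.submodule_span_eq] at hx
  have hμx : μ x = 0 := by
    change μ.toAlgHom x = 0
    exact RingHom.mem_ker.mp (hx ▸ Ideal.mem_span_singleton_self x)
  have hxmul : ∀ b, B.res b = 0 → b * x = 0 := fun b hb => by
    have := Ideal.mul_mem_mul ((Art.mem_maximalIdeal_iff B b).mpr hb)
      (hx ▸ Ideal.mem_span_singleton_self x : x ∈ RingHom.ker μ.toAlgHom)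
    rwa [hann, Ideal.mem_bot] at this
  let ν : k → B := fun c => Function.surjInv B.res_surjective c * x
  have hν : ∀ b, ν (B.res b) = b * x := fun b => by
    rw [← sub_eq_zero, ← sub_mul]
    exact hxmul _ (by rw [map_sub, Function.surjInv_eq B.res_surjective, sub_self])
  have hνadd : ∀ c d, ν (c + d) = ν c + ν d := fun c d => by
    obtain ⟨a, rfl⟩ := B.res_surjective c
    obtain ⟨b, rfl⟩ := B.res_surjective d
    rw [← map_add, hν, hν, hν, add_mul]
  have hν0 : ν 0 = 0 := by rw [← map_zero B.res, hν, zero_mul]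
  have hνmul : ∀ (b : B) c, ν (B.res b * c) = b * ν c := fun b c => by
    obtain ⟨a, rfl⟩ := B.res_surjective c
    rw [← map_mul, hν, hν, mul_assoc]
  have hνinj : ∀ c, ν c = 0 → c = 0 := fun c hc => by
    obtain ⟨b, rfl⟩ := B.res_surjective c
    rw [hν] at hc
    by_contra h0
    have hu : IsUnit b := by
      by_contra hu
      exact h0 ((Art.mem_maximalIdeal_iff B b).mp ((IsLocalRing.mem_maximalIdeal b).mpr hu))
    refine hne ?_
    rw [hx, Ideal.span_singleton_eq_bot]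
    exact hu.mul_right_eq_zero.mp hc
  have hxx : x * x = 0 := hxmul x (by rw [← Art.res_app μ, hμx, map_zero])
  have hνν : ∀ c d, ν c * ν d = 0 := fun c d => by
    change _ * x * (_ * x) = 0
    rw [mul_mul_mul_comm, hxx, mul_zero]
  have hfst : ∀ e, (p' e : DualNumber k).fst = B.res (p e) := fun e => (hE.w_apply e).symm
  let θ : E → B := fun e => p e + ν (p' e : DualNumber k).snd
  have hm : ∀ u v : DualNumber k, (u * v).snd = u.fst * v.snd + v.fst * u.snd := fun u v => by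
    rw [TrivSqZeroExt.snd_mul, op_smul_eq_smul, smul_eq_mul, smul_eq_mul]
  let Θ₀ : E →ₐ[Λ] B :=
    { toFun := θ
      map_one' := by
        change p.toAlgHom 1 + ν (p'.toAlgHom 1 : DualNumber k).snd = 1
        rw [map_one, map_one]
        exact (congrArg (1 + ·) hν0).trans (add_zero 1)
      map_mul' := fun a b => by
        change p.toAlgHom (a * b) + ν (p'.toAlgHom (a * b) : DualNumber k).snd = θ a * θ b
        rw [map_mul, map_mul]
        change p a * p b + ν ((p' a : DualNumber k) * (p' b : DualNumber k)).snd = θ a * θ b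
        have e1 : ν (p' a : DualNumber k).snd * ν (p' b : DualNumber k).snd = 0 := hνν _ _
        erw [hm, hfst, hfst, hνadd, hνmul, hνmul]
        simp only [θ, add_mul, mul_add, e1, add_zero]
        ring
      map_zero' := by
        change p.toAlgHom 0 + ν (p'.toAlgHom 0 : DualNumber k).snd = 0
        rw [map_zero, map_zero]
        exact (congrArg (0 + ·) hν0).trans (add_zero 0)
      map_add' := fun a b => by
        change p.toAlgHom (a + b) + ν (p'.toAlgHom (a + b) : DualNumber k).snd = θ a + θ b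
        rw [map_add, map_add]
        change p a + p b + ν ((p' a : DualNumber k).snd + (p' b : DualNumber k).snd) = θ a + θ b
        rw [hνadd]
        simp only [θ]
        ring
      commutes' := fun l => by
        change p.toAlgHom (algebraMap Λ E l) + ν (p'.toAlgHom (algebraMap Λ E l) : DualNumber k).snd =
          algebraMap Λ B l
        rw [AlgHom.commutes, AlgHom.commutes]
        exact (congrArg (algebraMap Λ B l + ·) hν0).trans (add_zero _) }
  have hμν : ∀ c, μ (ν c) = 0 := fun c => by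
    change μ.toAlgHom (_ * x) = 0
    rw [map_mul, show μ.toAlgHom x = 0 from hμx, mul_zero]
  have hμθ : ∀ e, μ (θ e) = μ (p e) := fun e => by
    change μ.toAlgHom (p e + ν (p' e : DualNumber k).snd) = μ.toAlgHom (p e)
    rw [map_add, show μ.toAlgHom (ν _) = 0 from hμν _, add_zero]
  let Θ : E ⟶ B := Art.homMk Θ₀ (AlgHom.ext fun e => by
    change B.res (θ e) = E.res e
    rw [← Art.res_app μ, hμθ, Art.res_app, Art.res_app])
  refine ⟨E, p, p', Θ, hE, ⟨Art.hom_ext (AlgHom.ext fun e => (hμθ e).symm),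
    fun a b ha hb => ?_, fun a b h => ?_⟩, fun e => ⟨fun he => ?_, fun he => hνinj _ ?_⟩⟩
  · have hb' : ν (p' a : DualNumber k).snd = ν (p' b : DualNumber k).snd := by
      have : p a + ν (p' a : DualNumber k).snd = p b + ν (p' b : DualNumber k).snd := hb
      rw [ha] at this
      exact add_left_cancel this
    refine hE.inj a b ha (TrivSqZeroExt.ext (by rw [hfst, hfst, ha]) (sub_eq_zero.mp (hνinj _ ?_)))
    have := hνadd ((p' a : DualNumber k).snd - (p' b : DualNumber k).snd) (p' b : DualNumber k).snd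
    rw [sub_add_cancel, hb'] at this
    exact add_eq_right.mp this.symm
  · have hba : b - a ∈ RingHom.ker μ.toAlgHom := by
      rw [RingHom.mem_ker, map_sub, sub_eq_zero]
      exact h.symm
    rw [hx] at hba
    obtain ⟨r, hr⟩ := Ideal.mem_span_singleton'.mp hba
    obtain ⟨e, he₁, he₂⟩ := hE.surj a ((B.res a, B.res r) : DualNumber k) rfl
    refine ⟨e, he₁, ?_⟩
    change p e + ν (p' e : DualNumber k).snd = b
    rw [he₁, he₂]
    change a + ν (B.res r) = b
    rw [hν, hr, add_sub_cancel]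
  · change p e + ν (p' e : DualNumber k).snd = p e
    rw [he, hν0, add_zero]
  · exact add_eq_left.mp (show p e + ν (p' e : DualNumber k).snd = p e from he)

/-- The dual-number coordinate of the diagonal is trivial. -/
theorem diag_comp_eq {E B A : Art Λ k} {p Θ : E ⟶ B} {μ : B ⟶ A} {p' : E ⟶ Art.dual Λ k}
    (hθ : ∀ e : E, (p' e : DualNumber k).snd = 0 ↔ Θ e = p e) {Δ : B ⟶ E} (h₁ : Δ ≫ p = 𝟙 B)
    (h₂ : Δ ≫ Θ = 𝟙 B) : Δ ≫ p' = Art.toBase B ≫ Art.baseToDual := by
  refine Art.hom_ext (AlgHom.ext fun b => TrivSqZeroExt.ext ?_ ?_)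
  · exact (Art.res_app p' (Δ b)).trans (Art.res_app Δ b)
  · refine ((hθ (Δ b)).mpr ?_).trans rfl
    change (Δ ≫ Θ) b = (Δ ≫ p) b
    rw [h₁, h₂]

variable [IsNoetherianRing Λ] [Module.Finite Λ k] {F G : Art Λ k ⥤ Type v}

/-- If the square of a small extension with the dual numbers is controlled, two lifts with equal images
under a morphism which is injective on tangent spaces are equal. -/
theorem eq_of_lifts_small (q : G ⟶ F) (hF0 : Subsingleton (F.obj (Art.base Λ k)))
    (hG0 : Subsingleton (G.obj (Art.base Λ k))) (hFsq : HSq F) (hGbar : Hbar G) (hGeps : Heps G)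
    (hq : Function.Injective (q.app (Art.dual Λ k))) {B A : Art Λ k} (μ : B ⟶ A) (hμ : Art.IsSmallExt μ)
    (y₁ y₂ : G.obj B) (h : G.map μ y₁ = G.map μ y₂) (hqy : q.app B y₁ = q.app B y₂) : y₁ = y₂ := by
  obtain ⟨E, p, p', Θ, hE, hsq, hθ⟩ := exists_dual_square' μ hμ
  obtain ⟨Δ, hΔ₁, hΔ₂⟩ := fibreProd_liftHom hsq (𝟙 B) (𝟙 B) rfl
  obtain ⟨z, hz₁, hz₂⟩ := exists_of_cmp_surjective (hGbar _ _ _ _ hsq hμ) y₁ y₂ h
  have hqz : q.app E z = F.map Δ (q.app B y₁) := (hFsq _ _ _ hsq hμ).1 ((cmp_eq_iff hsq).mpr ⟨by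
      rw [← NatTrans.naturality_apply q p z, hz₁, map_map_apply, hΔ₁, map_id_elt], by
      rw [← NatTrans.naturality_apply q Θ z, hz₂, map_map_apply, hΔ₂, map_id_elt, hqy]⟩)
  have hg : G.map p' z = G.map p' (G.map Δ y₁) := hq (by
    rw [NatTrans.naturality_apply q p' z, hqz, map_map_apply, map_map_apply,
      NatTrans.naturality_apply q (Δ ≫ p') y₁])
  have hzΔ : z = G.map Δ y₁ :=
    (hGeps _ _ hE).1 ((cmp_eq_iff hE).mpr ⟨by rw [hz₁, map_map_apply, hΔ₁, map_id_elt], hg⟩)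
  rw [← hz₂, hzΔ, map_map_apply, hΔ₂, map_id_elt]

/-- Lifting criterion along a small extension for a morphism which is surjective on tangent spaces. -/
theorem exists_lift_small (φ : F ⟶ G) (hG0 : Subsingleton (G.obj (Art.base Λ k)))
    (hF0 : Subsingleton (F.obj (Art.base Λ k))) (hFeps : Heps F) (hGbar : Hbar G) (hGeps : Heps G)
    (hd : Function.Surjective (φ.app (Art.dual Λ k))) {B A : Art Λ k} (μ : B ⟶ A) (hμ : Art.IsSmallExt μ)
    (x' : F.obj B) (y' : G.obj B) (h : G.map μ y' = G.map μ (φ.app B x')) :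
    ∃ z : F.obj B, F.map μ z = F.map μ x' ∧ φ.app B z = y' := by
  obtain ⟨E, p, p', Θ, hE, hsq, hθ⟩ := exists_dual_square' μ hμ
  obtain ⟨w, hw₁, hw₂⟩ := exists_of_cmp_surjective (hGbar _ _ _ _ hsq hμ) (φ.app B x') y' h.symm
  obtain ⟨ξ, hξ⟩ := hd (G.map p' w)
  obtain ⟨z, hz₁, hz₂⟩ := exists_of_cmp_surjective (hFeps _ _ hE).2 x' ξ (Subsingleton.elim _ _)
  have hzw : φ.app E z = w := (hGeps _ _ hE).1 ((cmp_eq_iff hE).mpr ⟨by
    rw [← NatTrans.naturality_apply φ p z, hz₁, hw₁], by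
    rw [← NatTrans.naturality_apply φ p' z, hz₂, hξ]⟩)
  refine ⟨F.map Θ z, ?_, by rw [NatTrans.naturality_apply φ Θ z, hzw, hw₂]⟩
  rw [map_map_apply, ← hsq.w, ← map_map_apply, hz₁]

end DualSquare

end Groth.Agent.ArtHull
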