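import Groth.Agent.ArtHull.HullExist

/-!
Fibre products in `Art Λ k` for `k` separable over the image of `Λ`.
-/

set_option autoImplicit false

universe u v

open CategoryTheory ArtFun Polynomial

namespace Groth.Agent.ArtHull

variable {Λ : Type u} {k : Type u} [CommRing Λ] [Field k] [Algebra Λ k]

theorem subsingleton_derivation_of_isSeparable [Module.Finite Λ k]
    [Algebra.IsSeparable (↥(algebraMap Λ k).range) k] : Subsingleton (Derivation Λ k k) := by
  let K := (algebraMap Λ k).range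
  suffices h : ∀ (D : Derivation Λ k k) (x : k), D x = 0 from
    ⟨fun D D' => Derivation.ext fun x => (h D x).trans (h D' x).symm⟩
  intro D x
  obtain ⟨b, hb⟩ : ∃ b, b = minpoly K x := ⟨_, rfl⟩
  obtain ⟨P, hP⟩ := Polynomial.map_surjective (algebraMap Λ k).rangeRestrict
    (algebraMap Λ k).rangeRestrict_surjective b
  have hev : ∀ p : Λ[X], aeval x p = aeval x (p.map (algebraMap Λ k).rangeRestrict) := fun p => by
    rw [aeval_def, aeval_def, eval₂_map]
    rfl
  have h0 : aeval x P = 0 := by rw [hev, hP, hb, minpoly.aeval]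
  have h1 : aeval x (derivative P) ≠ 0 := by
    rw [hev, ← derivative_map, hP, hb]
    have : Algebra.IsIntegral K k := ⟨fun y => (Algebra.IsSeparable.isSeparable K y).isIntegral⟩
    have := isField_of_isIntegral_of_isField (R := K) (S := k) Subtype.val_injective (Field.toIsField k)
    letI := this.toField
    exact (Algebra.IsSeparable.isSeparable K x).aeval_derivative_ne_zero (minpoly.aeval _ _)
  have h2 := D.map_aeval P x
  rw [h0, map_zero, smul_eq_mul, eq_comm, mul_eq_zero] at h2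
  exact h2.resolve_left h1

theorem existsUnique_root {P : Λ[X]} {α : k} (hα : aeval α P = 0) (hP' : aeval α (derivative P) ≠ 0)
    (A : Art Λ k) : ∃! r : A, A.res r = α ∧ aeval r P = 0 := by
  obtain ⟨x, hx⟩ := A.res_surjective α
  have h1 : IsNilpotent (aeval x P) := isNilpotent_of_res_eq_zero A (by
    rw [← aeval_algHom_apply, hx, hα])
  have h2 : IsUnit (aeval x (derivative P)) := IsLocalRing.notMem_maximalIdeal.mp fun h => hP' (by
    rw [← hx, aeval_algHom_apply]
    exact (Art.mem_maximalIdeal_iff A _).1 h)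
  obtain ⟨r, ⟨hr, hr0⟩, huniq⟩ := Polynomial.existsUnique_nilpotent_sub_and_aeval_eq_zero h1 h2
  refine ⟨r, ⟨?_, hr0⟩, fun r' hr' => huniq r' ⟨isNilpotent_of_res_eq_zero A (by
    rw [map_sub, hx, hr'.1, sub_self]), hr'.2⟩⟩
  have := hr.map A.res
  rw [map_sub, hx] at this
  exact (sub_eq_zero.mp this.eq_zero).symm

variable [IsNoetherianRing Λ] [Module.Finite Λ k]

theorem exists_fibreProd_of_derivation (hk : Subsingleton (Derivation Λ k k))
    {A A₁ A₂ : Art Λ k} (f₁ : A₁ ⟶ A) (f₂ : A₂ ⟶ A) :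
    ∃ (B : Art Λ k) (p₁ : B ⟶ A₁) (p₂ : B ⟶ A₂), Art.IsFibreProd p₁ p₂ f₁ f₂ := by
  obtain ⟨P, α, hα, hP', hgen⟩ := exists_generator hk
  let E : Subalgebra Λ (A₁ × A₂) := AlgHom.equalizer
    (f₁.toAlgHom.comp (AlgHom.fst Λ A₁ A₂)) (f₂.toAlgHom.comp (AlgHom.snd Λ A₁ A₂))
  have := finite_carrier_of_finite A₁
  have := finite_carrier_of_finite A₂
  have : Module.Finite Λ E := Module.Finite.of_injective E.val.toLinearMap Subtype.val_injective
  obtain ⟨r₁, ⟨hr₁, hr₁'⟩, -⟩ := existsUnique_root hα hP' A₁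
  obtain ⟨r₂, ⟨hr₂, hr₂'⟩, -⟩ := existsUnique_root hα hP' A₂
  have hr : f₁ r₁ = f₂ r₂ := (existsUnique_root hα hP' A).unique
    ⟨(Art.res_app f₁ r₁).trans hr₁, by rw [aeval_algHom_apply, hr₁', map_zero]⟩
    ⟨(Art.res_app f₂ r₂).trans hr₂, by rw [aeval_algHom_apply, hr₂', map_zero]⟩
  let ρ : E →ₐ[Λ] k := A₁.res.comp ((AlgHom.fst Λ A₁ A₂).comp E.val)
  have hρ : Function.Surjective ρ := by
    rw [← AlgHom.range_eq_top, eq_top_iff, ← hgen, Algebra.adjoin_le_iff, Set.singleton_subset_iff]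
    exact (AlgHom.mem_range _).mpr ⟨⟨(r₁, r₂), hr⟩, hr₁⟩
  have hnil : ∀ e, ρ e = 0 → IsNilpotent e := by
    intro e he
    have h2 : A₂.res e.1.2 = 0 := by
      have := congrArg A.res (show f₁ e.1.1 = f₂ e.1.2 from e.2)
      rw [Art.res_app, Art.res_app] at this
      exact this.symm.trans he
    obtain ⟨a, ha⟩ := isNilpotent_of_res_eq_zero A₁ he
    obtain ⟨b, hb⟩ := isNilpotent_of_res_eq_zero A₂ h2
    exact ⟨a + b, Subtype.ext (Prod.ext (pow_eq_zero_of_le (Nat.le_add_right a b) ha)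
      (pow_eq_zero_of_le (Nat.le_add_left b a) hb))⟩
  obtain ⟨B, i, hi⟩ := exists_art_of_finite' E ρ hρ hnil
  have hres : ∀ b, ρ (i.symm b) = B.res b := fun b => by
    rw [← hi]; exact congrArg B.res (i.apply_symm_apply b)
  let p₁ : B ⟶ A₁ := Art.homMk (((AlgHom.fst Λ A₁ A₂).comp E.val).comp i.symm.toAlgHom)
    (AlgHom.ext hres)
  let p₂ : B ⟶ A₂ := Art.homMk (((AlgHom.snd Λ A₁ A₂).comp E.val).comp i.symm.toAlgHom)
    (AlgHom.ext fun b => by
      rw [← hres b]
      have := congrArg A.res (show f₁ (i.symm b).1.1 = f₂ (i.symm b).1.2 from (i.symm b).2)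
      rw [Art.res_app, Art.res_app] at this
      exact this.symm)
  exact ⟨B, p₁, p₂, ⟨Art.hom_ext (AlgHom.ext fun b => (i.symm b).2),
    fun b₁ b₂ h₁ h₂ => i.symm.injective (Subtype.ext (Prod.ext h₁ h₂)),
    fun a' a'' h => ⟨i ⟨(a', a''), h⟩, congrArg (fun e : E => e.1.1) (i.symm_apply_apply _),
      congrArg (fun e : E => e.1.2) (i.symm_apply_apply _)⟩⟩⟩

end Groth.Agent.ArtHull
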