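import Groth.Agent.S12709
import Groth.Agent.ArtHull.SepFibre
import Groth.Agent.ArtHull.General

/-!
Essential surjections in `Art Λ k` and relative cotangent spaces.
-/

set_option autoImplicit false

universe u

open CategoryTheory ArtFun

namespace Groth.Agent.ArtHull

variable {Λ : Type u} {k : Type u} [CommRing Λ] [Field k] [Algebra Λ k]

/-- The kernel of the passage to the relative cotangent space. -/
abbrev relW (B : Art Λ k) : Ideal B :=
  Ideal.map (algebraMap Λ B) (RingHom.ker (algebraMap Λ k)) ⊔ IsLocalRing.maximalIdeal B ^ 2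

theorem relW_le (B : Art Λ k) : relW B ≤ IsLocalRing.maximalIdeal B :=
  sup_le (Ideal.map_le_iff_le_comap.2 fun l hl => (Art.mem_maximalIdeal_iff B _).2
    ((B.res.commutes l).trans hl)) (Ideal.pow_le_self two_ne_zero)

theorem map_maximalIdeal_le {A B : Art Λ k} (f : A ⟶ B) :
    Ideal.map f.toAlgHom (IsLocalRing.maximalIdeal A) ≤ IsLocalRing.maximalIdeal B :=
  Ideal.map_le_iff_le_comap.2 fun a ha => by
    rw [Ideal.mem_comap, Art.mem_maximalIdeal_iff, Art.res_app]
    exact (Art.mem_maximalIdeal_iff A a).1 ha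

theorem relW_map_le {A B : Art Λ k} (f : A ⟶ B) : Ideal.map f.toAlgHom (relW A) ≤ relW B := by
  rw [relW, Ideal.map_sup]
  refine sup_le ((Ideal.map_le_iff_le_comap.2 ?_).trans le_sup_left) ?_
  · refine Ideal.map_le_iff_le_comap.2 fun l hl => ?_
    rw [Ideal.mem_comap, Ideal.mem_comap]
    exact (f.toAlgHom.commutes l).symm ▸ Ideal.mem_map_of_mem _ hl
  · rw [Ideal.map_pow]
    exact (Ideal.pow_right_mono (map_maximalIdeal_le f) 2).trans le_sup_right

variable [IsNoetherianRing Λ] [Module.Finite Λ k]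

theorem surjective_of_maximalIdeal_le {A B : Art Λ k} (g : A ⟶ B)
    (h : ∀ b ∈ IsLocalRing.maximalIdeal B, ∃ c ∈ IsLocalRing.maximalIdeal A, b - g c ∈ relW B) :
    Function.Surjective g :=
  ((S12709.result g).out 0 2).2 (le_antisymm
    (sup_le (sup_le (le_sup_left.trans (relW_le B)) (map_maximalIdeal_le g))
      (Ideal.pow_le_self two_ne_zero))
    fun b hb => by
      obtain ⟨c, hc, hw⟩ := h b hb
      rw [← sub_add_cancel b (g c)]
      refine add_mem ?_ (Ideal.mem_sup_left (Ideal.mem_sup_right (Ideal.mem_map_of_mem _ hc)))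
      exact (sup_le (le_sup_left.trans le_sup_left) le_sup_right : relW B ≤ _) hw)

/-- A surjection onto a quotient by less than `relW` detects surjectivity. -/
theorem surjective_of_comp_surjective {C B B' : Art Λ k} (g : C ⟶ B) (q : B ⟶ B')
    (hq : RingHom.ker q.toAlgHom ≤ relW B) (h : Function.Surjective (g ≫ q)) : Function.Surjective g :=
  surjective_of_maximalIdeal_le g fun b hb => by
    obtain ⟨c, hc⟩ := h (q b)
    refine ⟨c, ?_, hq ?_⟩
    · rw [Art.mem_maximalIdeal_iff, ← Art.res_app (g ≫ q) c, hc, Art.res_app]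
      exact (Art.mem_maximalIdeal_iff B b).1 hb
    · rw [RingHom.mem_ker, map_sub]
      exact sub_eq_zero.2 hc.symm

omit [IsNoetherianRing Λ] in
/-- A square-zero object killed by the kernel of `Λ → k` is split, `k` being separable. -/
theorem exists_section_of_sq_zero (hk : Subsingleton (Derivation Λ k k)) (E : Art Λ k)
    (hW : relW E = ⊥) : Nonempty (Art.base Λ k ⟶ E) := by
  let 𝔮 : Ideal Λ := RingHom.ker (algebraMap Λ k)
  have h𝔮 : 𝔮.IsMaximal := by
    have : (⊥ : Ideal k).IsMaximal := Ideal.bot_isMaximal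
    change (RingHom.ker (algebraMap Λ k)).IsMaximal
    rw [RingHom.ker_eq_comap_bot]
    exact Ideal.isMaximal_comap_of_isIntegral_of_isMaximal ⊥
  let := Ideal.Quotient.field 𝔮
  let : Algebra (Λ ⧸ 𝔮) k := (RingHom.kerLift (algebraMap Λ k)).toAlgebra
  have : IsScalarTower Λ (Λ ⧸ 𝔮) k := IsScalarTower.of_algebraMap_eq fun _ => rfl
  have : Module.Finite (Λ ⧸ 𝔮) k := Module.Finite.of_restrictScalars_finite Λ _ _
  have : Algebra.FormallyUnramified Λ k := by
    have : Subsingleton (Module.Dual k (Ω[k⁄Λ])) :=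
      (KaehlerDifferential.linearMapEquivDerivation Λ k (M := k)).toEquiv.subsingleton
    exact ⟨(Module.subsingleton_dual_iff k).mp this⟩
  have : Algebra.FormallyUnramified (Λ ⧸ 𝔮) k :=
    Algebra.FormallyUnramified.of_restrictScalars Λ (Λ ⧸ 𝔮) k
  have : Algebra.IsSeparable (Λ ⧸ 𝔮) k := Algebra.FormallyUnramified.isSeparable (Λ ⧸ 𝔮) k
  have : Algebra.FormallyEtale (Λ ⧸ 𝔮) k := Algebra.FormallyEtale.of_isSeparable _ _
  have hz : ∀ l ∈ 𝔮, algebraMap Λ E l = 0 := fun l hl =>
    (Submodule.mem_bot E).1 (hW ▸ Ideal.mem_sup_left (Ideal.mem_map_of_mem _ hl))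
  let : Algebra (Λ ⧸ 𝔮) E := (Ideal.Quotient.lift 𝔮 (algebraMap Λ E) hz).toAlgebra
  have : IsScalarTower Λ (Λ ⧸ 𝔮) E := IsScalarTower.of_algebraMap_eq fun _ => rfl
  let r : E →ₐ[Λ ⧸ 𝔮] k :=
    { __ := E.res.toRingHom
      commutes' := fun l => by
        obtain ⟨l, rfl⟩ := Ideal.Quotient.mk_surjective l
        exact E.res.commutes l }
  have hnil : IsNilpotent (RingHom.ker (r : E →+* k)) := ⟨2, by
    refine le_bot_iff.1 (le_of_le_of_eq ?_ hW)
    refine le_trans (Ideal.pow_right_mono (fun e he => ?_) 2) le_sup_right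
    exact (Art.mem_maximalIdeal_iff E e).2 he⟩
  let σ := Algebra.FormallySmooth.liftOfSurjective (AlgHom.id (Λ ⧸ 𝔮) k) r E.res_surjective hnil
  refine ⟨Art.homMk (σ.restrictScalars Λ) (AlgHom.ext fun c => ?_)⟩
  exact Algebra.FormallySmooth.liftOfSurjective_apply (AlgHom.id (Λ ⧸ 𝔮) k) r E.res_surjective hnil c

/-- An essential surjection is injective on relative cotangent spaces, `k` being separable. -/
theorem ker_le_relW_of_essential (hk : Subsingleton (Derivation Λ k k)) {A B : Art Λ k} (f : B ⟶ A)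
    (hf : Function.Surjective f)
    (hess : ∀ (C : Art Λ k) (g : C ⟶ B), Function.Surjective (g ≫ f) → Function.Surjective g) :
    RingHom.ker f.toAlgHom ≤ relW B := by
  intro x hx
  by_contra hxW
  obtain ⟨L, ⟨hWL, hxL⟩, hmax⟩ := set_has_maximal_iff_noetherian.mpr inferInstance
    {L : Ideal B | relW B ≤ L ∧ x ∉ L} ⟨relW B, le_rfl, hxW⟩
  have hxm : x ∈ IsLocalRing.maximalIdeal B := ker_le_maximalIdeal f hx
  have hgen : ∀ y ∈ IsLocalRing.maximalIdeal B, ∃ c, y - c * x ∈ L := by
    intro y hy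
    by_cases hyL : y ∈ L
    · exact ⟨0, by simpa using hyL⟩
    · have hx' : x ∈ L ⊔ Ideal.span {y} := by
        by_contra h
        refine hmax (L ⊔ Ideal.span {y}) ⟨hWL.trans le_sup_left, h⟩ (lt_of_le_not_ge le_sup_left ?_)
        exact fun h' => hyL (h' (Ideal.mem_sup_right (Ideal.mem_span_singleton_self y)))
      obtain ⟨l, hl, z, hz, hlz⟩ := Submodule.mem_sup.1 hx'
      obtain ⟨c, rfl⟩ := Ideal.mem_span_singleton'.1 hz
      have hc : IsUnit c := by
        by_contra hc
        refine hxL (hlz ▸ add_mem hl (hWL (Ideal.mem_sup_right ?_)))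
        rw [pow_two]
        exact Ideal.mul_mem_mul ((IsLocalRing.mem_maximalIdeal c).2 hc) hy
      obtain ⟨c', hc'⟩ := hc.exists_left_inv
      refine ⟨c', ?_⟩
      rw [← hlz, mul_add, ← mul_assoc, hc', one_mul, sub_add_cancel_right]
      exact neg_mem (Ideal.mul_mem_left L _ hl)
  have hLm : L ≤ IsLocalRing.maximalIdeal B :=
    IsLocalRing.le_maximalIdeal fun h => hxL (h ▸ Submodule.mem_top)
  obtain ⟨E, q, hq, hker⟩ := exists_quot B L hLm
  have hqW : relW E = ⊥ := by
    refine le_bot_iff.1 fun e he => ?_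
    have hle : relW E ≤ Ideal.map q.toAlgHom (relW B) := by
      rw [relW, relW, Ideal.map_sup]
      refine sup_le_sup (Ideal.map_le_iff_le_comap.2 fun l hl => ?_) ?_
      · rw [Ideal.mem_comap, ← q.toAlgHom.commutes l]
        exact Ideal.mem_map_of_mem _ (Ideal.mem_map_of_mem _ hl)
      · rw [Ideal.map_pow]
        refine Ideal.pow_right_mono (fun e he => ?_) 2
        obtain ⟨b, rfl⟩ := hq e
        exact Ideal.mem_map_of_mem _ ((Art.mem_maximalIdeal_iff B b).2
          ((Art.res_app q b).symm.trans ((Art.mem_maximalIdeal_iff E _).1 he)))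
    obtain ⟨w, hw, rfl⟩ := (Ideal.mem_map_iff_of_surjective q.toAlgHom hq).1 (hle he)
    exact RingHom.mem_ker.1 (hker.ge (hWL hw))
  obtain ⟨σ⟩ := exists_section_of_sq_zero hk E hqW
  obtain ⟨C, p₁, p₂, hC⟩ := exists_fibreProd_of_derivation hk q σ
  have hs : Function.Surjective p₁ := hess C p₁ fun a => by
    obtain ⟨b, rfl⟩ := hf a
    obtain ⟨e, he⟩ := hq (σ (B.res b) : E)
    have hbe : b - e ∈ IsLocalRing.maximalIdeal B := by
      rw [Art.mem_maximalIdeal_iff, map_sub, ← Art.res_app q e, he, Art.res_app]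
      exact sub_self _
    obtain ⟨c, hc⟩ := hgen _ hbe
    obtain ⟨z, hz, -⟩ := hC.surj (b - c * x) (B.res b) (by
      refine (sub_eq_zero.1 ?_).trans he
      rw [← map_sub, show b - c * x - e = b - e - c * x by ring]
      exact RingHom.mem_ker.1 (hker.ge hc))
    refine ⟨z, ?_⟩
    change f (p₁ z) = f b
    rw [hz, map_sub, map_mul, RingHom.mem_ker.1 hx, mul_zero, sub_zero]
  obtain ⟨z, hz⟩ := hs x
  refine hxL (hker.le ?_)
  have h0 : p₂ z = (0 : k) := by
    refine (Art.res_app p₂ z).trans ?_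
    rw [← Art.res_app p₁ z, hz]
    exact (Art.mem_maximalIdeal_iff B x).1 hxm
  rw [RingHom.mem_ker, ← hz]
  exact (hC.w_apply z).trans ((congrArg σ.toAlgHom h0).trans (map_zero σ.toAlgHom))

end Groth.Agent.ArtHull
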