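import Groth.Prelude.Def_ArtFun5
import Mathlib.RingTheory.AdicCompletion.RingHom
import Mathlib.RingTheory.Nakayama

/-!
Families over coefficient rings: factorisation through truncations, formal elements, morphisms of
pro-representing pairs.
-/

set_option autoImplicit false

universe u v

open CategoryTheory ArtFun

namespace Groth.Agent.ArtHull

variable {Λ : Type u} {k : Type u} [CommRing Λ] [Field k] [Algebra Λ k]

theorem trunc_hom_ext {R : CRing Λ k} {A : Art Λ k} {n : ℕ} (g g' : R.trunc n ⟶ A)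
    (h : HomSet.map g (R.truncHom n) = HomSet.map g' (R.truncHom n)) : g = g' := by
  refine Art.hom_ext (Ideal.Quotient.algHom_ext Λ ?_)
  exact congrArg Subtype.val h

theorem exists_factor {R : CRing Λ k} {A : Art Λ k} (φ : HomSet R.carrier R.res A) :
    ∃ (n : ℕ) (g : R.trunc n ⟶ A), HomSet.map g (R.truncHom n) = φ := by
  obtain ⟨N, hN⟩ := (isArtinianRing_iff_isNilpotent_maximalIdeal A).mp A.isArtinianRing
  have hle : IsLocalRing.maximalIdeal R.carrier ≤ (IsLocalRing.maximalIdeal A).comap φ.1 := fun a ha => by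
    rw [Ideal.mem_comap, Art.mem_maximalIdeal_iff]
    exact (AlgHom.congr_fun φ.2 a).trans ((CRing.mem_maximalIdeal_iff R a).1 ha)
  have hker : ∀ a ∈ R.mpow N, φ.1 a = 0 := fun a ha => by
    have h1 : φ.1 a ∈ IsLocalRing.maximalIdeal A ^ N :=
      Ideal.pow_right_mono (Ideal.map_le_iff_le_comap.mpr hle) N
        (Ideal.map_pow (φ.1 : R.carrier →+* A) (IsLocalRing.maximalIdeal R.carrier) N ▸
          Ideal.mem_map_of_mem (φ.1 : R.carrier →+* A) (Ideal.pow_le_pow_right (Nat.le_succ N) ha))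
    rwa [hN, Ideal.zero_eq_bot, Ideal.mem_bot] at h1
  refine ⟨N, ⟨Ideal.Quotient.liftₐ (R.mpow N) φ.1 hker, ?_⟩, ?_⟩
  · refine Ideal.Quotient.algHom_ext Λ (AlgHom.ext fun a => ?_)
    exact AlgHom.congr_fun φ.2 a
  · exact Subtype.ext (AlgHom.ext fun _ => rfl)

theorem toFormalElt_injective {R : CRing Λ k} {F : Art Λ k ⥤ Type v}
    (ξ η : Family R.carrier R.res F) (h : ∀ n, ξ.app _ (R.truncHom n) = η.app _ (R.truncHom n)) :
    ξ = η := by
  obtain ⟨a, ha⟩ := ξ
  obtain ⟨b, hb⟩ := η
  congr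
  funext A φ
  obtain ⟨n, g, rfl⟩ := exists_factor φ
  rw [ha g (R.truncHom n), hb g (R.truncHom n)]
  exact congrArg (F.map g) (h n)

theorem exists_transition {R : CRing Λ k} {F : Art Λ k ⥤ Type v} (u : FormalElt F R) {n n' : ℕ}
    (hle : n ≤ n') : ∃ t : R.trunc n' ⟶ R.trunc n,
      HomSet.map t (R.truncHom n') = R.truncHom n ∧ F.map t (u.elt n') = u.elt n := by
  induction n', hle using Nat.le_induction with
  | base => exact ⟨𝟙 _, Subtype.ext (AlgHom.id_comp _), by rw [F.map_id]; rfl⟩
  | succ m hle ih =>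
    obtain ⟨t, ht, htu⟩ := ih
    refine ⟨R.truncMap m ≫ t, ?_, ?_⟩
    · refine Subtype.ext ?_
      rw [← ht, ← R.truncMap_truncHom m]
      exact AlgHom.comp_assoc _ _ _
    · rw [Functor.map_comp_apply]
      exact (congrArg (F.map t) (u.compat m)).trans htu

theorem map_elt_eq {R : CRing Λ k} {F : Art Λ k ⥤ Type v} (u : FormalElt F R) {A : Art Λ k}
    {n n' : ℕ} (g : R.trunc n ⟶ A) (g' : R.trunc n' ⟶ A)
    (h : HomSet.map g (R.truncHom n) = HomSet.map g' (R.truncHom n')) :
    F.map g (u.elt n) = F.map g' (u.elt n') := by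
  wlog hle : n ≤ n' generalizing n n'
  · exact (this g' g h.symm (Nat.le_of_not_le hle)).symm
  obtain ⟨t, ht, htu⟩ := exists_transition u hle
  have hg' : g' = t ≫ g := trunc_hom_ext _ _ (by
    rw [← h, ← ht]
    exact Subtype.ext (AlgHom.comp_assoc _ _ _).symm)
  rw [hg', Functor.map_comp_apply, htu]

theorem toFormalElt_bijective (R : CRing Λ k) (F : Art Λ k ⥤ Type v) :
    Function.Bijective (fun ξ : Family R.carrier R.res F => ξ.toFormalElt) := by
  refine ⟨fun ξ η h => toFormalElt_injective ξ η fun n => congrArg (fun u => u.elt n) h, fun u => ?_⟩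
  let app : ∀ A : Art Λ k, HomSet R.carrier R.res A → F.obj A := fun A φ =>
    F.map (exists_factor φ).choose_spec.choose (u.elt (exists_factor φ).choose)
  have happ : ∀ {A : Art Λ k} {n : ℕ} (g : R.trunc n ⟶ A),
      app A (HomSet.map g (R.truncHom n)) = F.map g (u.elt n) := fun g =>
    map_elt_eq u _ g (exists_factor _).choose_spec.choose_spec
  refine ⟨⟨app, fun {A B} f φ => ?_⟩, FormalElt.ext' fun n => ?_⟩
  · obtain ⟨n, g, rfl⟩ := exists_factor φ
    rw [happ g, show HomSet.map f (HomSet.map g (R.truncHom n)) = HomSet.map (g ≫ f) (R.truncHom n)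
      from rfl, happ, Functor.map_comp_apply]
  · change app _ (R.truncHom n) = u.elt n
    conv_lhs => rw [show R.truncHom n = HomSet.map (𝟙 _) (R.truncHom n) from
      Subtype.ext (AlgHom.ext fun _ => rfl)]
    rw [happ, F.map_id]; rfl

/-- Morphisms of coefficient rings are determined by their truncations. -/
theorem hom_ext_trunc {R S : CRing Λ k} (e e' : R.carrier →ₐ[Λ] S.carrier)
    (h : ∀ n, (S.truncHom n).1.comp e = (S.truncHom n).1.comp e') : e = e' := by
  refine AlgHom.ext fun a => sub_eq_zero.mp (S.isAdicComplete.toIsHausdorff.haus _ fun n => ?_)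
  rw [SModEq.zero, smul_eq_mul, Ideal.mul_top]
  exact Ideal.pow_le_pow_right (Nat.le_succ n) (Ideal.Quotient.eq.mp (AlgHom.congr_fun (h n) a))

/-- A pro-representing pair receives a unique map towards any family. -/
theorem exists_unique_along {F : Art Λ k ⥤ Type v} (P : ProRep F) (S : CRing Λ k)
    (ξ : Family S.carrier S.res F) :
    ∃! e : P.ring.carrier →ₐ[Λ] S.carrier,
      ∃ he : S.res.comp e = P.ring.res, P.family.along e he = ξ := by
  choose φ hφ using fun n => (P.universal (S.trunc n)).2 (ξ.app _ (S.truncHom n))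
  have hcompat : ∀ n, HomSet.map (S.truncMap n) (φ (n + 1)) = φ n := fun n => by
    refine (P.universal _).1 ?_
    rw [P.family.natural, hφ, hφ, ← ξ.natural, S.truncMap_truncHom]
  let I := IsLocalRing.maximalIdeal S.carrier
  have := S.isAdicComplete
  let f : ∀ n : ℕ, P.ring.carrier →+* S.carrier ⧸ I ^ n := fun n =>
    (Ideal.Quotient.factor (Ideal.pow_le_pow_right (Nat.le_succ n))).comp (φ n).1.toRingHom
  have hf : ∀ {m n : ℕ} (hle : m ≤ n), (Ideal.Quotient.factorPow I hle).comp (f n) = f m := by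
    intro m n hle
    induction n, hle using Nat.le_induction with
    | base =>
      refine RingHom.ext fun a => ?_
      obtain ⟨b, hb⟩ := Ideal.Quotient.mk_surjective (f m a)
      rw [RingHom.comp_apply, ← hb]
      rfl
    | succ n hle ih =>
      rw [← ih]
      refine RingHom.ext fun a => ?_
      obtain ⟨b, hb⟩ := Ideal.Quotient.mk_surjective ((φ (n + 1)).1 a)
      have h1 : (φ n).1 a = Ideal.Quotient.mk _ b := by
        rw [← hcompat n]
        change (S.truncMap n) ((φ (n + 1)).1 a) = _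
        rw [← hb]
        rfl
      change Ideal.Quotient.factorPow I (hle.trans (Nat.le_succ n))
          (Ideal.Quotient.factor (Ideal.pow_le_pow_right (Nat.le_succ (n + 1))) ((φ (n + 1)).1 a)) =
        Ideal.Quotient.factorPow I hle
          (Ideal.Quotient.factor (Ideal.pow_le_pow_right (Nat.le_succ n)) ((φ n).1 a))
      rw [h1, ← hb]
      rfl
  let e₀ : P.ring.carrier →+* S.carrier := IsAdicComplete.liftRingHom I f hf
  have he₀ : ∀ (n : ℕ) a, Ideal.Quotient.mk (S.mpow n) (e₀ a) = (φ n).1 a := fun n a => by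
    obtain ⟨b, hb⟩ := Ideal.Quotient.mk_surjective ((φ (n + 1)).1 a)
    have h1 : Ideal.Quotient.mk (I ^ (n + 1)) (e₀ a) = f (n + 1) a :=
      IsAdicComplete.mk_liftRingHom I f hf (n + 1) a
    refine h1.trans ?_
    rw [← hcompat n]
    change _ = (S.truncMap n) ((φ (n + 1)).1 a)
    change Ideal.Quotient.factor (Ideal.pow_le_pow_right (Nat.le_succ (n + 1))) ((φ (n + 1)).1 a) =
      (S.truncMap n) ((φ (n + 1)).1 a)
    rw [← hb]
    rfl
  let e : P.ring.carrier →ₐ[Λ] S.carrier :=
    { e₀ with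
      commutes' := fun r => sub_eq_zero.mp (S.isAdicComplete.toIsHausdorff.haus _ fun n => by
        rw [SModEq.zero, smul_eq_mul, Ideal.mul_top]
        refine Ideal.pow_le_pow_right (Nat.le_succ n) (Ideal.Quotient.eq.mp ?_)
        exact (he₀ n _).trans ((φ n).1.commutes r)) }
  have hcomp : ∀ n, (S.truncHom n).1.comp e = (φ n).1 := fun n => AlgHom.ext (he₀ n)
  have hres : S.res.comp e = P.ring.res := by
    refine AlgHom.ext fun a => ?_
    have := AlgHom.congr_fun (φ 0).2 a
    rw [← this, ← hcomp 0]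
    rfl
  refine ⟨e, ⟨hres, toFormalElt_injective _ _ fun n => ?_⟩, ?_⟩
  · rw [← hφ n]
    exact congrArg (P.family.app _) (Subtype.ext (hcomp n))
  · rintro e' ⟨he', halong⟩
    refine hom_ext_trunc e' e fun n => ?_
    rw [hcomp n]
    have h2 := congrArg (fun η : Family S.carrier S.res F => η.app _ (S.truncHom n)) halong
    exact congrArg Subtype.val ((P.universal _).1 (h2.trans (hφ n).symm))

/-- Two pro-representing pairs are uniquely isomorphic. -/
theorem existsUnique_algEquiv {F : Art Λ k ⥤ Type v} (P Q : ProRep F) :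
    ∃! e : P.ring.carrier ≃ₐ[Λ] Q.ring.carrier,
      ∃ he : Q.ring.res.comp e.toAlgHom = P.ring.res, P.family.along e.toAlgHom he = Q.family := by
  obtain ⟨e, ⟨he, hea⟩, heu⟩ := exists_unique_along P Q.ring Q.family
  obtain ⟨f, ⟨hf, hfa⟩, -⟩ := exists_unique_along Q P.ring P.family
  have h1 : f.comp e = AlgHom.id Λ _ := by
    refine (exists_unique_along P P.ring P.family).unique
      ⟨by rw [← AlgHom.comp_assoc, hf, he], ?_⟩ ⟨AlgHom.comp_id _, ?_⟩
    · conv_rhs => rw [← hfa, ← hea]
      rfl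
    · rfl
  have h2 : e.comp f = AlgHom.id Λ _ := by
    refine (exists_unique_along Q Q.ring Q.family).unique
      ⟨by rw [← AlgHom.comp_assoc, he, hf], ?_⟩ ⟨AlgHom.comp_id _, ?_⟩
    · conv_rhs => rw [← hea, ← hfa]
      rfl
    · rfl
  exact ⟨AlgEquiv.ofAlgHom e f h2 h1, ⟨he, hea⟩, fun e' ⟨he', hea'⟩ =>
    AlgEquiv.ext fun a => AlgHom.congr_fun (heu e'.toAlgHom ⟨he', hea'⟩) a⟩

end Groth.Agent.ArtHull
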