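import Groth.Agent.ArtHull.Cond
import Mathlib.RingTheory.AdicCompletion.Noetherian

/-!
Existence of hulls and of pro-representing pairs from Schlessinger's conditions.
-/

set_option autoImplicit false

universe u v

open CategoryTheory ArtFun

namespace Groth.Agent.ArtHull

variable {Λ : Type u} {k : Type u} [CommRing Λ] [Field k] [Algebra Λ k]

section Ring

variable {S : Type u} [CommRing S] [IsLocalRing S]

theorem exists_adic_limit [IsAdicComplete (IsLocalRing.maximalIdeal S) S] (f : ℕ → S)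
    (hf : ∀ n, f (n + 1) - f n ∈ IsLocalRing.maximalIdeal S ^ n) :
    ∃ L : S, ∀ n, f n - L ∈ IsLocalRing.maximalIdeal S ^ n := by
  have h : ∀ m n, m ≤ n → f n - f m ∈ IsLocalRing.maximalIdeal S ^ m := by
    intro m n hmn
    induction n, hmn using Nat.le_induction with
    | base => simp
    | succ n hmn ih =>
      rw [← sub_add_sub_cancel (f (n + 1)) (f n)]
      exact add_mem (Ideal.pow_le_pow_right hmn (hf n)) ih
  obtain ⟨L, hL⟩ := IsPrecomplete.prec (I := IsLocalRing.maximalIdeal S) inferInstance (f := f)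
    fun {m n} hmn => by
      rw [SModEq.sub_mem, smul_eq_mul, Ideal.mul_top, ← neg_sub]
      exact neg_mem (h m n hmn)
  refine ⟨L, fun n => ?_⟩
  have := hL n
  rwa [SModEq.sub_mem, smul_eq_mul, Ideal.mul_top] at this

/-- A quotient of a complete Noetherian local ring is complete. -/
theorem isAdicComplete_quotient [IsNoetherianRing S] [IsAdicComplete (IsLocalRing.maximalIdeal S) S]
    (I : Ideal S) [IsLocalRing (S ⧸ I)] :
    IsAdicComplete (IsLocalRing.maximalIdeal (S ⧸ I)) (S ⧸ I) := by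
  have hmax : IsLocalRing.maximalIdeal (S ⧸ I) =
      (IsLocalRing.maximalIdeal S).map (Ideal.Quotient.mk I) := by
    symm
    exact IsLocalRing.map_maximalIdeal_of_surjective _ Ideal.Quotient.mk_surjective
  have hH : IsHausdorff (IsLocalRing.maximalIdeal (S ⧸ I)) (S ⧸ I) :=
    IsHausdorff.of_isLocalRing _ _ (IsLocalRing.maximalIdeal.isMaximal _).ne_top
  refine { toIsHausdorff := hH, toIsPrecomplete := ⟨fun f hf => ?_⟩ }
  have hd : ∀ n, ∃ d ∈ IsLocalRing.maximalIdeal S ^ n,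
      Ideal.Quotient.mk I d = f (n + 1) - f n := fun n => by
    have := hf (Nat.le_succ n)
    rw [SModEq.sub_mem, smul_eq_mul, Ideal.mul_top, ← neg_sub, neg_mem_iff, hmax, ← Ideal.map_pow,
      Ideal.mem_map_iff_of_surjective _ Ideal.Quotient.mk_surjective] at this
    exact this
  choose d hd hd' using hd
  obtain ⟨a, ha⟩ := Ideal.Quotient.mk_surjective (f 0)
  let g : ℕ → S := fun n => a + ∑ i ∈ Finset.range n, d i
  have hg : ∀ n, Ideal.Quotient.mk I (g n) = f n := fun n => by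
    induction n with
    | zero => simpa [g] using ha
    | succ n ih =>
      have : g (n + 1) = g n + d n := by simp only [g, Finset.sum_range_succ, add_assoc]
      rw [this, map_add, ih, hd', add_sub_cancel]
  obtain ⟨L, hL⟩ := exists_adic_limit g fun n => by
    simpa [g, Finset.sum_range_succ] using hd n
  refine ⟨Ideal.Quotient.mk I L, fun n => ?_⟩
  rw [SModEq.sub_mem, smul_eq_mul, Ideal.mul_top, hmax, ← Ideal.map_pow, ← hg, ← map_sub]
  exact Ideal.mem_map_of_mem _ (hL n)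

/-- Chevalley's lemma. -/
theorem chevalley [IsNoetherianRing S] [IsAdicComplete (IsLocalRing.maximalIdeal S) S] (K : ℕ → Ideal S)
    (hK : Antitone K) (hcl : ∀ q, ∃ N, IsLocalRing.maximalIdeal S ^ N ≤ K q) (N : ℕ) :
    ∃ q, K q ≤ (⨅ q, K q) ⊔ IsLocalRing.maximalIdeal S ^ N := by
  let m := IsLocalRing.maximalIdeal S
  have hart : ∀ N, IsArtinianRing (S ⧸ m ^ (N + 1)) := fun N => by
    have hne : m ^ (N + 1) ≠ ⊤ := fun h => (IsLocalRing.maximalIdeal.isMaximal S).ne_top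
      (top_le_iff.1 (h ▸ Ideal.pow_le_self N.succ_ne_zero))
    have : Nontrivial (S ⧸ m ^ (N + 1)) := Ideal.Quotient.nontrivial_iff.2 hne
    have : IsLocalRing (S ⧸ m ^ (N + 1)) := .of_surjective' _ Ideal.Quotient.mk_surjective
    rw [isArtinianRing_iff_isNilpotent_maximalIdeal]
    refine ⟨N + 1, ?_⟩
    rw [← IsLocalRing.map_maximalIdeal_of_surjective (Ideal.Quotient.mk (m ^ (N + 1)))
      Ideal.Quotient.mk_surjective, ← Ideal.map_pow, Ideal.map_quotient_self, Ideal.zero_eq_bot]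
  have hstab : ∀ N, ∃ q₀, ∀ q ≥ q₀, K q₀ ⊔ m ^ N = K q ⊔ m ^ N := by
    intro N
    cases N with
    | zero => exact ⟨0, fun q _ => by simp⟩
    | succ N =>
      have := hart N
      obtain ⟨q₀, h⟩ := IsArtinian.monotone_stabilizes (R := S ⧸ m ^ (N + 1))
        ⟨fun q => OrderDual.toDual ((K q).map (Ideal.Quotient.mk (m ^ (N + 1)))),
          fun a b hab => Ideal.map_mono (hK hab)⟩
      refine ⟨q₀, fun q hq => ?_⟩
      have h' : (K q₀).map (Ideal.Quotient.mk (m ^ (N + 1))) = (K q).map _ :=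
        OrderDual.toDual.injective (h q hq)
      have := congrArg (Ideal.comap (Ideal.Quotient.mk (m ^ (N + 1)))) h'
      rwa [Ideal.comap_map_of_surjective _ Ideal.Quotient.mk_surjective,
        Ideal.comap_map_of_surjective _ Ideal.Quotient.mk_surjective, ← RingHom.ker_eq_comap_bot,
        Ideal.mk_ker] at this
  choose q₀ hq₀ using hstab
  let L : ℕ → Ideal S := fun N => K (q₀ N) ⊔ m ^ N
  have hLK : ∀ N q, L N ≤ K q ⊔ m ^ N := fun N q => by
    rcases le_total (q₀ N) q with h | h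
    · exact (hq₀ N q h).le
    · exact sup_le_sup_right (hK h) _
  have hstep : ∀ N, L N ≤ L (N + 1) ⊔ m ^ N := fun N =>
    (hLK N (q₀ (N + 1))).trans (sup_le_sup_right le_sup_left _)
  refine ⟨q₀ N, le_sup_left.trans (?_ : L N ≤ _)⟩
  intro x hx
  have hnext : ∀ j, ∀ a ∈ L (N + j), ∃ b ∈ L (N + j + 1), b - a ∈ m ^ (N + j) := fun j a ha => by
    obtain ⟨b, hb, c, hc, rfl⟩ := Submodule.mem_sup.1 (hstep (N + j) ha)
    exact ⟨b, hb, by rw [sub_add_cancel_left]; exact neg_mem hc⟩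
  choose nx hnx hnx' using hnext
  let s : ∀ j, {a : S // a ∈ L (N + j)} := fun j =>
    Nat.rec (motive := fun j => {a : S // a ∈ L (N + j)}) ⟨x, hx⟩
      (fun j p => ⟨nx j p.1 p.2, hnx j p.1 p.2⟩) j
  obtain ⟨y, hy⟩ := exists_adic_limit (fun j => (s j).1) fun j =>
    Ideal.pow_le_pow_right (Nat.le_add_left j N) (hnx' j (s j).1 (s j).2)
  have hxs : ∀ j, (s j).1 - x ∈ m ^ N := fun j => by
    induction j with
    | zero => exact (sub_self x).symm ▸ zero_mem _
    | succ j ih =>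
      rw [← sub_add_sub_cancel (s (j + 1)).1 (s j).1]
      exact add_mem (Ideal.pow_le_pow_right (Nat.le_add_right N j) (hnx' j (s j).1 (s j).2)) ih
  have hyI : y ∈ ⨅ q, K q := Submodule.mem_iInf _ |>.2 fun q => by
    obtain ⟨M, hM⟩ := hcl q
    have h1 : (s M).1 ∈ K q ⊔ m ^ (N + M) := hLK _ q (s M).2
    have h2 : (s M).1 ∈ K q :=
      (sup_le le_rfl ((Ideal.pow_le_pow_right (Nat.le_add_left M N)).trans hM) :
        K q ⊔ m ^ (N + M) ≤ K q) h1
    rw [← sub_sub_cancel (s M).1 y]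
    exact sub_mem h2 (hM (hy M))
  have hxy : x - y ∈ m ^ N := by
    rw [← sub_add_sub_cancel x (s N).1 y, ← neg_sub (s N).1 x]
    exact add_mem (neg_mem (hxs N)) (hy N)
  rw [← add_sub_cancel y x]
  exact add_mem (Submodule.mem_sup_left hyI) (Submodule.mem_sup_right hxy)

end Ring

theorem exists_pow_le_ker {C : CRing Λ k} {A : Art Λ k} (φ : HomSet C.carrier C.res A) :
    ∃ N, IsLocalRing.maximalIdeal C.carrier ^ N ≤ RingHom.ker φ.1 := by
  obtain ⟨N, hN⟩ := (isArtinianRing_iff_isNilpotent_maximalIdeal A).mp A.isArtinianRing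
  refine ⟨N, fun a ha => ?_⟩
  have hle : (IsLocalRing.maximalIdeal C.carrier).map (φ.1 : C.carrier →+* A) ≤
      IsLocalRing.maximalIdeal A := Ideal.map_le_iff_le_comap.mpr fun b hb => by
    rw [Ideal.mem_comap, Art.mem_maximalIdeal_iff]
    exact (AlgHom.congr_fun φ.2 b).trans ((CRing.mem_maximalIdeal_iff C b).1 hb)
  have h1 := Ideal.pow_right_mono hle N
    (Ideal.map_pow (φ.1 : C.carrier →+* A) _ N ▸ Ideal.mem_map_of_mem (φ.1 : C.carrier →+* A) ha)
  rwa [hN, Ideal.zero_eq_bot, Ideal.mem_bot] at h1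

theorem homSet_map_comp {R : Type u} [CommRing R] [Algebra Λ R] {resR : R →ₐ[Λ] k} {A B C : Art Λ k}
    (f : A ⟶ B) (g : B ⟶ C) (φ : HomSet R resR A) :
    HomSet.map (f ≫ g) φ = HomSet.map g (HomSet.map f φ) :=
  Subtype.ext (AlgHom.ext fun _ => rfl)

theorem hom_cancel {R : Type u} [CommRing R] [Algebra Λ R] {resR : R →ₐ[Λ] k} {A B : Art Λ k}
    {π : HomSet R resR A} (hπ : Function.Surjective π.1) (g g' : A ⟶ B)
    (h : HomSet.map g π = HomSet.map g' π) : g = g' := by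
  refine Art.hom_ext (AlgHom.ext fun a => ?_)
  obtain ⟨r, rfl⟩ := hπ a
  exact AlgHom.congr_fun (congrArg Subtype.val h) r

theorem exists_descHom {R : Type u} [CommRing R] [Algebra Λ R] {resR : R →ₐ[Λ] k} {A B : Art Λ k}
    (π : HomSet R resR A) (hπ : Function.Surjective π.1) (φ : HomSet R resR B)
    (h : RingHom.ker π.1 ≤ RingHom.ker φ.1) : ∃ g : A ⟶ B, HomSet.map g π = φ := by
  let g₀ := AlgHom.liftOfSurjective π.1 hπ φ.1 fun x hx => h hx
  have hg : g₀.comp π.1 = φ.1 := AlgHom.liftOfSurjective_comp ..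
  refine ⟨Art.homMk g₀ (AlgHom.ext fun a => ?_), Subtype.ext hg⟩
  obtain ⟨r, rfl⟩ := hπ a
  exact (congrArg B.res (AlgHom.congr_fun hg r)).trans
    ((AlgHom.congr_fun φ.2 r).trans (AlgHom.congr_fun π.2 r).symm)

section Stages

/-- A stage in the construction of a hull. -/
structure Stage (C : CRing Λ k) (F : Art Λ k ⥤ Type v) where
  Q : Art Λ k
  π : HomSet C.carrier C.res Q
  surj : Function.Surjective π.1
  ξ : F.obj Q

variable {C : CRing Λ k} {F : Art Λ k ⥤ Type v}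

/-- `s'` lies over `s`. -/
def Over (s' s : Stage C F) : Prop :=
  ∃ g : s'.Q ⟶ s.Q, HomSet.map g s'.π = s.π ∧ F.map g s'.ξ = s.ξ

theorem over_rfl (s : Stage C F) : Over s s :=
  ⟨𝟙 _, Subtype.ext (AlgHom.ext fun _ => rfl), by rw [F.map_id]; rfl⟩

theorem Over.trans {s'' s' s : Stage C F} (h' : Over s'' s') (h : Over s' s) : Over s'' s := by
  obtain ⟨g', hg'₁, hg'₂⟩ := h'
  obtain ⟨g, hg₁, hg₂⟩ := h
  exact ⟨g' ≫ g, by rw [homSet_map_comp, hg'₁, hg₁],
    by rw [Functor.map_comp_apply, hg'₂, hg₂]⟩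

theorem Over.ker_le {s' s : Stage C F} (h : Over s' s) :
    RingHom.ker s'.π.1 ≤ RingHom.ker s.π.1 := by
  obtain ⟨g, hg, -⟩ := h
  intro x hx
  rw [RingHom.mem_ker] at hx ⊢
  rw [← hg]
  exact (congrArg g.toAlgHom hx).trans (map_zero _)

/-- The next stage. -/
theorem exists_next [IsNoetherianRing Λ] (hk : Function.Surjective (algebraMap Λ k)) (hbar : Hbar F)
    (s : Stage C F) :
    ∃ s' : Stage C F, Over s' s ∧
      ∀ s'' : Stage C F, Over s'' s →
        IsLocalRing.maximalIdeal C.carrier * RingHom.ker s.π.1 ≤ RingHom.ker s''.π.1 →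
          RingHom.ker s'.π.1 ≤ RingHom.ker s''.π.1 := by
  let m := IsLocalRing.maximalIdeal C.carrier
  let K := RingHom.ker s.π.1
  let T : Set (Ideal C.carrier) := {J | m * K ≤ J ∧ ∃ t : Stage C F, Over t s ∧ RingHom.ker t.π.1 = J}
  have hinf : ∀ J ∈ T, ∀ J' ∈ T, J ⊓ J' ∈ T := by
    rintro J ⟨hJm, t, ht, rfl⟩ J' ⟨hJ'm, t', ht', rfl⟩
    have ht₀ := ht
    obtain ⟨g, hgπ, hgξ⟩ := ht
    have ht'₀ := ht'
    obtain ⟨g', hg'π, hg'ξ⟩ := ht'
    let J := RingHom.ker t.π.1
    let J' := RingHom.ker t'.π.1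
    let W : Set (Ideal C.carrier) := {L | J' ≤ L ∧ L ≤ K ∧ L ⊓ J ≤ J'}
    obtain ⟨L, ⟨hL₁, hL₂, hL₃⟩, hLmax⟩ :=
      (wellFounded_gt (α := Ideal C.carrier)).has_min W ⟨J', le_rfl, ht'₀.ker_le, inf_le_left⟩
    have hsum : ∀ x ∈ K, x ∈ L ⊔ J := by
      intro x hx
      by_contra hxn
      refine hLmax (L ⊔ Ideal.span {x}) ⟨hL₁.trans le_sup_left,
        sup_le hL₂ ((Ideal.span_singleton_le_iff_mem _).mpr hx), ?_⟩ (left_lt_sup.mpr fun h =>
          hxn (Submodule.mem_sup_left (h (Ideal.mem_span_singleton_self x))))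
      rintro y ⟨hy, hyJ⟩
      obtain ⟨l, hl, w, hw, rfl⟩ := Submodule.mem_sup.1 hy
      obtain ⟨a, rfl⟩ := Ideal.mem_span_singleton'.1 hw
      by_cases ha : a ∈ m
      · exact hL₃ ⟨add_mem hl (hL₁ (hJ'm (Ideal.mul_mem_mul ha hx))), hyJ⟩
      · obtain ⟨b, hb⟩ := (IsLocalRing.notMem_maximalIdeal.mp ha).exists_left_inv
        refine absurd ?_ hxn
        rw [show x = -(b * l) + b * (l + a * x) by
          rw [mul_add, ← mul_assoc, hb, one_mul]; ring]
        exact add_mem (Submodule.mem_sup_left (neg_mem (L.mul_mem_left _ hl)))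
          (Submodule.mem_sup_right (Ideal.mul_mem_left _ _ hyJ))
    have hLK' : RingHom.ker t'.π.1 ≤ L := hL₁
    obtain ⟨D, q, hq, hqL⟩ := exists_quot t'.Q (L.map (t'.π.1 : C.carrier →+* t'.Q)) (by
      rw [Ideal.map_le_iff_le_comap]
      intro c hc
      rw [Ideal.mem_comap, Art.mem_maximalIdeal_iff]
      refine (AlgHom.congr_fun t'.π.2 c).trans ?_
      rw [← AlgHom.congr_fun s.π.2 c]
      exact (congrArg s.Q.res (hL₂ hc)).trans (map_zero _))
    have hkerL : ∀ c, q (t'.π.1 c) = 0 ↔ c ∈ L := fun c => by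
      rw [← RingHom.mem_ker (f := q.toAlgHom), hqL,
        Ideal.mem_map_iff_of_surjective (t'.π.1 : C.carrier →+* t'.Q) t'.surj]
      refine ⟨fun ⟨c', hc', e⟩ => ?_, fun hc => ⟨c, hc, rfl⟩⟩
      rw [← sub_sub_cancel c' c]
      refine sub_mem hc' (hLK' ?_)
      rw [RingHom.mem_ker, map_sub, sub_eq_zero]
      exact e
    obtain ⟨h, hh⟩ := exists_desc q hq g' (fun a ha => by
      obtain ⟨c, rfl⟩ := t'.surj a
      rw [RingHom.mem_ker] at ha ⊢
      have := hL₂ ((hkerL c).1 ha)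
      rw [RingHom.mem_ker, ← hg'π] at this
      exact this)
    have hhs : Function.Surjective h := fun a => by
      obtain ⟨c, rfl⟩ := s.surj a
      refine ⟨q (t'.π.1 c), ?_⟩
      change (q ≫ h) (t'.π.1 c) = _
      rw [hh, ← hg'π]
      rfl
    obtain ⟨E, p, p', hE⟩ := exists_fibreProd hk g h
    have hcompat : HomSet.map g t.π = HomSet.map h (HomSet.map q t'.π) := by
      rw [hgπ, ← homSet_map_comp, hh, hg'π]
    obtain ⟨w, hw₁, hw₂⟩ := fibreProd_lift hE t.π (HomSet.map q t'.π) hcompat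
    have hwp : ∀ c, p (w.1 c) = t.π.1 c := fun c => AlgHom.congr_fun (congrArg Subtype.val hw₁) c
    have hwp' : ∀ c, p' (w.1 c) = q (t'.π.1 c) := fun c =>
      AlgHom.congr_fun (congrArg Subtype.val hw₂) c
    have hwsurj : Function.Surjective w.1 := fun e => by
      obtain ⟨c₁, hc₁⟩ := t.surj (p e)
      obtain ⟨d, hd⟩ := hq (p' e)
      obtain ⟨c₂, rfl⟩ := t'.surj d
      have hK : c₁ - c₂ ∈ K := by
        rw [RingHom.mem_ker, map_sub, sub_eq_zero]
        calc s.π.1 c₁ = g (t.π.1 c₁) := by rw [← hgπ]; rfl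
          _ = g (p e) := by rw [hc₁]
          _ = h (p' e) := hE.w_apply e
          _ = h (q (t'.π.1 c₂)) := by rw [hd]
          _ = s.π.1 c₂ := by
            change (q ≫ h) _ = _
            rw [hh, ← hg'π]; rfl
      obtain ⟨l, hl, j, hj, hlj⟩ := Submodule.mem_sup.1 (hsum _ hK)
      refine ⟨c₁ - j, hE.inj _ _ ?_ ?_⟩
      · rw [hwp, ← hc₁]
        rw [map_sub, show t.π.1 j = 0 from hj, sub_zero]
      · rw [hwp', ← hd, show c₁ - j = c₂ + l by rw [eq_sub_of_add_eq hlj]; ring]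
        change q.toAlgHom (t'.π.1 (c₂ + l)) = q.toAlgHom (t'.π.1 c₂)
        rw [map_add, map_add, show q.toAlgHom (t'.π.1 l) = 0 from (hkerL l).2 hl, add_zero]
    obtain ⟨z, hz⟩ := cmp_surjective_of_surjective hk hbar hE hhs
      ⟨(t.ξ, F.map q t'.ξ), by rw [← Functor.map_comp_apply, hh, hgξ, hg'ξ]⟩
    have hz₁ : F.map p z = t.ξ := congrArg (fun y => y.1.1) hz
    refine ⟨le_inf hJm hJ'm, ⟨E, w, hwsurj, z⟩, ⟨p ≫ g, ?_, ?_⟩, ?_⟩
    · rw [homSet_map_comp, hw₁, hgπ]
    · rw [Functor.map_comp_apply, hz₁, hgξ]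
    · refine le_antisymm (fun c hc => ?_) (fun c hc => ?_)
      · rw [RingHom.mem_ker] at hc
        have h1 : t.π.1 c = 0 := by rw [← hwp, hc]; exact map_zero p.toAlgHom
        have h2 : q (t'.π.1 c) = 0 := by rw [← hwp', hc]; exact map_zero p'.toAlgHom
        exact ⟨h1, hL₃ ⟨(hkerL c).1 h2, h1⟩⟩
      · rw [RingHom.mem_ker]
        refine hE.inj _ _ ?_ ?_
        · rw [hwp]
          exact (hc.1 : t.π.1 c = 0).trans (map_zero p.toAlgHom).symm
        · rw [hwp']
          exact ((hkerL c).2 (hLK' hc.2)).trans (map_zero p'.toAlgHom).symm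
  obtain ⟨N, hN⟩ := exists_pow_le_ker s.π
  have hmap : ∀ J ∈ T, IsLocalRing.maximalIdeal C.carrier ^ (N + 1) ≤ J := fun J hJ =>
    le_trans (by rw [pow_succ']; exact Ideal.mul_mono_right hN) hJ.1
  let mk := Ideal.Quotient.mk (C.mpow N)
  have := CRing.isArtinianRing_quot_mpow C N
  obtain ⟨-, ⟨J, hJ, rfl⟩, hmin⟩ := (wellFounded_lt (α := Ideal (C.carrier ⧸ C.mpow N))).has_min
    (Ideal.map mk '' T) ⟨_, K, ⟨Ideal.mul_le_right, s, over_rfl s, rfl⟩, rfl⟩
  have hleast : ∀ J' ∈ T, J ≤ J' := by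
    intro J' hJ'
    by_contra hle
    refine hmin _ ⟨J ⊓ J', hinf J hJ J' hJ', rfl⟩ (lt_of_le_not_ge (Ideal.map_mono inf_le_left) fun h => ?_)
    refine hle fun x hx => ?_
    have h' := Ideal.comap_mono (f := mk) h
    rw [Ideal.comap_map_of_surjective _ Ideal.Quotient.mk_surjective,
      Ideal.comap_map_of_surjective _ Ideal.Quotient.mk_surjective, ← RingHom.ker_eq_comap_bot,
      Ideal.mk_ker, sup_eq_left.2 (hmap _ (hinf J hJ J' hJ')), sup_eq_left.2 (hmap _ hJ)] at h'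
    exact (h' hx).2
  obtain ⟨-, t, ht, rfl⟩ := hJ
  exact ⟨t, ht, fun s'' hs'' hm => hleast _ ⟨hm, s'', hs'', rfl⟩⟩

end Stages

/-- Schlessinger's theorem. -/
theorem exists_hull [IsNoetherianRing Λ] (hk : Function.Surjective (algebraMap Λ k))
    {F : Art Λ k ⥤ Type v} [TangentStr F] (h0 : H0 F) (hbar : Hbar F) (heps : Heps F) (hfin : Hfin F) :
    ∃ H : Hull F, (∀ A, Function.Surjective (H.family.app A)) ∧ (HSq F → IsUniversal H.family) := by
  classical
  have : Module.Finite k (TangentSpace F) := hfin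
  let n := Module.finrank k (TangentSpace F)
  let e : Module.Basis (Fin n) k (TangentSpace F) := Module.finBasis k (TangentSpace F)
  obtain ⟨z, hz⟩ := exists_tangent_tuple h0 heps n fun i => TangentSpace.val (e i)
  obtain ⟨C, t, ht, hC⟩ := exists_free hk n
  let ε : Fin n → tszeArt Λ k n := fun i => ((0, Pi.single i 1) : TrivSqZeroExt k (Fin n → k))
  obtain ⟨w₀, hw₀, -⟩ := hC (tszeArt Λ k n) ε fun i => rfl
  have hw₀s : Function.Surjective w₀.1 := by
    intro a
    obtain ⟨l, hl⟩ := hk a.fst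
    choose c hc using fun i => hk (a.snd i)
    refine ⟨algebraMap Λ C.carrier l + ∑ i, algebraMap Λ C.carrier (c i) * t i, ?_⟩
    rw [map_add, map_sum, AlgHom.commutes]
    simp only [map_mul, AlgHom.commutes, hw₀]
    have h1 : ∀ i, algebraMap Λ (tszeArt Λ k n) (c i) * ε i =
        (TrivSqZeroExt.inr (Pi.single i (a.snd i)) : TrivSqZeroExt k (Fin n → k)) := fun i => by
      change (algebraMap Λ (TrivSqZeroExt k (Fin n → k)) (c i)) * TrivSqZeroExt.inr (Pi.single i 1) = _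
      have key : ∀ r : k, (TrivSqZeroExt.inl r : TrivSqZeroExt k (Fin n → k)) *
          TrivSqZeroExt.inr (Pi.single i 1) = TrivSqZeroExt.inr (Pi.single i r) := fun r => by
        rw [TrivSqZeroExt.inl_mul_inr, ← Pi.single_smul, smul_eq_mul, mul_one]
      rw [TrivSqZeroExt.algebraMap_eq_inl', hc]
      exact key _
    simp only [h1]
    change algebraMap Λ (TrivSqZeroExt k (Fin n → k)) l +
      ∑ i, (TrivSqZeroExt.inr (Pi.single i (a.snd i)) : TrivSqZeroExt k (Fin n → k)) = a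
    have key : ∀ u : TrivSqZeroExt k (Fin n → k),
        TrivSqZeroExt.inl u.fst + ∑ i, TrivSqZeroExt.inr (Pi.single i (u.snd i)) = u := fun u => by
      refine Eq.trans (congrArg (_ + ·) ?_) (TrivSqZeroExt.inl_fst_add_inr_snd_eq u)
      exact (map_sum (TrivSqZeroExt.inrHom k (Fin n → k)) _ _).symm.trans
        (congrArg _ (Finset.univ_sum_single u.snd))
    rw [TrivSqZeroExt.algebraMap_eq_inl', hl]
    exact key a
  let s₀ : Stage C F := ⟨tszeArt Λ k n, w₀, hw₀s, z⟩
  choose nxt hnxt₁ hnxt₂ using fun s : Stage C F => exists_next hk hbar s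
  let seq : ℕ → Stage C F := fun q => nxt^[q] s₀
  have hsucc : ∀ q, seq (q + 1) = nxt (seq q) := fun q => Function.iterate_succ_apply' nxt q s₀
  have hover : ∀ {q q'}, q ≤ q' → Over (seq q') (seq q) := by
    intro q q' hle
    induction q', hle using Nat.le_induction with
    | base => exact over_rfl _
    | succ q' _ ih => rw [hsucc]; exact (hnxt₁ _).trans ih
  let K : ℕ → Ideal C.carrier := fun q => RingHom.ker (seq q).π.1
  let I : Ideal C.carrier := ⨅ q, K q
  have hIres : ∀ c ∈ I, C.res c = 0 := fun c hc => by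
    rw [← AlgHom.congr_fun w₀.2 c]
    exact (congrArg (tszeArt Λ k n).res ((iInf_le K 0) hc : w₀.1 c = 0)).trans (map_zero _)
  have hI : I ≠ ⊤ := fun h => by
    simpa using hIres 1 (h ▸ Submodule.mem_top)
  have : Nontrivial (C.carrier ⧸ I) := Ideal.Quotient.nontrivial_iff.2 hI
  have : IsLocalRing (C.carrier ⧸ I) := .of_surjective' _ Ideal.Quotient.mk_surjective
  have := C.isAdicComplete
  let resR : (C.carrier ⧸ I) →ₐ[Λ] k := Ideal.Quotient.liftₐ I C.res hIres
  let R : CRing Λ k :=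
    { carrier := C.carrier ⧸ I
      res := resR
      res_surjective := fun c => by
        obtain ⟨a, ha⟩ := C.res_surjective c
        exact ⟨Ideal.Quotient.mk I a, ha⟩
      isAdicComplete := isAdicComplete_quotient I }
  let down : ∀ {A : Art Λ k}, HomSet R.carrier R.res A → HomSet C.carrier C.res A := fun {A} φ =>
    ⟨φ.1.comp (Ideal.Quotient.mkₐ Λ I), by
      rw [← AlgHom.comp_assoc, φ.2]; exact Ideal.Quotient.liftₐ_comp _ _ _⟩
  have hdown : ∀ {A : Art Λ k} (φ φ' : HomSet R.carrier R.res A), down φ = down φ' → φ = φ' :=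
    fun {A} φ φ' h => Subtype.ext (Ideal.Quotient.algHom_ext Λ (congrArg Subtype.val h))
  have hfac : ∀ {A : Art Λ k} (φ : HomSet R.carrier R.res A),
      ∃ (q : ℕ) (g : (seq q).Q ⟶ A), HomSet.map g (seq q).π = down φ := by
    intro A φ
    obtain ⟨N, hN⟩ := exists_pow_le_ker (down φ)
    obtain ⟨q, hq⟩ := chevalley K (fun a b hab => (hover hab).ker_le)
      (fun q => exists_pow_le_ker (seq q).π) N
    refine ⟨q, exists_descHom _ (seq q).surj _ (hq.trans (sup_le (fun c hc => ?_) hN))⟩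
    rw [RingHom.mem_ker]
    change φ.1 (Ideal.Quotient.mk I c) = 0
    rw [Ideal.Quotient.eq_zero_iff_mem.2 hc, map_zero]
  have hindep : ∀ {A : Art Λ k} {q q' : ℕ} (g : (seq q).Q ⟶ A) (g' : (seq q').Q ⟶ A),
      HomSet.map g (seq q).π = HomSet.map g' (seq q').π →
        F.map g (seq q).ξ = F.map g' (seq q').ξ := by
    intro A q q' g g' h
    wlog hle : q ≤ q' generalizing q q'
    · exact (this g' g h.symm (Nat.le_of_not_le hle)).symm
    obtain ⟨tr, htr, htrξ⟩ := hover hle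
    have hg : g' = tr ≫ g := hom_cancel (seq q').surj _ _ (by rw [← h, homSet_map_comp, htr])
    rw [hg, Functor.map_comp_apply, htrξ]
  let app : ∀ A : Art Λ k, HomSet R.carrier R.res A → F.obj A := fun A φ =>
    F.map (hfac φ).choose_spec.choose (seq (hfac φ).choose).ξ
  have happ : ∀ {A : Art Λ k} {q : ℕ} (g : (seq q).Q ⟶ A) (φ : HomSet R.carrier R.res A),
      HomSet.map g (seq q).π = down φ → app A φ = F.map g (seq q).ξ := fun g φ h =>
    hindep _ g ((hfac φ).choose_spec.choose_spec.trans h.symm)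
  let ξ : Family R.carrier R.res F :=
    { app := app
      natural := fun {A B} f φ => by
        obtain ⟨q, g, hg⟩ := hfac φ
        rw [happ g φ hg, happ (g ≫ f) _ (by rw [homSet_map_comp, hg]; rfl), Functor.map_comp_apply] }
  let up : ∀ q, HomSet R.carrier R.res (seq q).Q := fun q =>
    ⟨Ideal.Quotient.liftₐ I (seq q).π.1 fun c hc => (iInf_le K q) hc,
      Ideal.Quotient.algHom_ext Λ (by
        rw [AlgHom.comp_assoc, Ideal.Quotient.liftₐ_comp, (seq q).π.2]
        exact (Ideal.Quotient.liftₐ_comp _ _ _).symm)⟩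
  have hup : ∀ q, down (up q) = (seq q).π := fun q => Subtype.ext (Ideal.Quotient.liftₐ_comp _ _ _)
  have happup : ∀ {A : Art Λ k} {q : ℕ} (g : (seq q).Q ⟶ A),
      app A (HomSet.map g (up q)) = F.map g (seq q).ξ := fun {A q} g =>
    happ g _ (by
      rw [← hup q]
      rfl)
  -- the tangent map
  have hdualfac : ∀ φ : HomSet R.carrier R.res (Art.dual Λ k), ∃ ℓ : (Fin n → k) →ₗ[k] k,
      φ = HomSet.map (tszeHom ℓ) (up 0) := by
    intro φ
    let c : Fin n → k := fun i => TrivSqZeroExt.snd ((down φ).1 (t i) : DualNumber k)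
    let ℓ : (Fin n → k) →ₗ[k] k := ∑ i, c i • LinearMap.proj i
    refine ⟨ℓ, hdown _ _ ?_⟩
    have hres : ∀ i, (Art.dual Λ k).res ((down φ).1 (t i)) = 0 := fun i =>
      (AlgHom.congr_fun (down φ).2 (t i)).trans (ht i)
    refine (hC _ (fun i => (down φ).1 (t i)) hres).unique (fun i => rfl) fun i => ?_
    change (tszeHom ℓ).toAlgHom (w₀.1 (t i)) = _
    rw [hw₀]
    refine TrivSqZeroExt.ext (hres i).symm ?_
    change ℓ (Pi.single i 1) = c i
    simp [ℓ, Pi.single_apply]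
  have htan : ∀ ℓ : (Fin n → k) →ₗ[k] k,
      TangentSpace.mk (app _ (HomSet.map (tszeHom ℓ) (up 0))) = ∑ i, ℓ (Pi.single i 1) • e i := by
    intro ℓ
    refine (congrArg TangentSpace.mk (happup (q := 0) (tszeHom ℓ))).trans ?_
    refine (map_tszeHom h0 n z ℓ).trans (Finset.sum_congr rfl fun i _ => ?_)
    rw [hz i]
    rfl
  have hbij : Function.Bijective (ξ.app (Art.dual Λ k)) := by
    refine ⟨fun φ φ' h => ?_, fun x => ?_⟩
    · obtain ⟨ℓ, rfl⟩ := hdualfac φ
      obtain ⟨ℓ', rfl⟩ := hdualfac φ'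
      have h' := (htan ℓ).symm.trans ((congrArg TangentSpace.mk h).trans (htan ℓ'))
      have hv : ∀ i, ℓ (Pi.single i 1) = ℓ' (Pi.single i 1) := fun i =>
        congrFun (e.equivFun.symm.injective (by simpa [Module.Basis.equivFun_symm_apply] using h')) i
      rw [show ℓ = ℓ' from LinearMap.pi_ext' fun i => LinearMap.ext_ring (hv i)]
    · let ℓ : (Fin n → k) →ₗ[k] k := ∑ i, e.equivFun (TangentSpace.mk x) i • LinearMap.proj i
      refine ⟨HomSet.map (tszeHom ℓ) (up 0), (htan ℓ).trans ?_⟩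
      conv_rhs => rw [show x = TangentSpace.mk x from rfl, ← e.sum_equivFun (TangentSpace.mk x)]
      refine Finset.sum_congr rfl fun i _ => ?_
      congr 1
      simp [ℓ, Pi.single_apply]
  -- versality
  have hsmall : ∀ {B A : Art Λ k} (μ : B ⟶ A), Art.IsSmallExt μ →
      ∀ (φ : HomSet R.carrier R.res A) (y : F.obj B), F.map μ y = ξ.app A φ →
        ∃ ψ : HomSet R.carrier R.res B, HomSet.map μ ψ = φ ∧ ξ.app B ψ = y := by
    intro B A μ hμ φ y hy
    obtain ⟨q, g, hg⟩ := hfac φ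
    obtain ⟨E, p, p', hE⟩ := exists_fibreProd hk g μ
    obtain ⟨z', hz'⟩ := hbar p p' g μ hE hμ
      ⟨((seq q).ξ, y), ((happ g φ hg).symm.trans hy.symm)⟩
    have hz'₁ : F.map p z' = (seq q).ξ := congrArg (fun x => x.1.1) hz'
    have hz'₂ : F.map p' z' = y := congrArg (fun x => x.1.2) hz'
    obtain ⟨hμs, hμne, ⟨x, hx⟩, hμann⟩ := hμ
    rw [Ideal.submodule_span_eq] at hx
    choose b hb using fun i => hμs (g ((seq q).π.1 (t i)))
    choose a ha₁ ha₂ using fun i => hE.surj ((seq q).π.1 (t i)) (b i) (hb i).symm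
    have hares : ∀ i, E.res (a i) = 0 := fun i => by
      rw [← Art.res_app p, ha₁]
      exact (AlgHom.congr_fun (seq q).π.2 (t i)).trans (ht i)
    obtain ⟨w, hw, -⟩ := hC E a hares
    have hpw : HomSet.map p w = (seq q).π := by
      refine (hC _ (fun i => (seq q).π.1 (t i)) fun i =>
        (AlgHom.congr_fun (seq q).π.2 (t i)).trans (ht i)).unique (fun i => ?_) (fun i => rfl)
      change p (w.1 (t i)) = _
      rw [hw, ha₁]
    have hpw' : ∀ c, p (w.1 c) = (seq q).π.1 c := fun c =>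
      AlgHom.congr_fun (congrArg Subtype.val hpw) c
    have hkill : ∀ e₁ : E, E.res e₁ = 0 → ∀ e₂ : E, p e₂ = 0 → e₁ * e₂ = 0 := by
      intro e₁ h₁ e₂ h₂
      refine hE.inj _ _ ?_ ?_
      · change p.toAlgHom (e₁ * e₂) = p.toAlgHom 0
        rw [map_mul, map_zero, show p.toAlgHom e₂ = 0 from h₂, mul_zero]
      · change p'.toAlgHom (e₁ * e₂) = p'.toAlgHom 0
        rw [map_mul, map_zero]
        have hm : p'.toAlgHom e₂ ∈ RingHom.ker μ.toAlgHom := by
          rw [RingHom.mem_ker]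
          refine (hE.w_apply e₂).symm.trans ?_
          rw [h₂]; exact map_zero g.toAlgHom
        have := Ideal.mul_mem_mul ((Art.mem_maximalIdeal_iff B (p'.toAlgHom e₁)).mpr
          ((Art.res_app p' e₁).trans h₁)) hm
        rwa [hμann, Ideal.mem_bot] at this
    have hmK : IsLocalRing.maximalIdeal C.carrier * K q ≤ RingHom.ker w.1 := by
      rw [Ideal.mul_le]
      intro r hr c hc
      rw [RingHom.mem_ker, map_mul]
      exact hkill _ ((AlgHom.congr_fun w.2 r).trans ((CRing.mem_maximalIdeal_iff C r).1 hr)) _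
        ((hpw' c).trans hc)
    have hKw : K (q + 1) ≤ RingHom.ker w.1 := by
      by_cases hK : K q ≤ RingHom.ker w.1
      · exact (hover (Nat.le_succ q)).ker_le.trans hK
      obtain ⟨c₀, hc₀, hc₀w⟩ := SetLike.not_le_iff_exists.mp hK
      have hd₀ : p (w.1 c₀) = 0 := (hpw' c₀).trans hc₀
      have hkerμ : ∀ d : E, p d = 0 → p' d ∈ RingHom.ker μ.toAlgHom := fun d hd => by
        rw [RingHom.mem_ker]
        refine (hE.w_apply d).symm.trans ?_
        rw [hd]; exact map_zero g.toAlgHom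
      have hwsurj : Function.Surjective w.1 := by
        intro d
        obtain ⟨c, hc⟩ := (seq q).surj (p d)
        have hd : p (d - w.1 c) = 0 := by
          change p.toAlgHom (d - w.1 c) = 0
          rw [map_sub, sub_eq_zero]
          exact hc.symm.trans (hpw' c).symm
        have h1 := hkerμ _ hd
        have h2 := hkerμ _ hd₀
        rw [hx] at h1 h2
        obtain ⟨s, hs⟩ := Ideal.mem_span_singleton'.1 h1
        obtain ⟨r, hr⟩ := Ideal.mem_span_singleton'.1 h2
        have hru : IsUnit r := by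
          by_contra hru
          refine hc₀w (hE.inj _ _ (hd₀.trans (map_zero p.toAlgHom).symm) ?_)
          rw [← hr]
          refine Eq.trans ?_ (map_zero p'.toAlgHom).symm
          have := Ideal.mul_mem_mul ((IsLocalRing.mem_maximalIdeal r).mpr hru)
            (hx ▸ Ideal.mem_span_singleton_self x : x ∈ RingHom.ker μ.toAlgHom)
          rwa [hμann, Ideal.mem_bot] at this
        obtain ⟨ri, hri⟩ := hru.exists_left_inv
        obtain ⟨l, hl⟩ := hk (B.res (s * ri))
        refine ⟨c + algebraMap Λ C.carrier l * c₀, ?_⟩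
        rw [map_add, map_mul, AlgHom.commutes, ← eq_sub_iff_add_eq']
        refine hE.inj _ _ ?_ ?_
        · refine Eq.trans ?_ hd.symm
          change p.toAlgHom (_ * _) = 0
          rw [map_mul, show p.toAlgHom (w.1 c₀) = 0 from hd₀, mul_zero]
        · rw [← hs]
          change p'.toAlgHom (_ * _) = _
          rw [map_mul, AlgHom.commutes, show p'.toAlgHom (w.1 c₀) = r * x from hr.symm, ← sub_eq_zero]
          have h3 : algebraMap Λ B l * (r * x) - s * x = (algebraMap Λ B l - s * ri) * (r * x) := by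
            rw [sub_mul, show s * ri * (r * x) = s * (ri * r) * x by ring, hri, mul_one]
          rw [h3]
          have := Ideal.mul_mem_mul ((Art.mem_maximalIdeal_iff B (algebraMap Λ B l - s * ri)).mpr
            (by rw [map_sub, res_algebraMap, hl, sub_self]))
            (Ideal.mul_mem_left _ r (hx ▸ Ideal.mem_span_singleton_self x : x ∈ RingHom.ker μ.toAlgHom))
          rwa [hμann, Ideal.mem_bot] at this
      have := hnxt₂ (seq q) ⟨E, w, hwsurj, z'⟩ ⟨p, hpw, hz'₁⟩ hmK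
      rw [← hsucc] at this
      exact this
    obtain ⟨g₁, hg₁⟩ := exists_descHom _ (seq (q + 1)).surj w hKw
    let ψ₀ : HomSet R.carrier R.res B := HomSet.map (g₁ ≫ p') (up (q + 1))
    have hψ₀ : HomSet.map μ ψ₀ = φ := by
      refine hdown _ _ ?_
      rw [← hg, show down (HomSet.map μ ψ₀) = HomSet.map μ (HomSet.map (g₁ ≫ p') (down (up (q + 1))))
        from rfl, hup, homSet_map_comp, hg₁, ← hpw, ← homSet_map_comp, ← homSet_map_comp, hE.w]
    have hy₀ : F.map μ (ξ.app B ψ₀) = F.map μ y := by rw [← ξ.natural, hψ₀, hy]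
    obtain ⟨E₂, p₂, p₂', Θ, hE₂, hΘ, -⟩ := exists_dual_square hk μ ⟨hμs, hμne, ⟨x, hx⟩, hμann⟩
    obtain ⟨ζ, hζ⟩ := hbar p₂ Θ μ μ hΘ ⟨hμs, hμne, ⟨x, hx⟩, hμann⟩ ⟨(ξ.app B ψ₀, y), hy₀⟩
    obtain ⟨δ, hδ⟩ := hbij.2 (F.map p₂' ζ)
    obtain ⟨c, hc₁, hc₂⟩ := fibreProd_lift hE₂ ψ₀ δ (Subtype.ext (ψ₀.2.trans δ.2.symm))
    have hcζ : ξ.app E₂ c = ζ := by
      refine (heps p₂ p₂' hE₂).1 (FibProd.ext ?_ ?_)
      · change F.map p₂ (ξ.app E₂ c) = F.map p₂ ζ
        rw [← ξ.natural, hc₁]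
        exact (congrArg (fun v => v.1.1) hζ).symm
      · change F.map p₂' (ξ.app E₂ c) = F.map p₂' ζ
        rw [← ξ.natural, hc₂, hδ]
    refine ⟨HomSet.map Θ c, ?_, ?_⟩
    · rw [← homSet_map_comp, ← hΘ.w, homSet_map_comp, hc₁, hψ₀]
    · rw [ξ.natural, hcζ]
      exact congrArg (fun v => v.1.2) hζ
  have hvers : IsVersal ξ := by
    intro B A μ hμ
    let P : ∀ {B A : Art Λ k}, (B ⟶ A) → Prop := fun {B A} μ =>
      ∀ (φ : HomSet R.carrier R.res A) (y : F.obj B), F.map μ y = ξ.app A φ →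
        ∃ ψ : HomSet R.carrier R.res B, HomSet.map μ ψ = φ ∧ ξ.app B ψ = y
    have hiso : ∀ {B A : Art Λ k} (μ : B ⟶ A), Function.Bijective μ → P μ := by
      intro B A μ hμ φ y hy
      obtain ⟨g, hg₁, hg₂⟩ := exists_inv_of_bijective μ hμ
      refine ⟨HomSet.map g φ, ?_, ?_⟩
      · rw [← homSet_map_comp, hg₂]; exact Subtype.ext (AlgHom.ext fun _ => rfl)
      · rw [ξ.natural, ← hy, ← Functor.map_comp_apply, hg₁, F.map_id]; rfl
    refine surjective_induction P hiso ?_ μ hμ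
    intro B D A g h _ hg hh φ y hy
    obtain ⟨ψ', hψ'₁, hψ'₂⟩ := hh φ (F.map g y) (by rw [← Functor.map_comp_apply]; exact hy)
    have hPg : P g := hg.elim (hiso g) (hsmall g)
    obtain ⟨ψ, hψ₁, hψ₂⟩ := hPg ψ' y hψ'₂.symm
    exact ⟨ψ, by rw [homSet_map_comp, hψ₁, hψ'₁], hψ₂⟩
  have hsurj : ∀ A, Function.Surjective (ξ.app A) := fun A y => by
    have := h0.2
    obtain ⟨ψ, -, hψ⟩ := hvers (Art.toBase A) A.res_surjective ⟨R.res, AlgHom.id_comp _⟩ y
      (Subsingleton.elim _ _)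
    exact ⟨ψ, hψ⟩
  refine ⟨⟨R, ξ, hvers, hbij⟩, hsurj, fun hsq A => ⟨?_, hsurj A⟩⟩
  let P : ∀ {B A : Art Λ k}, (B ⟶ A) → Prop := fun {B A} _ =>
    Function.Injective (ξ.app A) → Function.Injective (ξ.app B)
  have hiso : ∀ {B A : Art Λ k} (μ : B ⟶ A), Function.Bijective μ → P μ := by
    intro B A μ hμ hA ψ₁ ψ₂ h
    have hm := hA (a₁ := HomSet.map μ ψ₁) (a₂ := HomSet.map μ ψ₂) (by rw [ξ.natural, ξ.natural, h])
    exact Subtype.ext (AlgHom.ext fun c => hμ.1 (AlgHom.congr_fun (congrArg Subtype.val hm) c))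
  refine surjective_induction P hiso ?_ (Art.toBase A) A.res_surjective ?_
  · intro B D A g h _ hg hh hA
    have hPg : P g := by
      rcases hg with hg | hg
      · exact hiso g hg
      intro hD ψ₁ ψ₂ heq
      have hm := hD (a₁ := HomSet.map g ψ₁) (a₂ := HomSet.map g ψ₂) (by rw [ξ.natural, ξ.natural, heq])
      obtain ⟨E₂, p₂, p₂', Θ, hE₂, hΘ, hΘ0⟩ := exists_dual_square hk g hg
      obtain ⟨c, hc₁, hc₂⟩ := fibreProd_lift hΘ ψ₁ ψ₂ hm
      let δ₀ : HomSet R.carrier R.res (Art.dual Λ k) :=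
        HomSet.map (Art.toBase B ≫ Art.baseToDual) ψ₁
      obtain ⟨c₀, hc₀₁, hc₀₂⟩ := fibreProd_lift hE₂ ψ₁ δ₀ (Subtype.ext (ψ₁.2.trans δ₀.2.symm))
      have hc₀Θ : HomSet.map Θ c₀ = ψ₁ := by
        refine Subtype.ext (AlgHom.ext fun r => ?_)
        refine (hΘ0 (c₀.1 r) ?_).trans (AlgHom.congr_fun (congrArg Subtype.val hc₀₁) r)
        exact congrArg TrivSqZeroExt.snd (AlgHom.congr_fun (congrArg Subtype.val hc₀₂) r)
      have hζ : ξ.app E₂ c₀ = ξ.app E₂ c := by
        refine (hsq p₂ Θ g hΘ hg).1 (FibProd.ext ?_ ?_)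
        · change F.map p₂ _ = F.map p₂ _
          rw [← ξ.natural, ← ξ.natural, hc₀₁, hc₁]
        · change F.map Θ _ = F.map Θ _
          rw [← ξ.natural, ← ξ.natural, hc₀Θ, hc₂, heq]
      have hδ : HomSet.map p₂' c₀ = HomSet.map p₂' c := hbij.1 (by rw [ξ.natural, ξ.natural, hζ])
      have hcc : c₀ = c := Subtype.ext (AlgHom.ext fun r => hE₂.inj _ _
        (AlgHom.congr_fun (congrArg Subtype.val (hc₀₁.trans hc₁.symm)) r)
        (AlgHom.congr_fun (congrArg Subtype.val hδ) r))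
      rw [← hc₀Θ, ← hc₂, hcc]
    exact hPg (hh hA)
  · intro φ φ' _
    exact Subtype.ext ((AlgHom.id_comp φ.1).symm.trans (φ.2.trans (φ'.2.symm.trans (AlgHom.id_comp φ'.1))))

end Groth.Agent.ArtHull
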