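import Groth.Agent.ArtHull.HullGen
import Mathlib.RingTheory.Unramified.Field
import Mathlib.Dynamics.Newton
import Mathlib.FieldTheory.PrimitiveElement
import Mathlib.RingTheory.Kaehler.Basic

/-!
Versal families, and hulls when `k` has no `Λ`-derivations, from Schlessinger's conditions for
`Λ → k` finite.
-/

set_option autoImplicit false

universe u v

open CategoryTheory ArtFun Polynomial

namespace Groth.Agent.ArtHull

variable {Λ : Type u} {k : Type u} [CommRing Λ] [Field k] [Algebra Λ k]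
  [IsNoetherianRing Λ] [Module.Finite Λ k]

theorem isSmooth_of_values {σ : Type u} (C : CRing Λ k) (g : σ → C.carrier)
    (hlift : ∀ {B A : Art Λ k} (μ : B ⟶ A), Function.Surjective μ → ∀ φ : HomSet C.carrier C.res A,
      ∃ ψ : HomSet C.carrier C.res B, ∀ s, μ (ψ.1 (g s)) = φ.1 (g s))
    (hext : ∀ {A : Art Λ k} (φ φ' : HomSet C.carrier C.res A), (∀ s, φ.1 (g s) = φ'.1 (g s)) → φ = φ') :
    IsSmoothFunctor (hR C.carrier C.res) := fun _ _ μ hμ φ =>
  let ⟨ψ, hψ⟩ := hlift μ hμ φ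
  ⟨ψ, hext (HomSet.map μ ψ) φ hψ⟩

theorem exists_versal (F : Art Λ k ⥤ Type v) [TangentStr F] (h0 : H0 F) (h1 : S1 F) (h2 : Heps F)
    (h3 : Hfin F) : HasVersal F := by
  obtain ⟨q, c, hc⟩ := Submodule.fg_iff_exists_fin_generating_family.1
    (Module.Finite.fg_top (R := Λ) (M := k))
  let σ := ULift.{u} (Fin q ⊕ Fin (Module.finrank k (TangentSpace F)))
  let cs : σ → k := fun z => z.down.elim c fun _ => 0
  obtain ⟨C, g, hg, hu⟩ := exists_free_cring (Λ := Λ) cs (eq_top_iff.mpr fun y _ => by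
    obtain ⟨l, rfl⟩ := (Submodule.mem_span_range_iff_exists_fun Λ).1
      (hc.symm ▸ Submodule.mem_top : y ∈ Submodule.span Λ (Set.range c))
    exact Subalgebra.sum_mem _ fun j _ =>
      Subalgebra.smul_mem _ (Algebra.subset_adjoin (Set.mem_range_self (f := cs) (ULift.up (Sum.inl j)))) _)
  have hvals : ∀ (A : Art Λ k) (v : σ → A), (∀ s, A.res (v s) = cs s) →
      ∃ w : HomSet C.carrier C.res A, ∀ s, w.1 (g s) = v s := fun A v hv =>
    let ⟨h, hh, _⟩ := hu (artCRing A) v hv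
    ⟨⟨h, hh.1⟩, hh.2⟩
  have hext : ∀ {A : Art Λ k} (φ φ' : HomSet C.carrier C.res A),
      (∀ s, φ.1 (g s) = φ'.1 (g s)) → φ = φ' := fun {A} φ φ' h => Subtype.ext
    ((hu (artCRing A) (fun s => φ'.1 (g s)) fun s => (AlgHom.congr_fun φ'.2 (g s)).trans (hg s)).unique
      ⟨φ.2, h⟩ ⟨φ'.2, fun _ => rfl⟩)
  obtain ⟨V, -, -⟩ := exists_versal_gen h0 h1 h2 h3 C (fun i => g (ULift.up (Sum.inr i)))
    (fun i => hg _)
    (isSmooth_of_values C g (fun {B A} μ hμ φ => by
      choose b hb using fun s => hμ (φ.1 (g s))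
      obtain ⟨w, hw⟩ := hvals B b fun s => by
        rw [← Art.res_app μ, hb, ← hg s]
        exact AlgHom.congr_fun φ.2 (g s)
      exact ⟨w, fun s => by rw [hw, hb]⟩) hext)
    (fun A a ha => by
      choose b hb using fun j => A.res_surjective (c j)
      obtain ⟨w, hw⟩ := hvals A (fun z => z.down.elim b a) (by
        rintro ⟨j | i⟩
        · exact hb j
        · exact ha i)
      exact ⟨w, fun i => hw _⟩)
  exact ⟨V⟩

/-- An element generating `k` over `Λ`, separably. -/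
theorem exists_generator (hk : Subsingleton (Derivation Λ k k)) :
    ∃ (P : Λ[X]) (α : k), aeval α P = 0 ∧ aeval α (derivative P) ≠ 0 ∧
      Algebra.adjoin Λ {α} = ⊤ := by
  let 𝔮 : Ideal Λ := RingHom.ker (algebraMap Λ k)
  let ι : Λ ⧸ 𝔮 →+* k := RingHom.kerLift (algebraMap Λ k)
  have h𝔮 : 𝔮.IsMaximal := by
    have : (⊥ : Ideal k).IsMaximal := Ideal.bot_isMaximal
    change (RingHom.ker (algebraMap Λ k)).IsMaximal
    rw [RingHom.ker_eq_comap_bot]
    exact Ideal.isMaximal_comap_of_isIntegral_of_isMaximal ⊥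
  let := Ideal.Quotient.field 𝔮
  let : Algebra (Λ ⧸ 𝔮) k := ι.toAlgebra
  have : IsScalarTower Λ (Λ ⧸ 𝔮) k := IsScalarTower.of_algebraMap_eq fun _ => rfl
  have : Module.Finite (Λ ⧸ 𝔮) k := Module.Finite.of_restrictScalars_finite Λ _ _
  have : Algebra.FormallyUnramified Λ k := by
    have : Subsingleton (Module.Dual k (Ω[k⁄Λ])) :=
      (KaehlerDifferential.linearMapEquivDerivation Λ k (M := k)).toEquiv.subsingleton
    exact ⟨(Module.subsingleton_dual_iff k).mp this⟩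
  have : Algebra.FormallyUnramified (Λ ⧸ 𝔮) k :=
    Algebra.FormallyUnramified.of_restrictScalars Λ (Λ ⧸ 𝔮) k
  have : Algebra.IsSeparable (Λ ⧸ 𝔮) k := Algebra.FormallyUnramified.isSeparable (Λ ⧸ 𝔮) k
  obtain ⟨α, hα⟩ := Field.exists_primitive_element (Λ ⧸ 𝔮) k
  obtain ⟨P, hP⟩ := Polynomial.map_surjective (Ideal.Quotient.mk 𝔮) Ideal.Quotient.mk_surjective
    (minpoly (Λ ⧸ 𝔮) α)
  have hev : ∀ p : Λ[X], aeval α p = aeval α (p.map (Ideal.Quotient.mk 𝔮)) := fun p =>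
    (aeval_map_algebraMap (Λ ⧸ 𝔮) α p).symm
  refine ⟨P, α, ?_, ?_, ?_⟩
  · rw [hev, hP, minpoly.aeval]
  · rw [hev, ← derivative_map, hP]
    exact (Algebra.IsSeparable.isSeparable (Λ ⧸ 𝔮) α).aeval_derivative_ne_zero (minpoly.aeval _ _)
  · have h1 : Algebra.adjoin (Λ ⧸ 𝔮) {α} = ⊤ := by
      rw [← IntermediateField.adjoin_simple_toSubalgebra_of_isAlgebraic (Algebra.IsAlgebraic.isAlgebraic α),
        hα, IntermediateField.top_toSubalgebra]
    refine eq_top_iff.mpr fun x _ => ?_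
    obtain ⟨p, rfl⟩ := (Algebra.adjoin_singleton_eq_range_aeval (Λ ⧸ 𝔮) α ▸ h1.ge trivial :
      x ∈ (aeval α).range)
    obtain ⟨p', rfl⟩ := Polynomial.map_surjective (Ideal.Quotient.mk 𝔮) Ideal.Quotient.mk_surjective p
    rw [Algebra.adjoin_singleton_eq_range_aeval]
    exact ⟨p', hev p'⟩

theorem exists_hull_of_derivation (hk : Subsingleton (Derivation Λ k k)) (F : Art Λ k ⥤ Type v)
    [TangentStr F] (h0 : H0 F) (h1 : S1 F) (h2 : Heps F) (h3 : Hfin F) :
    ∃ H : Hull F, (∀ A, Function.Surjective (H.family.app A)) ∧ (HSq F → IsUniversal H.family) := by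
  obtain ⟨P, α, hPα, hP', hgen⟩ := exists_generator hk
  let n := Module.finrank k (TangentSpace F)
  let σ := ULift.{u} (Option (Fin n))
  let cs : σ → k := fun z => z.down.elim α fun _ => 0
  obtain ⟨D, g, hg, hu⟩ := exists_free_cring (Λ := Λ) cs (top_le_iff.mp (hgen ▸
    Algebra.adjoin_mono (Set.singleton_subset_iff.mpr ⟨ULift.up none, rfl⟩)))
  obtain ⟨C, q, hq, hker, hqr⟩ := exists_quotient_cring D (Ideal.span {aeval (g ⟨none⟩) P})
    ((Ideal.span_singleton_le_iff_mem _).mpr (RingHom.mem_ker.mpr (by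
      rw [← aeval_algHom_apply, hg]
      exact hPα)))
  have hCg : ∀ s, C.res (q (g s)) = cs s := fun s => (AlgHom.congr_fun hqr (g s)).trans (hg s)
  have hroot : ∀ {A : Art Λ k} (φ : HomSet C.carrier C.res A),
      aeval (φ.1 (q (g ⟨none⟩))) P = 0 ∧ A.res (φ.1 (q (g ⟨none⟩))) = α := fun {A} φ => by
    refine ⟨?_, (AlgHom.congr_fun φ.2 _).trans (hCg _)⟩
    rw [aeval_algHom_apply, aeval_algHom_apply, show q (aeval (g ⟨none⟩) P) = 0 from
      RingHom.mem_ker.mp (hker.symm ▸ Ideal.mem_span_singleton_self _), map_zero]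
  have hnewton : ∀ (A : Art Λ k), ∃! r : A, A.res r = α ∧ aeval r P = 0 := fun A => by
    obtain ⟨x, hx⟩ := A.res_surjective α
    have h1 : IsNilpotent (aeval x P) := isNilpotent_of_res_eq_zero A (by
      rw [← aeval_algHom_apply, hx, hPα])
    have h2 : IsUnit (aeval x (derivative P)) := IsLocalRing.notMem_maximalIdeal.mp fun h => hP' (by
      rw [← hx, aeval_algHom_apply]
      exact (Art.mem_maximalIdeal_iff A _).1 h)
    obtain ⟨r, ⟨hr, hr0⟩, huniq⟩ := Polynomial.existsUnique_nilpotent_sub_and_aeval_eq_zero h1 h2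
    refine ⟨r, ⟨?_, hr0⟩, fun r' hr' => huniq r' ⟨isNilpotent_of_res_eq_zero A (by
      rw [map_sub, hx, hr'.1, sub_self]), hr'.2⟩⟩
    have := hr.map A.res
    rw [map_sub, hx] at this
    exact (sub_eq_zero.mp this.eq_zero).symm
  have hvals : ∀ (A : Art Λ k) (a : Fin n → A), (∀ i, A.res (a i) = 0) →
      ∃ w : HomSet C.carrier C.res A, ∀ i, w.1 (q (g ⟨some i⟩)) = a i := fun A a ha => by
    obtain ⟨r, ⟨hr, hr0⟩, -⟩ := hnewton A
    obtain ⟨h, ⟨hh1, hh2⟩, -⟩ := hu (artCRing A) (fun z => z.down.elim r a) (by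
      rintro ⟨_ | i⟩
      · exact hr
      · exact ha i)
    have hle : RingHom.ker q ≤ RingHom.ker h := by
      rw [hker, Ideal.span_singleton_le_iff_mem, RingHom.mem_ker, ← aeval_algHom_apply, hh2]
      exact hr0
    refine ⟨⟨AlgHom.liftOfSurjective q hq h fun x hx => hle hx, AlgHom.ext fun y => ?_⟩, fun i => ?_⟩
    · obtain ⟨x, rfl⟩ := hq y
      refine (congrArg A.res (AlgHom.congr_fun (AlgHom.liftOfSurjective_comp q hq h fun x hx => hle hx) x)).trans ?_
      exact (AlgHom.congr_fun hh1 x).trans (AlgHom.congr_fun hqr x).symm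
    · exact (AlgHom.congr_fun (AlgHom.liftOfSurjective_comp q hq h fun x hx => hle hx) _).trans (hh2 _)
  have hext : ∀ {A : Art Λ k} (φ φ' : HomSet C.carrier C.res A),
      (∀ i, φ.1 (q (g ⟨some i⟩)) = φ'.1 (q (g ⟨some i⟩))) → φ = φ' := fun {A} φ φ' h => by
    have h0' : φ.1 (q (g ⟨none⟩)) = φ'.1 (q (g ⟨none⟩)) :=
      (hnewton A).unique ⟨(hroot φ).2, (hroot φ).1⟩ ⟨(hroot φ').2, (hroot φ').1⟩
    refine Subtype.ext (AlgHom.ext fun y => ?_)
    obtain ⟨x, rfl⟩ := hq y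
    refine AlgHom.congr_fun ((hu (artCRing A) (fun s => φ'.1 (q (g s)))
      fun s => (AlgHom.congr_fun φ'.2 _).trans (hCg s)).unique
      (y₁ := φ.1.comp q) (y₂ := φ'.1.comp q) ⟨?_, ?_⟩ ⟨?_, fun _ => rfl⟩) x
    · exact (AlgHom.comp_assoc A.res φ.1 q).symm.trans ((congrArg (·.comp q) φ.2).trans hqr)
    · rintro ⟨_ | i⟩
      · exact h0'
      · exact h i
    · exact (AlgHom.comp_assoc A.res φ'.1 q).symm.trans ((congrArg (·.comp q) φ'.2).trans hqr)
  obtain ⟨V, hsurj, hV⟩ := exists_versal_gen h0 h1 h2 h3 C (fun i => q (g ⟨some i⟩)) (fun i => hCg _)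
    (fun B A μ hμ φ => by
      choose b hb using fun i => hμ (φ.1 (q (g ⟨some i⟩)))
      obtain ⟨w, hw⟩ := hvals B b fun i => by
        rw [← Art.res_app μ, hb]
        exact (AlgHom.congr_fun φ.2 _).trans (hCg ⟨some i⟩)
      exact ⟨w, hext (HomSet.map μ w) φ fun i => (congrArg μ.toAlgHom (hw i)).trans (hb i)⟩)
    hvals
  exact ⟨⟨V.ring, V.family, (hV (fun φ φ' h => hext φ φ' h)).1⟩, hsurj,
    (hV (fun φ φ' h => hext φ φ' h)).2⟩

end Groth.Agent.ArtHull
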