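import Groth.Agent.ArtHull.Essential
import Mathlib.RingTheory.Kaehler.Basic
import Mathlib.RingTheory.Kaehler.TensorProduct

/-!
The map `k ⊗_B Ω[B/R] → k ⊗_A Ω[A/R]` for a surjection `B → A` over a field `k`.
-/

set_option autoImplicit false

universe u

open TensorProduct KaehlerDifferential

namespace Groth.Agent.ArtHull

variable (R B A k : Type u) [CommRing R] [CommRing B] [CommRing A] [Field k]
  [Algebra R B] [Algebra R A] [Algebra R k] [Algebra B A] [Algebra B k] [Algebra A k]
  [IsScalarTower R B A] [IsScalarTower B A k] [IsScalarTower R A k] [IsScalarTower R B k]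

/-- `k ⊗_B Ω[B/R] → k ⊗_A Ω[A/R]`. -/
noncomputable def residueMap : k ⊗[B] Ω[B⁄R] →ₗ[k] k ⊗[A] Ω[A⁄R] :=
  LinearMap.liftBaseChange k
    (((TensorProduct.mk A k Ω[A⁄R] 1).restrictScalars B).comp (KaehlerDifferential.map R R B A))

theorem residueMap_D (b : B) :
    residueMap R B A k (1 ⊗ₜ D R B b) = 1 ⊗ₜ D R A (algebraMap B A b) := by
  simp [residueMap]

theorem residueMap_surjective (hf : Function.Surjective (algebraMap B A)) :
    Function.Surjective (residueMap R B A k) := by
  rw [← LinearMap.range_eq_top, eq_top_iff]
  rintro z -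
  induction z using TensorProduct.induction_on with
  | zero => exact zero_mem _
  | add x y hx hy => exact add_mem hx hy
  | tmul c ω =>
    rw [show c ⊗ₜ[A] ω = c • ((1 : k) ⊗ₜ[A] ω) by rw [smul_tmul', smul_eq_mul, mul_one]]
    refine Submodule.smul_mem _ _ ?_
    have hω : ω ∈ Submodule.span A (Set.range (D R A)) :=
      (KaehlerDifferential.span_range_derivation R A).ge trivial
    induction hω using Submodule.span_induction with
    | mem w hw =>
      obtain ⟨a, rfl⟩ := hw
      obtain ⟨b, rfl⟩ := hf a
      exact ⟨_, residueMap_D R B A k b⟩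
    | zero => rw [tmul_zero]; exact zero_mem _
    | add w w' _ _ hw hw' => rw [tmul_add]; exact add_mem hw hw'
    | smul a w _ hw =>
      rw [show (1 : k) ⊗ₜ[A] (a • w) = algebraMap A k a • ((1 : k) ⊗ₜ[A] w) by
        rw [tmul_smul, algebraMap_smul]]
      exact Submodule.smul_mem _ _ hw

theorem finrank_eq_iff_forall_derivation (hf : Function.Surjective (algebraMap B A))
    [Module.Finite B Ω[B⁄R]] :
    Module.finrank k (k ⊗[B] Ω[B⁄R]) = Module.finrank k (k ⊗[A] Ω[A⁄R]) ↔
      ∀ (d : Derivation R B k) (x : B), algebraMap B A x = 0 → d x = 0 := by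
  have hs := residueMap_surjective R B A k hf
  have : Module.Finite k (k ⊗[A] Ω[A⁄R]) := .of_surjective _ hs
  constructor
  · intro h d x hx
    have hinj : Function.Injective (residueMap R B A k) :=
      (LinearMap.injective_iff_surjective_of_finrank_eq_finrank h).2 hs
    have h0 : (1 : k) ⊗ₜ[B] D R B x = 0 := hinj (by
      rw [residueMap_D, hx, Derivation.map_zero, tmul_zero, map_zero])
    have := congrArg (LinearMap.liftBaseChange k d.liftKaehlerDifferential) h0
    rw [LinearMap.liftBaseChange_tmul, map_zero, one_smul,
      Derivation.liftKaehlerDifferential_comp_D] at this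
    exact this
  · intro h
    refine LinearEquiv.finrank_eq (LinearEquiv.ofBijective (residueMap R B A k) ⟨?_, hs⟩)
    rw [injective_iff_map_eq_zero]
    intro z hz
    refine (Module.forall_dual_apply_eq_zero_iff k z).1 fun l => ?_
    let d : Derivation R B k :=
      ((l.restrictScalars B).comp (TensorProduct.mk B k Ω[B⁄R] 1)).compDer (D R B)
    have hwd : ∀ b b', algebraMap B A b = algebraMap B A b' → d b = d b' := fun b b' hbb =>
      sub_eq_zero.1 ((Derivation.map_sub d b b').symm.trans (h d _ (by rw [map_sub, hbb, sub_self])))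
    choose s hs' using hf
    have hsm : ∀ (b : B) (c : k), b • c = algebraMap B A b • c := fun b c =>
      (IsScalarTower.algebraMap_smul A b c).symm
    let d' : Derivation R A k :=
      Derivation.mk'
        { toFun := fun a => d (s a)
          map_add' := fun a a' => by
            rw [← map_add]
            exact hwd _ _ (by rw [map_add, hs', hs', hs'])
          map_smul' := fun r a => by
            rw [RingHom.id_apply, ← d.map_smul]
            exact hwd _ _ (by rw [Algebra.smul_def r (s a), map_mul, hs', hs',
              ← IsScalarTower.algebraMap_apply, Algebra.smul_def]) }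
        (fun a a' => by
          change d (s (a * a')) = a • d (s a') + a' • d (s a)
          rw [hwd (s (a * a')) (s a * s a') (by rw [map_mul, hs', hs', hs']), Derivation.leibniz,
            hsm, hsm, hs', hs'])
    have hl : ∀ y, l y = LinearMap.liftBaseChange k d'.liftKaehlerDifferential (residueMap R B A k y) := by
      refine LinearMap.congr_fun (f := l) (g := (LinearMap.liftBaseChange k
        d'.liftKaehlerDifferential).comp (residueMap R B A k)) ?_
      ext b
      change d b = LinearMap.liftBaseChange k d'.liftKaehlerDifferential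
        (residueMap R B A k (1 ⊗ₜ D R B b))
      rw [residueMap_D, LinearMap.liftBaseChange_tmul, one_smul,
        Derivation.liftKaehlerDifferential_comp_D]
      exact hwd _ _ (hs' _).symm
    rw [hl z, hz, map_zero]

open CategoryTheory ArtFun

variable {Λ : Type u} {K : Type u} [CommRing Λ] [Field K] [Algebra Λ K]
  [IsNoetherianRing Λ] [Module.Finite Λ K]

/-- A surjection is essential iff every derivation into the residue field kills its kernel. -/
theorem essential_iff_forall_derivation {A B : Art Λ K} (f : B ⟶ A) (hf : Function.Surjective f)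
    [Algebra B.carrier K] [IsScalarTower Λ B.carrier K]
    (hres : ∀ b, algebraMap B.carrier K b = B.res b) :
    (∀ (C : Art Λ K) (g : C ⟶ B), Function.Surjective (g ≫ f) → Function.Surjective g) ↔
      ∀ (d : Derivation Λ B.carrier K) (x : B), f x = 0 → d x = 0 := by
  constructor
  · intro hess d x hx
    by_contra hdx
    have hd : ∀ a b, d (a * b) = B.res a * d b + B.res b * d a := fun a b => by
      rw [Derivation.leibniz, Algebra.smul_def, Algebra.smul_def, hres, hres]
    let φ₀ : B.carrier →ₐ[Λ] DualNumber K :=
      { toFun := fun b => TrivSqZeroExt.inl (B.res b) + TrivSqZeroExt.inr (d b)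
        map_one' := TrivSqZeroExt.ext (by simp) (by simp)
        map_mul' := fun a b => TrivSqZeroExt.ext (by simp) (by
          simp [TrivSqZeroExt.snd_mul, hd, mul_comm])
        map_zero' := TrivSqZeroExt.ext (by simp) (by simp)
        map_add' := fun a b => TrivSqZeroExt.ext (by simp) (by simp)
        commutes' := fun l => TrivSqZeroExt.ext (by
          simp [TrivSqZeroExt.algebraMap_eq_inl']) (by simp [TrivSqZeroExt.algebraMap_eq_inl']) }
    let φ : B ⟶ Art.dual Λ K := Art.homMk φ₀ (AlgHom.ext fun b => by
      change TrivSqZeroExt.fst (φ₀ b) = _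
      simp [φ₀])
    have hfst : ∀ b, TrivSqZeroExt.fst (φ b : DualNumber K) = B.res b := fun b => Art.res_app φ b
    have hsnd : ∀ b, TrivSqZeroExt.snd (φ b : DualNumber K) = d b := fun b => by
      change TrivSqZeroExt.snd (φ₀ b) = _
      simp [φ₀]
    have hx0 : B.res x = 0 := by rw [← Art.res_app f x, hx, map_zero]
    have hdc : ∀ c, d (c * x) = B.res c * d x := fun c => by
      rw [Derivation.leibniz, Algebra.smul_def, Algebra.smul_def, hres, hres, hx0, zero_mul, add_zero]
    have hφs : Function.Surjective φ := fun e => by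
      obtain ⟨b, hb⟩ := B.res_surjective (TrivSqZeroExt.fst (e : DualNumber K))
      obtain ⟨c, hc⟩ := B.res_surjective ((TrivSqZeroExt.snd (e : DualNumber K) - d b) * (d x)⁻¹)
      refine ⟨b + c * x, TrivSqZeroExt.ext ((hfst _).trans ?_) ((hsnd _).trans ?_)⟩
      · rw [map_add, map_mul, hx0, mul_zero, add_zero, hb]
      · rw [map_add, hdc, hc, mul_assoc, inv_mul_cancel₀ hdx, mul_one, add_sub_cancel]
    obtain ⟨C, p₁, p₂, hC⟩ := exists_fibreProd_of_surjective (Art.baseToDual : Art.base Λ K ⟶ _) φ hφs
    have hs : Function.Surjective p₂ := hess C p₂ fun a => by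
      obtain ⟨b, rfl⟩ := hf a
      obtain ⟨c, hc⟩ := B.res_surjective (-(d b * (d x)⁻¹))
      obtain ⟨z, -, hz⟩ := hC.surj (B.res b) (b + c * x) (TrivSqZeroExt.ext (by
        refine Eq.trans ?_ (hfst _).symm
        rw [map_add, map_mul, hx0, mul_zero, add_zero]
        rfl) (by
        refine Eq.trans ?_ (hsnd _).symm
        rw [map_add, hdc, hc, neg_mul, mul_assoc, inv_mul_cancel₀ hdx, mul_one, add_neg_cancel]
        rfl))
      refine ⟨z, ?_⟩
      change f (p₂ z) = f b
      rw [hz, map_add, map_mul, hx, mul_zero, add_zero]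
    obtain ⟨z, hz⟩ := hs x
    refine hdx ?_
    rw [← hsnd, ← hz, ← hC.w_apply z]
    rfl
  · intro h C g hg
    let : Algebra (artCRing B).carrier K := ‹Algebra B.carrier K›
    have : IsScalarTower Λ (artCRing B).carrier K := ‹IsScalarTower Λ B.carrier K›
    refine surjective_of_derivation (artCRing C) (artCRing B) hres g.toAlgHom g.res_comp
      fun D₁ D₂ hD => Derivation.ext fun b => ?_
    change B.carrier at b
    obtain ⟨c, hc⟩ := hg (f b)
    have hk : f (b - g c) = 0 := by rw [map_sub]; exact sub_eq_zero.2 hc.symm
    have h' : D₁ (b - g c) - D₂ (b - g c) = 0 := h (D₁ - D₂) _ hk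
    erw [map_sub, map_sub, hD c, sub_sub_sub_cancel_right, sub_eq_zero] at h'
    exact h'

end Groth.Agent.ArtHull
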