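import Groth.Agent.ArtHull.Completion
import Mathlib.Algebra.Module.SpanRankOperations

/-!
The limit of a surjective system in `Art Λ k` with bounded cotangent spaces is a coefficient ring.
-/

set_option autoImplicit false

universe u v

open CategoryTheory ArtFun

namespace Groth.Agent.ArtHull

variable {Λ : Type u} {k : Type u} [CommRing Λ] [Field k] [Algebra Λ k]

theorem exists_seq (A : ℕ → Art Λ k) (f : ∀ n, A (n + 1) ⟶ A n) (hf : ∀ n, Function.Surjective (f n))
    (N : ℕ) (a : A N) : ∃ s : ∀ n, A n, s N = a ∧ ∀ n, f n (s (n + 1)) = s n := by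
  induction N generalizing A with
  | zero =>
    choose g hg using fun n => hf n
    exact ⟨fun n => Nat.rec (motive := fun n => A n) a (fun n x => g n x) n, rfl, fun n => hg n _⟩
  | succ N ih =>
    obtain ⟨s, hs, hs'⟩ := ih (fun n => A (n + 1)) (fun n => f (n + 1)) (fun n => hf (n + 1)) a
    exact ⟨fun n => Nat.casesOn (motive := fun n => A n) n (f 0 (s 0)) s, hs, fun n => by
      cases n with
      | zero => rfl
      | succ n => exact hs' n⟩

theorem surjective_map_maximalIdeal {B A : Art Λ k} (f : B ⟶ A) (hf : Function.Surjective f) :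
    (IsLocalRing.maximalIdeal B).map f.toAlgHom = IsLocalRing.maximalIdeal A := by
  refine le_antisymm (Ideal.map_le_iff_le_comap.mpr fun b hb => ?_) fun a ha => ?_
  · rw [Ideal.mem_comap, Art.mem_maximalIdeal_iff]
    exact (Art.res_app f b).trans ((Art.mem_maximalIdeal_iff B b).1 hb)
  · obtain ⟨b, rfl⟩ := hf a
    exact Ideal.mem_map_of_mem _ ((Art.mem_maximalIdeal_iff B b).2
      ((Art.res_app f b).symm.trans ((Art.mem_maximalIdeal_iff A _).1 ha)))

/-- A surjection which does not decrease the minimal number of generators has kernel in the square. -/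
theorem ker_le_sq {B A : Art Λ k} (f : B ⟶ A) (hf : Function.Surjective f)
    (hr : (IsLocalRing.maximalIdeal B).spanFinrank ≤ (IsLocalRing.maximalIdeal A).spanFinrank) :
    RingHom.ker f.toAlgHom ≤ IsLocalRing.maximalIdeal B * IsLocalRing.maximalIdeal B := by
  classical
  let mB := IsLocalRing.maximalIdeal B
  obtain ⟨t, ht, htspan⟩ :=
    (IsNoetherian.noetherian mB).exists_span_finset_card_eq_spanFinrank
  intro z hz
  have hzm : z ∈ mB := ker_le_maximalIdeal f hz
  rw [← htspan, Submodule.mem_span_finset] at hzm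
  obtain ⟨c, -, hc⟩ := hzm
  by_cases hall : ∀ y ∈ t, c y ∈ mB
  · rw [← hc]
    exact sum_mem fun y hy => Ideal.mul_mem_mul (hall y hy) (htspan.le (Submodule.subset_span hy))
  obtain ⟨y₀, hy₀, hu⟩ : ∃ y ∈ t, c y ∉ mB := by simpa using hall
  have hu' : IsUnit (c y₀) := not_not.mp fun h => hu ((IsLocalRing.mem_maximalIdeal _).2 h)
  exfalso
  let I : Ideal A := Ideal.span (((t.erase y₀).image fun y => f y : Finset A) : Set A)
  have hle : IsLocalRing.maximalIdeal A ≤ I := by
    rw [← surjective_map_maximalIdeal f hf]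
    change mB.map f.toAlgHom ≤ I
    rw [← htspan]
    change (Ideal.span (t : Set B)).map f.toAlgHom ≤ I
    rw [Ideal.map_span, Ideal.span_le]
    rintro - ⟨y, hy, rfl⟩
    by_cases hy0 : y = y₀
    · subst hy0
      have h1 : f.toAlgHom (c y) * f.toAlgHom y ∈ I := by
        have h2 : ∑ w ∈ t, f.toAlgHom (c w) * f.toAlgHom w = 0 := by
          have := RingHom.mem_ker.mp hz
          rw [← hc, map_sum] at this
          rw [← this]
          exact Finset.sum_congr rfl fun w _ => by rw [smul_eq_mul, map_mul]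
        rw [← Finset.add_sum_erase t _ hy, add_eq_zero_iff_eq_neg] at h2
        rw [h2]
        exact neg_mem (sum_mem fun w hw => I.mul_mem_left _
          (Ideal.subset_span (Finset.mem_coe.2 (Finset.mem_image.2 ⟨w, hw, rfl⟩))))
      exact (Ideal.unit_mul_mem_iff_mem I (hu'.map f.toAlgHom)).mp h1
    · exact Ideal.subset_span (Finset.mem_coe.2
        (Finset.mem_image.2 ⟨y, Finset.mem_erase.2 ⟨hy0, hy⟩, rfl⟩))
  have heq : I = IsLocalRing.maximalIdeal A := le_antisymm (Ideal.span_le.2 fun a ha => by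
    obtain ⟨y, hy, rfl⟩ := Finset.mem_image.1 (Finset.mem_coe.1 ha)
    rw [← surjective_map_maximalIdeal f hf]
    exact Ideal.mem_map_of_mem _ (htspan.le (Submodule.subset_span (Finset.mem_of_mem_erase hy)))) hle
  have h3 : (IsLocalRing.maximalIdeal A).spanFinrank ≤ (t.erase y₀).card := by
    rw [← heq]
    refine (Submodule.spanFinrank_span_le_ncard_of_finite (Finset.finite_toSet _)).trans ?_
    rw [Set.ncard_coe_finset]
    exact Finset.card_image_le
  have h4 : (t.erase y₀).card < t.card := Finset.card_erase_lt_of_mem hy₀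
  have h5 : t.card ≤ (IsLocalRing.maximalIdeal A).spanFinrank := le_of_eq_of_le ht hr
  omega

/-- Generators of the maximal ideal lift along a surjection which does not decrease their minimal
number. -/
theorem span_eq_of_lift {B A : Art Λ k} (f : B ⟶ A) (hf : Function.Surjective f) {r : ℕ}
    (hr : (IsLocalRing.maximalIdeal B).spanFinrank ≤ r)
    (hrA : r ≤ (IsLocalRing.maximalIdeal A).spanFinrank) (x : Fin r → B)
    (hx : Ideal.span (Set.range fun i => f (x i)) = IsLocalRing.maximalIdeal A) :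
    Ideal.span (Set.range x) = IsLocalRing.maximalIdeal B := by
  classical
  let mB := IsLocalRing.maximalIdeal B
  have hxm : ∀ i, x i ∈ mB := fun i => (Art.mem_maximalIdeal_iff B _).2
    ((Art.res_app f _).symm.trans ((Art.mem_maximalIdeal_iff A _).1 (hx ▸ Ideal.subset_span ⟨i, rfl⟩)))
  have hker : RingHom.ker f.toAlgHom ≤ mB * mB := ker_le_sq f hf (hr.trans hrA)
  refine le_antisymm (Ideal.span_le.2 (Set.range_subset_iff.2 hxm)) ?_
  refine Submodule.le_of_le_smul_of_le_jacobson_bot (I := mB) (IsNoetherian.noetherian _)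
    (IsLocalRing.maximalIdeal_le_jacobson ⊥) ?_
  intro b hb
  have hfb : f b ∈ (Ideal.span (Set.range x)).map f.toAlgHom := by
    rw [Ideal.map_span, ← Set.range_comp]
    exact hx.symm ▸ (surjective_map_maximalIdeal f hf ▸ Ideal.mem_map_of_mem _ hb)
  obtain ⟨b', hb', hbb⟩ := (Ideal.mem_map_iff_of_surjective _ hf).1 hfb
  rw [← add_sub_cancel b' b]
  refine add_mem (Submodule.mem_sup_left hb') (Submodule.mem_sup_right ?_)
  rw [smul_eq_mul]
  exact hker (RingHom.mem_ker.mpr (by rw [map_sub, hbb]; exact sub_self _))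

theorem exists_limit_cring [IsNoetherianRing Λ] [Module.Finite Λ k]
    (A : ℕ → Art Λ k) (f : ∀ n, A (n + 1) ⟶ A n) (hf : ∀ n, Function.Surjective (f n))
    (d : ℕ) (hd : ∀ n, Module.finrank (IsLocalRing.ResidueField (A n))
      (IsLocalRing.CotangentSpace (A n)) ≤ d) :
    ∃ (S : CRing Λ k) (π : ∀ n, HomSet S.carrier S.res (A n)),
      (∀ n, HomSet.map (f n) (π (n + 1)) = π n) ∧
      (∀ n, Function.Surjective (π n).1) ∧
      (∀ a : ∀ n, A n, (∀ n, f n (a (n + 1)) = a n) → ∃! s : S.carrier, ∀ n, (π n).1 s = a n) ∧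
      (∀ n, ∃ N, RingHom.ker (π N).1 ≤ IsLocalRing.maximalIdeal S.carrier ^ n) ∧
      (∀ n, ∃ N, IsLocalRing.maximalIdeal S.carrier ^ N ≤ RingHom.ker (π n).1) := by
  let s : ℕ → ℕ := fun n => (IsLocalRing.maximalIdeal (A n)).spanFinrank
  have hs : Monotone s := monotone_nat_of_le_succ fun n => by
    change (IsLocalRing.maximalIdeal (A n)).spanFinrank ≤ _
    rw [← surjective_map_maximalIdeal (f n) (hf n)]
    exact Ideal.spanFinrank_map_le_of_fg _ (IsNoetherian.noetherian _)
  have hsd : ∀ n, s n ≤ d := fun n =>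
    (IsLocalRing.spanFinrank_maximalIdeal_eq_finrank_cotangentSpace (R := A n)).trans_le (hd n)
  obtain ⟨N, hN⟩ : ∃ N, ∀ n, N ≤ n → s n = s N := by
    have hb : BddAbove (Set.range s) := ⟨d, Set.forall_mem_range.2 hsd⟩
    obtain ⟨N, hN⟩ := Nat.sSup_mem (Set.range_nonempty s) hb
    exact ⟨N, fun n hn => le_antisymm (hN.symm ▸ le_csSup hb ⟨n, rfl⟩) (hs hn)⟩
  classical
  obtain ⟨t, ht, htspan⟩ :=
    (IsNoetherian.noetherian (IsLocalRing.maximalIdeal (A N))).exists_span_finset_card_eq_spanFinrank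
  have ht' : t.card = s N := ht
  let x₀ : Fin (s N) → A N := fun i => (t.equivFinOfCardEq ht').symm i
  have hx₀ : Set.range x₀ = (t : Set (A N)) := by
    refine Set.Subset.antisymm (Set.range_subset_iff.2 fun i => ((t.equivFinOfCardEq ht').symm i).2)
      fun y hy => ⟨t.equivFinOfCardEq ht' ⟨y, hy⟩, ?_⟩
    change (((t.equivFinOfCardEq ht').symm (t.equivFinOfCardEq ht' ⟨y, hy⟩)) : A N) = y
    rw [Equiv.symm_apply_apply]
  obtain ⟨q, c, hc⟩ := Submodule.fg_iff_exists_fin_generating_family.1
    (Module.Finite.fg_top (R := Λ) (M := k))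
  choose w hw using fun j => (A 0).res_surjective (c j)
  choose sx hsx hsxf using fun i => exists_seq A f hf N (x₀ i)
  choose sw hsw hswf using fun j => exists_seq A f hf 0 (w j)
  have hres : ∀ (v : ∀ n, A n), (∀ n, f n (v (n + 1)) = v n) → ∀ n, (A n).res (v n) = (A 0).res (v 0) := by
    intro v hv n
    induction n with
    | zero => rfl
    | succ n ih => rw [← Art.res_app (f n), hv, ih]
  have hgen : ∀ n, N ≤ n → Ideal.span (Set.range fun i => sx i n) = IsLocalRing.maximalIdeal (A n) := by
    intro n hn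
    induction n, hn using Nat.le_induction with
    | base =>
      simp only [hsx]
      rw [hx₀]
      exact htspan
    | succ n hn ih =>
      refine span_eq_of_lift (f n) (hf n) (hN (n + 1) (hn.trans (Nat.le_succ n))).le
        (hN n hn).ge _ ?_
      simp only [hsxf]
      exact ih
  let σ := ULift.{u} (Fin q ⊕ Fin (s N))
  let cs : σ → k := fun z => z.down.elim c fun _ => 0
  obtain ⟨C, g, hg, hu⟩ := exists_free_cring (Λ := Λ) cs (eq_top_iff.mpr fun y _ => by
    obtain ⟨l, rfl⟩ := (Submodule.mem_span_range_iff_exists_fun Λ).1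
      (hc.symm ▸ Submodule.mem_top : y ∈ Submodule.span Λ (Set.range c))
    exact Subalgebra.sum_mem _ fun j _ =>
      Subalgebra.smul_mem _ (Algebra.subset_adjoin (Set.mem_range_self (f := cs) (ULift.up (Sum.inl j)))) _)
  let v : ∀ n, σ → A n := fun n z => z.down.elim (fun j => sw j n) fun i => sx i n
  have hv : ∀ n z, (artCRing (A n)).res (v n z) = cs z := by
    rintro n ⟨j | i⟩
    · exact (hres _ (hswf j) n).trans ((congrArg (A 0).res (hsw j)).trans (hw j))
    · refine (hres _ (hsxf i) n).trans ((hres _ (hsxf i) N).symm.trans ?_)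
      rw [hsx i]
      exact (Art.mem_maximalIdeal_iff _ _).1 (htspan ▸ Submodule.subset_span (hx₀.subset ⟨i, rfl⟩))
  choose ψ hψr hψ using fun n => (hu (artCRing (A n)) (v n) (hv n)).exists.imp fun _ h => h
  let φ : ∀ n, HomSet C.carrier C.res (A n) := fun n => ⟨ψ n, (hψr n)⟩
  have hcomp : ∀ n, HomSet.map (f n) (φ (n + 1)) = φ n := fun n => Subtype.ext
    ((hu (artCRing (A n)) (v n) (hv n)).unique
      ⟨(HomSet.map (f n) (φ (n + 1))).2, fun z => by
        change f n (ψ (n + 1) (g z)) = _
        rw [hψ (n + 1) z]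
        obtain ⟨j | i⟩ := z
        · exact hswf j n
        · exact hsxf i n⟩
      ⟨hψr n, hψ n⟩)
  have hsurjN : ∀ n, N ≤ n → Function.Surjective (ψ n) := fun n hn => by
    refine surjective_of_cotangent C (artCRing (A n)) (ψ n) (hψr n) ?_
    refine le_trans ?_ le_sup_left
    change IsLocalRing.maximalIdeal (A n) ≤ _
    rw [← hgen n hn, Ideal.span_le]
    rintro - ⟨i, rfl⟩
    have h1 : ψ n (g (ULift.up (Sum.inr i))) ∈ Ideal.map (ψ n) (IsLocalRing.maximalIdeal C.carrier) :=
      Ideal.mem_map_of_mem (ψ n) ((CRing.mem_maximalIdeal_iff C _).2 (hg (ULift.up (Sum.inr i))))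
    rw [hψ n] at h1
    exact h1
  have hsurj : ∀ n, Function.Surjective (ψ n) := by
    intro n
    by_cases hn : N ≤ n
    · exact hsurjN n hn
    · obtain ⟨j, rfl⟩ := Nat.exists_eq_add_of_le (Nat.le_of_not_le hn)
      clear hn
      have key : ∀ e m, Function.Surjective (ψ (m + e)) → Function.Surjective (ψ m) := by
        intro e
        induction e with
        | zero => exact fun m h => h
        | succ e ih =>
          intro m h
          refine ih m fun a => ?_
          obtain ⟨b, rfl⟩ := hf (m + e) a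
          obtain ⟨c', rfl⟩ := h b
          exact ⟨c', (AlgHom.congr_fun (congrArg Subtype.val (hcomp (m + e))) c').symm⟩
      exact key j n (hsurjN _ le_rfl)
  let K : ℕ → Ideal C.carrier := fun n => RingHom.ker (ψ n)
  have hKanti : Antitone K := antitone_nat_of_succ_le fun n c' hc' => by
    rw [RingHom.mem_ker] at hc' ⊢
    refine (AlgHom.congr_fun (congrArg Subtype.val (hcomp n)) c').symm.trans ?_
    change f n (ψ (n + 1) c') = 0
    rw [hc']
    exact map_zero (f n).toAlgHom
  obtain ⟨S, p, hp, hker, hpr⟩ := exists_quotient_cring C (⨅ n, K n) fun c' hc' => by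
    have h0 : ψ 0 c' = 0 := (iInf_le K 0) hc'
    rw [RingHom.mem_ker, ← show (A 0).res (ψ 0 c') = C.res c' from AlgHom.congr_fun (hψr 0) c', h0]
    exact map_zero _
  have := C.isAdicComplete
  have := S.isAdicComplete
  have hle : ∀ n, RingHom.ker p ≤ RingHom.ker (ψ n) := fun n => hker.le.trans (iInf_le K n)
  let πh : ∀ n, S.carrier →ₐ[Λ] A n := fun n =>
    (Ideal.Quotient.liftₐ (RingHom.ker p) (ψ n) fun a ha => RingHom.mem_ker.mp (hle n ha)).comp
      (Ideal.quotientKerAlgEquivOfSurjective hp).symm.toAlgHom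
  have hπ : ∀ n a, πh n (p a) = ψ n a := fun n a => by
    have : (Ideal.quotientKerAlgEquivOfSurjective hp).symm (p a) = Ideal.Quotient.mk _ a :=
      (Ideal.quotientKerAlgEquivOfSurjective hp).symm_apply_eq.mpr rfl
    exact congrArg (Ideal.Quotient.liftₐ (RingHom.ker p) (ψ n)
      fun a ha => RingHom.mem_ker.mp (hle n ha)) this
  let π : ∀ n, HomSet S.carrier S.res (A n) := fun n => ⟨πh n, AlgHom.ext fun y => by
    obtain ⟨a, rfl⟩ := hp y
    change (A n).res (πh n (p a)) = _
    rw [hπ]
    exact (AlgHom.congr_fun (hψr n) a).trans (AlgHom.congr_fun hpr a).symm⟩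
  have hπc : ∀ n, HomSet.map (f n) (π (n + 1)) = π n := fun n => Subtype.ext (AlgHom.ext fun y => by
    obtain ⟨a, rfl⟩ := hp y
    change f n (πh (n + 1) (p a)) = πh n (p a)
    rw [hπ, hπ]
    exact AlgHom.congr_fun (congrArg Subtype.val (hcomp n)) a)
  have hπs : ∀ n, Function.Surjective (π n).1 := fun n b => by
    obtain ⟨a, rfl⟩ := hsurj n b
    exact ⟨p a, hπ n a⟩
  let L : ℕ → Ideal S.carrier := fun n => RingHom.ker (π n).1
  have hLanti : Antitone L := antitone_nat_of_succ_le fun n y hy => by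
    rw [RingHom.mem_ker] at hy ⊢
    refine (AlgHom.congr_fun (congrArg Subtype.val (hπc n)) y).symm.trans ?_
    change f n ((π (n + 1)).1 y) = 0
    rw [hy]
    exact map_zero (f n).toAlgHom
  have hLbot : (⨅ n, L n) = ⊥ := eq_bot_iff.2 fun y hy => by
    obtain ⟨a, rfl⟩ := hp y
    rw [Ideal.mem_bot, ← RingHom.mem_ker, hker]
    refine Submodule.mem_iInf _ |>.2 fun n => ?_
    rw [RingHom.mem_ker, ← hπ]
    exact RingHom.mem_ker.mp ((Submodule.mem_iInf _).1 hy n)
  have hfine : ∀ n, ∃ M, L M ≤ IsLocalRing.maximalIdeal S.carrier ^ n := fun n => by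
    obtain ⟨M, hM⟩ := chevalley L hLanti (fun q => exists_pow_le_ker (π q)) n
    exact ⟨M, hM.trans (sup_le (by rw [hLbot]; exact bot_le) le_rfl)⟩
  refine ⟨S, π, hπc, hπs, fun a ha => ?_, hfine, fun n => exists_pow_le_ker (π n)⟩
  have hsep : ∀ y y' : S.carrier, (∀ n, (π n).1 y = (π n).1 y') → y = y' := fun y y' h =>
    sub_eq_zero.mp ((Ideal.mem_bot).1 (hLbot ▸ (Submodule.mem_iInf _).2 fun n =>
      RingHom.mem_ker.mpr (by rw [map_sub, h n, sub_self])))
  choose M hM using hfine
  let Q : ℕ → ℕ := fun j => (∑ i ∈ Finset.range (j + 1), M i) + j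
  have hQ : Monotone Q := monotone_nat_of_le_succ fun j => by
    have : ∑ i ∈ Finset.range (j + 1 + 1), M i = ∑ i ∈ Finset.range (j + 1), M i + M (j + 1) :=
      Finset.sum_range_succ _ _
    change (∑ i ∈ Finset.range (j + 1), M i) + j ≤ (∑ i ∈ Finset.range (j + 1 + 1), M i) + (j + 1)
    omega
  choose b hb using fun j => hπs (Q j) (a (Q j))
  have htr : ∀ m n, m ≤ n → ∀ y, (π n).1 y = a n → (π m).1 y = a m := by
    intro m n hmn y
    induction n, hmn using Nat.le_induction with
    | base => exact id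
    | succ n _ ih =>
      intro h
      refine ih ((AlgHom.congr_fun (congrArg Subtype.val (hπc n)) y).symm.trans ?_)
      change f n ((π (n + 1)).1 y) = a n
      rw [h, ha]
  obtain ⟨l, hl⟩ := exists_adic_limit b fun j => hM j (hLanti
    ((Finset.single_le_sum (fun i _ => Nat.zero_le (M i)) (Finset.self_mem_range_succ j)).trans
      (Nat.le_add_right _ j))
    (RingHom.mem_ker.mpr (by rw [map_sub, hb, htr _ _ (hQ (Nat.le_succ j)) _ (hb (j + 1)), sub_self])))
  have hl' : ∀ n, (π n).1 l = a n := fun n => by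
    obtain ⟨e, he⟩ := exists_pow_le_ker (π n)
    have h1 : (π n).1 (b (n + e) - l) = 0 :=
      RingHom.mem_ker.mp (he (Ideal.pow_le_pow_right (Nat.le_add_left e n) (hl (n + e))))
    rw [map_sub, sub_eq_zero] at h1
    rw [← h1]
    exact htr n (Q (n + e)) ((Nat.le_add_right n e).trans (Nat.le_add_left _ _)) _ (hb _)
  exact ⟨l, hl', fun y hy => hsep y l fun n => (hy n).trans (hl' n).symm⟩

end Groth.Agent.ArtHull
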