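import Groth.Agent.ArtHull.HullExist
import Groth.Agent.ArtHull.MinVersal
import Groth.Agent.ArtHull.Tangent
import Mathlib.RingTheory.HopkinsLevitzki
import Mathlib.RingTheory.Length

/-!
Existence of minimal versal families: an idempotent endomorphism obtained from the stable images in the
truncations cuts a versal family down.
-/

set_option autoImplicit false

universe u v

open CategoryTheory ArtFun

namespace Groth.Agent.ArtHull

variable {Λ : Type u} {k : Type u} [CommRing Λ] [Field k] [Algebra Λ k] [IsNoetherianRing Λ]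
  [Module.Finite Λ k]

theorem isArtinian_carrier (A : Art Λ k) : IsArtinian Λ A := by
  let K : Ideal Λ := RingHom.ker (algebraMap Λ A)
  let : Algebra (Λ ⧸ K) A := (RingHom.kerLift (algebraMap Λ A)).toAlgebra
  have : IsScalarTower Λ (Λ ⧸ K) A := IsScalarTower.of_algebraMap_eq fun _ => rfl
  have := finite_carrier_of_finite A
  have : Module.Finite (Λ ⧸ K) A := Module.Finite.of_restrictScalars_finite Λ _ _
  have hinj : Function.Injective (algebraMap (Λ ⧸ K) A) := RingHom.kerLift_injective _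
  have : Ring.KrullDimLE 0 (Λ ⧸ K) := Ring.KrullDimLE.mk₀ fun P hP => by
    obtain ⟨Q, -, hQ, hQP⟩ := Ideal.exists_ideal_over_prime_of_isIntegral P (⊥ : Ideal A) (by
      rw [← RingHom.ker_eq_comap_bot, (RingHom.injective_iff_ker_eq_bot _).mp hinj]
      exact bot_le)
    have := hQ
    have : Q.IsMaximal := IsArtinianRing.isMaximal_of_isPrime Q
    rw [← hQP]
    exact Ideal.isMaximal_comap_of_isIntegral_of_isMaximal Q
  have : IsArtinianRing (Λ ⧸ K) := isArtinianRing_iff_krullDimLE_zero.mpr this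
  exact isArtinian_of_surjective_algebraMap (R := Λ ⧸ K) (M := A) (S := Λ) Ideal.Quotient.mk_surjective

theorem lt_add_of_pos_left_of_ne_top {a b : ℕ∞} (ha : a ≠ ⊤) (hb : 0 < b) : a < b + a := by
  simpa [add_comm] using (ENat.add_lt_add_iff_left (k := a) ha).mpr hb

theorem length_lt_of_surjective {A B : Art Λ k} (f : B ⟶ A) (hf : Function.Surjective f)
    (hinj : ¬ Function.Injective f) : Module.length Λ A < Module.length Λ B := by
  have := finite_carrier_of_finite A
  have := finite_carrier_of_finite B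
  have := isArtinian_carrier A
  have := isArtinian_carrier B
  let g : B →ₗ[Λ] A := f.toAlgHom.toLinearMap
  have : Nontrivial (LinearMap.ker g) := (Submodule.nontrivial_iff_ne_bot).mpr
    fun h => hinj (LinearMap.ker_eq_bot.mp h)
  rw [Module.length_eq_add_of_exact (LinearMap.ker g).subtype g (Submodule.subtype_injective _) hf
    (LinearMap.exact_subtype_ker_map g)]
  exact lt_add_of_pos_left_of_ne_top (Module.length_ne_top (R := Λ) (M := A)) (Module.length_pos (R := Λ) (M := LinearMap.ker g))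

/-- The iterates of an endomorphism. -/
noncomputable def pw {A : Art Λ k} (H : A ⟶ A) : ℕ → (A ⟶ A)
  | 0 => 𝟙 A
  | j + 1 => pw H j ≫ H

omit [IsNoetherianRing Λ] [Module.Finite Λ k] in
theorem pw_apply {A : Art Λ k} (H : A ⟶ A) (j : ℕ) (a : A) :
    pw H j a = ((H.toAlgHom.toLinearMap : Module.End Λ A) ^ j) a := by
  induction j with
  | zero => rfl
  | succ j ih =>
    rw [pow_succ', Module.End.mul_apply, ← ih]
    rfl

/-- The stable idempotent of an endomorphism. -/
theorem exists_stable {A : Art Λ k} (H : A ⟶ A) : ∃ (N : ℕ) (E : A ⟶ A), pw H N ≫ E = pw H N ∧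
    (∀ x y, E x = y ↔ (∀ᶠ j in Filter.atTop, (∃ z, pw H j z = y) ∧ pw H j y = pw H j x)) := by
  have := finite_carrier_of_finite A
  have := isArtinian_carrier A
  let L : Module.End Λ A := H.toAlgHom.toLinearMap
  obtain ⟨N₀, hN₀⟩ := Filter.eventually_atTop.mp L.eventually_isCompl_ker_pow_range_pow
  obtain ⟨N₁, hN₁⟩ := monotone_stabilizes_iff_noetherian.mpr inferInstance L.iterateKer
  let N := max N₀ N₁
  have hN : ∀ j, N ≤ j → IsCompl (LinearMap.ker (L ^ j)) (LinearMap.range (L ^ j)) :=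
    fun j hj => hN₀ j ((le_max_left _ _).trans hj)
  have hker : ∀ j, N ≤ j → LinearMap.ker (L ^ j) = LinearMap.ker (L ^ N) := fun j hj =>
    ((hN₁ j ((le_max_right _ _).trans hj)).symm.trans (hN₁ N (le_max_right _ _)))
  let P : A → A → Prop := fun x y => ∀ᶠ j in Filter.atTop, (∃ z, pw H j z = y) ∧ pw H j y = pw H j x
  have huniq : ∀ x y y', P x y → P x y' → y = y' := by
    intro x y y' h h'
    obtain ⟨j, ⟨⟨⟨z, hz⟩, hy⟩, ⟨z', hz'⟩, hy'⟩, hj⟩ :=
      ((h.and h').and (Filter.eventually_ge_atTop N)).exists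
    refine sub_eq_zero.mp (Submodule.disjoint_def.mp (hN j hj).disjoint _ ?_ ?_)
    · rw [LinearMap.mem_ker, map_sub, ← pw_apply, ← pw_apply, hy, hy', sub_self]
    · refine ⟨z - z', ?_⟩
      rw [map_sub, ← pw_apply, ← pw_apply, hz, hz']
  have hrange : ∀ j, N ≤ j → ∀ z, ∃ c, (L ^ j) c = (L ^ N) z := by
    intro j hj z
    obtain ⟨a, ha, b, ⟨c, rfl⟩, hab⟩ := Submodule.mem_sup.1
      ((hN j hj).sup_eq_top ▸ Submodule.mem_top : z ∈ LinearMap.ker (L ^ j) ⊔ LinearMap.range (L ^ j))
    rw [hker j hj, LinearMap.mem_ker] at ha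
    refine ⟨(L ^ N) c, ?_⟩
    rw [← hab, map_add, ha, zero_add, ← Module.End.mul_apply, ← Module.End.mul_apply, ← pow_add,
      ← pow_add, add_comm]
  have hex : ∀ x, ∃ y, P x y := by
    intro x
    obtain ⟨a, ha, b, ⟨c, rfl⟩, hab⟩ := Submodule.mem_sup.1
      ((hN N le_rfl).sup_eq_top ▸ Submodule.mem_top : x ∈ LinearMap.ker (L ^ N) ⊔ LinearMap.range (L ^ N))
    refine ⟨(L ^ N) c, Filter.eventually_atTop.mpr ⟨N, fun j hj => ⟨?_, ?_⟩⟩⟩
    · obtain ⟨c', hc'⟩ := hrange j hj c
      exact ⟨c', (pw_apply H j c').trans hc'⟩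
    · rw [pw_apply, pw_apply]
      conv_rhs => rw [← hab]
      rw [map_add, show (L ^ j) a = 0 from LinearMap.mem_ker.mp ((hker j hj).symm ▸ ha), zero_add]
  choose e he using hex
  have hmem : ∀ {x y}, P x y → e x = y := fun h => huniq _ _ _ (he _) h
  have halg : ∀ x y, P x (e x) → P y (e y) → P (x + y) (e x + e y) ∧ P (x * y) (e x * e y) :=
    fun x y hx hy => by
      constructor
      · filter_upwards [hx, hy] with j ⟨⟨z, hz⟩, h1⟩ ⟨⟨z', hz'⟩, h2⟩
        exact ⟨⟨z + z', (map_add (pw H j).toAlgHom z z').trans (congrArg₂ (· + ·) hz hz')⟩,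
          (map_add (pw H j).toAlgHom _ _).trans
            ((congrArg₂ (· + ·) h1 h2).trans (map_add (pw H j).toAlgHom x y).symm)⟩
      · filter_upwards [hx, hy] with j ⟨⟨z, hz⟩, h1⟩ ⟨⟨z', hz'⟩, h2⟩
        exact ⟨⟨z * z', (map_mul (pw H j).toAlgHom z z').trans (congrArg₂ (· * ·) hz hz')⟩,
          (map_mul (pw H j).toAlgHom _ _).trans
            ((congrArg₂ (· * ·) h1 h2).trans (map_mul (pw H j).toAlgHom x y).symm)⟩
  have hconst : ∀ l, e (algebraMap Λ A l) = algebraMap Λ A l := fun l => hmem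
    (Filter.Eventually.of_forall fun j => ⟨⟨_, (pw H j).toAlgHom.commutes l⟩, rfl⟩)
  let e' : A →ₐ[Λ] A :=
    { toFun := e
      map_one' := by
        have := hconst 1
        rwa [map_one] at this
      map_mul' := fun x y => hmem (halg x y (he x) (he y)).2
      map_zero' := by
        have := hconst 0
        rwa [map_zero] at this
      map_add' := fun x y => hmem (halg x y (he x) (he y)).1
      commutes' := hconst }
  let E : A ⟶ A := Art.homMk e' (AlgHom.ext fun x => by
    obtain ⟨j, -, hj⟩ := (he x).exists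
    have := congrArg A.res hj
    rwa [Art.res_app, Art.res_app] at this)
  refine ⟨N, E, Art.hom_ext (AlgHom.ext fun x => ?_), fun x y => ⟨fun h => h ▸ he x, hmem⟩⟩
  refine hmem (x := pw H N x) (y := pw H N x) (Filter.eventually_atTop.mpr ⟨N, fun j hj => ⟨?_, rfl⟩⟩)
  obtain ⟨c', hc'⟩ := hrange j hj x
  exact ⟨c', (pw_apply H j c').trans (hc'.trans (pw_apply H N x).symm)⟩

omit [IsNoetherianRing Λ] [Module.Finite Λ k] in
theorem pw_comm {A B : Art Λ k} (t : B ⟶ A) (H : A ⟶ A) (H' : B ⟶ B) (h : H' ≫ t = t ≫ H) (j : ℕ)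
    (x : B) : t (pw H' j x) = pw H j (t x) := by
  induction j with
  | zero => rfl
  | succ j ih =>
    change (H' ≫ t) (pw H' j x) = H (pw H j (t x))
    rw [h, ← ih]
    rfl

/-- A versal pair which is not minimal has a retract of smaller first truncation. -/
theorem exists_smaller {F : Art Λ k ⥤ Type v} (h0 : H0 F) (V : VersalPair F)
    (hV : ¬ V.family.IsMinimalVersal) :
    ∃ V' : VersalPair F,
      Module.length Λ (V'.ring.trunc 1) < Module.length Λ (V.ring.trunc 1) := by
  obtain ⟨R, ξ, hξ⟩ := V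
  simp only [Family.IsMinimalVersal, not_and, not_forall] at hV
  obtain ⟨R', u, f, hf, hu, hns⟩ := hV hξ
  obtain ⟨η, rfl⟩ := (toFormalElt_bijective R' F).2 u
  obtain ⟨a, ha, hae⟩ := exists_along_of_h0 hξ h0 η
  let h : R.carrier →ₐ[Λ] R.carrier := f.comp a
  have hh : R.res.comp h = R.res := by rw [← AlgHom.comp_assoc, hf, ha]
  have hhs : ¬ Function.Surjective h := fun hs => hns fun y =>
    let ⟨x, hx⟩ := hs y
    ⟨a x, hx⟩
  let H : ∀ n, R.trunc n ⟶ R.trunc n := fun n => CRing.truncMapOfHom h hh n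
  have hfix : ∀ n, F.map (H n) (ξ.toFormalElt.elt n) = ξ.toFormalElt.elt n := fun n => by
    have h1 : ξ.toFormalElt.push h hh = ξ.toFormalElt := by
      rw [push_eq_along]
      refine Eq.trans ?_ hu
      change _ = η.toFormalElt.push f hf
      rw [push_eq_along, ← hae]
      rfl
    exact congrArg (fun w => w.elt n) h1
  choose N E hNE hE using fun n => exists_stable (H n)
  have hcompat : ∀ n x, R.truncMap n (E (n + 1) x) = E n (R.truncMap n x) := fun n x => by
    refine ((hE n _ _).mpr ?_).symm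
    have hc := pw_comm (R.truncMap n) (H n) (H (n + 1)) (CRing.truncMapOfHom_truncMap h hh n)
    filter_upwards [(hE (n + 1) x _).mp rfl] with j ⟨⟨z, hz⟩, h1⟩
    exact ⟨⟨R.truncMap n z, (hc j z).symm.trans (congrArg _ hz)⟩,
      (hc j _).symm.trans ((congrArg _ h1).trans (hc j x))⟩
  have hEfix : ∀ n, F.map (E n) (ξ.toFormalElt.elt n) = ξ.toFormalElt.elt n := fun n => by
    have hp : ∀ j, F.map (pw (H n) j) (ξ.toFormalElt.elt n) = ξ.toFormalElt.elt n := fun j => by
      induction j with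
      | zero => exact map_id_elt F _
      | succ j ih => rw [pw, ← map_map_apply, ih, hfix]
    conv_lhs => rw [← hp (N n)]
    rw [map_map_apply, hNE, hp]
  obtain ⟨ε, hε, hεn⟩ := exists_limit_hom R (fun n => HomSet.map (E n) (R.truncHom n)) fun n =>
    Subtype.ext (AlgHom.ext fun x => hcompat n _)
  have hidem : ∀ n x, E n (E n x) = E n x := fun n x => (hE n _ _).mpr <| by
    filter_upwards [(hE n x _).mp rfl] with j hj
    exact ⟨hj.1, rfl⟩
  have hεε : ε.comp ε = ε := hom_ext_trunc _ _ fun n => AlgHom.ext fun x => by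
    have h1 : ∀ y, (R.truncHom n).1 (ε y) = E n ((R.truncHom n).1 y) := fun y => AlgHom.congr_fun (hεn n) y
    change (R.truncHom n).1 (ε (ε x)) = (R.truncHom n).1 (ε x)
    rw [h1, h1, hidem]
  have hεξ : ξ.along ε hε = ξ := toFormalElt_injective _ _ fun n => by
    rw [app_along_trunc ξ ε hε n (HomSet.map (E n) (R.truncHom n)) (hεn n), ξ.natural]
    exact hEfix n
  obtain ⟨R'', r, hr, hker, hrr⟩ := exists_quotient_cring R (RingHom.ker ε) fun x hx => by
    rw [RingHom.mem_ker, ← AlgHom.congr_fun hε x]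
    change R.res (ε x) = 0
    rw [RingHom.mem_ker.mp hx, map_zero]
  let ι : R''.carrier →ₐ[Λ] R.carrier := AlgHom.liftOfSurjective r hr ε fun x hx => hker.le hx
  have hιr : ι.comp r = ε := AlgHom.liftOfSurjective_comp ..
  have hι : R.res.comp ι = R''.res := AlgHom.ext fun y => by
    obtain ⟨x, rfl⟩ := hr y
    exact (congrArg R.res (AlgHom.congr_fun hιr x)).trans
      ((AlgHom.congr_fun hε x).trans (AlgHom.congr_fun hrr x).symm)
  have hrι : ∀ y, r (ι y) = y := fun y => by
    obtain ⟨x, rfl⟩ := hr y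
    rw [show ι (r x) = ε x from AlgHom.congr_fun hιr x, ← sub_eq_zero, ← map_sub, ← RingHom.mem_ker,
      hker, RingHom.mem_ker, map_sub, show ε (ε x) = ε x from AlgHom.congr_fun hεε x, sub_self]
  let ξ'' := ξ.along r hrr
  have hξ'' : IsVersal ξ'' := by
    intro B A μ hμ φ y hy
    obtain ⟨ψ, hψ₁, hψ₂⟩ := hξ μ hμ ⟨φ.1.comp r, by rw [← AlgHom.comp_assoc, φ.2, hrr]⟩ y hy
    refine ⟨⟨ψ.1.comp ι, by rw [← AlgHom.comp_assoc, ψ.2, hι]⟩,
      Subtype.ext (AlgHom.ext fun x => ?_), ?_⟩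
    · refine (AlgHom.congr_fun (congrArg Subtype.val hψ₁) (ι x)).trans ?_
      exact congrArg φ.1 (hrι x)
    · refine Eq.trans ?_ hψ₂
      conv_rhs => rw [← hεξ]
      exact congrArg (ξ.app B) (Subtype.ext (by
        change (ψ.1.comp ι).comp r = ψ.1.comp ε
        rw [AlgHom.comp_assoc, hιr]))
  refine ⟨⟨R'', ξ'', hξ''⟩, length_lt_of_surjective (CRing.truncMapOfHom r hrr 1) (fun y => ?_) fun hinj => ?_⟩
  · obtain ⟨z, rfl⟩ := Ideal.Quotient.mk_surjective y
    obtain ⟨x, rfl⟩ := hr z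
    exact ⟨Ideal.Quotient.mk _ x, rfl⟩
  have hE1 : ∀ x, E 1 x = x := fun x => by
    obtain ⟨x, rfl⟩ := Ideal.Quotient.mk_surjective x
    refine (AlgHom.congr_fun (hεn 1) x).symm.trans (hinj ?_)
    change Ideal.Quotient.mk (R''.mpow 1) (r (ε x)) = Ideal.Quotient.mk (R''.mpow 1) (r x)
    rw [← AlgHom.congr_fun hιr x]
    exact congrArg _ (hrι _)
  refine hhs (surjective_of_cotangent R R h hh fun y hy => ?_)
  obtain ⟨j, ⟨⟨z, hz⟩, -⟩, hj⟩ :=
    (((hE 1 _ _).mp (hE1 (Ideal.Quotient.mk (R.mpow 1) y))).and (Filter.eventually_ge_atTop 1)).exists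
  obtain ⟨i, rfl⟩ := Nat.exists_eq_add_of_le' hj
  obtain ⟨x, hx⟩ := Ideal.Quotient.mk_surjective (pw (H 1) i z)
  have h1 : Ideal.Quotient.mk (R.mpow 1) (h x) = Ideal.Quotient.mk (R.mpow 1) y := by
    rw [← hz]
    exact congrArg (H 1) hx
  have hres : R.res x = 0 := by
    rw [← show R.res (h x) = R.res x from AlgHom.congr_fun hh x]
    have h2 := R.mpow_le 1 (Ideal.Quotient.eq.mp h1)
    rw [CRing.mem_maximalIdeal_iff, map_sub, (CRing.mem_maximalIdeal_iff R y).1 hy, sub_zero] at h2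
    exact h2
  rw [← add_sub_cancel (h x) y]
  refine add_mem (Submodule.mem_sup_left
    (Ideal.mem_map_of_mem _ ((CRing.mem_maximalIdeal_iff R x).2 hres))) (Submodule.mem_sup_right ?_)
  have := neg_mem (Ideal.Quotient.eq.mp h1)
  rwa [neg_sub] at this

/-- Minimal versal families exist. -/
theorem exists_minimalVersal {F : Art Λ k ⥤ Type v} (h0 : H0 F) (hF : HasVersal F) :
    ∃ V : VersalPair F, V.family.IsMinimalVersal := by
  obtain ⟨V₀⟩ := hF
  obtain ⟨V, -, hmin⟩ := (InvImage.wf (fun V : VersalPair F => Module.length Λ (V.ring.trunc 1))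
    (wellFounded_lt (α := ℕ∞))).has_min Set.univ ⟨V₀, trivial⟩
  refine ⟨V, ?_⟩
  by_contra hne
  obtain ⟨V', hV'⟩ := exists_smaller h0 V hne
  exact hmin V' trivial hV'

end Groth.Agent.ArtHull
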