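import Groth.Agent.ArtHull.PSRing

/-!
Smooth morphisms of coefficient rings are power series extensions; versal families are power series
extensions of minimal versal ones.
-/

set_option autoImplicit false

universe u v

open CategoryTheory ArtFun

namespace Groth.Agent.ArtHull

variable {Λ : Type u} {k : Type u} [CommRing Λ] [Field k] [Algebra Λ k]

theorem psC_isVersal (R : CRing Λ k) (n : ℕ) :
    IsVersal ((Family.self R.carrier R.res).along (psC R n) (res_psC R n)) := by
  intro B A μ hμ φ y hy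
  have hy' : ∀ r, μ (y.1 r) = φ.1 (psC R n r) := AlgHom.congr_fun (congrArg Subtype.val hy)
  choose b hb using fun i => hμ (φ.1 (psX R n i))
  have hb0 : ∀ i, (artCRing B).res (b i) = 0 := fun i => by
    change B.res (b i) = 0
    rw [← Art.res_app μ, hb]
    exact (AlgHom.congr_fun φ.2 _).trans (res_psX R n i)
  obtain ⟨ψ, ⟨hψ, hψC, hψX⟩, -⟩ := ps_eval R (artCRing B) n y.1 y.2 b hb0
  refine ⟨⟨ψ, hψ⟩, Subtype.ext ?_, Subtype.ext hψC⟩
  obtain ⟨h', -, huniq⟩ := ps_eval R (artCRing A) n (φ.1.comp (psC R n))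
    ((AlgHom.comp_assoc A.res φ.1 (psC R n)).symm.trans ((congrArg (·.comp (psC R n)) φ.2).trans (res_psC R n)))
    (fun i => φ.1 (psX R n i)) fun i => (AlgHom.congr_fun φ.2 _).trans (res_psX R n i)
  refine (huniq _ ⟨(HomSet.map μ ⟨ψ, hψ⟩).2, AlgHom.ext fun r => ?_, fun i => ?_⟩).trans
    (huniq φ.1 ⟨φ.2, rfl, fun i => rfl⟩).symm
  · exact (congrArg μ.toAlgHom (AlgHom.congr_fun hψC r)).trans (hy' r)
  · exact (congrArg μ.toAlgHom (hψX i)).trans (hb i)

theorem isVersal_along_of_equiv {R S P : CRing Λ k} (a : R.carrier →ₐ[Λ] P.carrier) (ha : P.res.comp a = R.res)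
    (hv : IsVersal ((Family.self R.carrier R.res).along a ha)) (e : P.carrier ≃ₐ[Λ] S.carrier)
    (he : S.res.comp e.toAlgHom = P.res) (b : R.carrier →ₐ[Λ] S.carrier) (hb : S.res.comp b = R.res)
    (hab : e.toAlgHom.comp a = b) : IsVersal ((Family.self R.carrier R.res).along b hb) := by
  intro B A μ hμ φ y hy
  obtain ⟨ψ, hψ₁, hψ₂⟩ := hv μ hμ ⟨φ.1.comp e.toAlgHom, by rw [← AlgHom.comp_assoc, φ.2, he]⟩ y (by
    refine hy.trans (Subtype.ext ?_)
    change φ.1.comp b = (φ.1.comp e.toAlgHom).comp a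
    rw [AlgHom.comp_assoc, hab])
  refine ⟨⟨ψ.1.comp e.symm.toAlgHom, ?_⟩, Subtype.ext (AlgHom.ext fun x => ?_),
    Subtype.ext (AlgHom.ext fun r => ?_)⟩
  · rw [← AlgHom.comp_assoc, ψ.2, ← he]
    exact AlgHom.ext fun x => congrArg S.res (e.apply_symm_apply x)
  · exact (AlgHom.congr_fun (congrArg Subtype.val hψ₁) (e.symm x)).trans
      (congrArg φ.1 (e.apply_symm_apply x))
  · refine Eq.trans ?_ (AlgHom.congr_fun (congrArg Subtype.val hψ₂) r)
    change ψ.1 (e.symm (b r)) = ψ.1 (a r)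
    rw [← hab]
    exact congrArg ψ.1 (e.symm_apply_apply (a r))

variable [IsNoetherianRing Λ] [Module.Finite Λ k]

set_option backward.isDefEq.respectTransparency false in
theorem powerSeries_of_versal (R S : CRing Λ k) (a : R.carrier →ₐ[Λ] S.carrier) (ha : S.res.comp a = R.res)
    (hv : IsVersal ((Family.self R.carrier R.res).along a ha)) :
    ∃ (n : ℕ) (e : (psRing R n).carrier ≃ₐ[Λ] S.carrier),
      S.res.comp e.toAlgHom = (psRing R n).res ∧ e.toAlgHom.comp (psC R n) = a := by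
  classical
  let m₁ : ∀ C : CRing Λ k, Ideal (C.trunc 1) := fun C => IsLocalRing.maximalIdeal (C.trunc 1)
  let L : ∀ (C : CRing Λ k) (b : R.carrier →ₐ[Λ] C.carrier), Ideal (C.trunc 1) := fun C b =>
    ((IsLocalRing.maximalIdeal R.carrier).map b).map (C.truncHom 1).1
  have hL : ∀ (C : CRing Λ k) (b : R.carrier →ₐ[Λ] C.carrier), C.res.comp b = R.res → L C b ≤ m₁ C := by
    intro C b hb
    refine Ideal.map_le_iff_le_comap.2 (Ideal.map_le_iff_le_comap.2 fun r hr => ?_)
    rw [Ideal.mem_comap, Ideal.mem_comap, Art.mem_maximalIdeal_iff]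
    exact (AlgHom.congr_fun (C.truncHom 1).2 _).trans ((AlgHom.congr_fun hb r).trans
      ((CRing.mem_maximalIdeal_iff R r).1 hr))
  let QS : Art Λ k := Art.quot (S.trunc 1) (L S a) (hL S a ha)
  let qS : HomSet S.carrier S.res QS := HomSet.map (Art.quotMk _ _ (hL S a ha)) (S.truncHom 1)
  have hqS : Function.Surjective qS.1 :=
    (Art.quotMk_surjective _ _ (hL S a ha)).comp Ideal.Quotient.mk_surjective
  let n := (IsLocalRing.maximalIdeal QS).spanFinrank
  obtain ⟨t, ht, htspan⟩ :=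
    (IsNoetherian.noetherian (IsLocalRing.maximalIdeal QS)).exists_span_finset_card_eq_spanFinrank
  choose x hx using fun i : Fin n => hqS ((t.equivFinOfCardEq ht).symm i : QS)
  have hx0 : ∀ i, S.res (x i) = 0 := fun i => by
    rw [← AlgHom.congr_fun qS.2 (x i)]
    change QS.res (qS.1 (x i)) = 0
    rw [hx]
    exact (Art.mem_maximalIdeal_iff QS _).1 (htspan.le (Submodule.subset_span ((t.equivFinOfCardEq ht).symm i).2))
  obtain ⟨ψ, ⟨hψ, hψC, hψX⟩, -⟩ := ps_eval R S n a ha x hx0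
  let P := psRing R n
  let mR := IsLocalRing.maximalIdeal R.carrier
  have hPC : P.res.comp (psC R n) = R.res := res_psC R n
  let QP : Art Λ k := Art.quot (P.trunc 1) (L P (psC R n)) (hL P _ hPC)
  let qP : HomSet P.carrier P.res QP := HomSet.map (Art.quotMk _ _ (hL P _ hPC)) (P.truncHom 1)
  have hqP : Function.Surjective qP.1 :=
    (Art.quotMk_surjective _ _ (hL P _ hPC)).comp Ideal.Quotient.mk_surjective
  have hker : ∀ (C : CRing Λ k) (b : R.carrier →ₐ[Λ] C.carrier) (hb : C.res.comp b = R.res) (y : C.carrier),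
      (HomSet.map (Art.quotMk _ _ (hL C b hb)) (C.truncHom 1)).1 y = 0 ↔
        y ∈ mR.map b ⊔ IsLocalRing.maximalIdeal C.carrier ^ 2 := by
    intro C b hb y
    change Ideal.Quotient.mk (L C b) ((C.truncHom 1).1 y) = 0 ↔ _
    rw [Ideal.Quotient.eq_zero_iff_mem]
    change (C.truncHom 1).1 y ∈ (mR.map b).map (C.truncHom 1).1 ↔ _
    rw [← Ideal.mem_comap]
    change y ∈ ((mR.map b).map (Ideal.Quotient.mk (C.mpow 1))).comap (Ideal.Quotient.mk (C.mpow 1)) ↔ _
    rw [Ideal.comap_map_of_surjective _ Ideal.Quotient.mk_surjective, ← RingHom.ker_eq_comap_bot,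
      Ideal.mk_ker]
  have hpsX : ∀ i, qP.1 (psX R n i) ∈ IsLocalRing.maximalIdeal QP := fun i => by
    rw [Art.mem_maximalIdeal_iff]
    exact (AlgHom.congr_fun qP.2 _).trans (res_psX R n i)
  have hspanP : IsLocalRing.maximalIdeal QP = Ideal.span (Set.range fun i => qP.1 (psX R n i)) := by
    refine le_antisymm (fun y hy => ?_) (Ideal.span_le.2 (Set.range_subset_iff.2 hpsX))
    obtain ⟨p, rfl⟩ := hqP y
    have hp : p ∈ IsLocalRing.maximalIdeal P.carrier := (CRing.mem_maximalIdeal_iff P p).2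
      ((AlgHom.congr_fun qP.2 p).symm.trans ((Art.mem_maximalIdeal_iff QP _).1 hy))
    rw [maximalIdeal_psRing] at hp
    obtain ⟨u, hu, w, hw, rfl⟩ := Submodule.mem_sup.1 hp
    rw [map_add, show qP.1 u = 0 from (hker P _ hPC u).2 (Submodule.mem_sup_left hu), zero_add]
    have := Ideal.mem_map_of_mem qP.1 hw
    rwa [Ideal.map_span, ← Set.range_comp] at this
  have hle : (L P (psC R n)).map (CRing.truncMapOfHom ψ hψ 1).toAlgHom ≤ L S a := by
    refine Ideal.map_le_iff_le_comap.2 (Ideal.map_le_iff_le_comap.2 (Ideal.map_le_iff_le_comap.2 fun r hr => ?_))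
    simp only [Ideal.mem_comap]
    change (S.truncHom 1).1 (ψ (psC R n r)) ∈ L S a
    rw [show ψ (psC R n r) = a r from AlgHom.congr_fun hψC r]
    exact Ideal.mem_map_of_mem _ (Ideal.mem_map_of_mem _ hr)
  let π : QP ⟶ QS := Art.quotFactor (hL P _ hPC) (CRing.truncMapOfHom ψ hψ 1 ≫ Art.quotMk _ _ (hL S a ha))
    fun y hy => Ideal.Quotient.eq_zero_iff_mem.2 (hle (Ideal.mem_map_of_mem _ hy))
  have hπ : ∀ p, π (qP.1 p) = qS.1 (ψ p) := fun p => rfl
  have hmQS : IsLocalRing.maximalIdeal QS = Ideal.span (Set.range fun i => qS.1 (x i)) := by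
    rw [← htspan]
    refine congrArg Ideal.span (Set.Subset.antisymm (fun y hy => ⟨t.equivFinOfCardEq ht ⟨y, hy⟩, ?_⟩) ?_)
    · change qS.1 (x _) = y
      rw [hx, Equiv.symm_apply_apply]
    · rintro - ⟨i, rfl⟩
      change qS.1 (x i) ∈ (t : Set QS)
      rw [hx]
      exact ((t.equivFinOfCardEq ht).symm i).2
  have hψs : Function.Surjective ψ := by
    refine surjective_of_cotangent P S ψ hψ fun y hy => ?_
    have h1 : qS.1 y ∈ IsLocalRing.maximalIdeal QS := (Art.mem_maximalIdeal_iff QS _).2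
      ((AlgHom.congr_fun qS.2 y).trans ((CRing.mem_maximalIdeal_iff S y).1 hy))
    rw [hmQS] at h1
    have h2 : qS.1 y ∈ (Ideal.span (Set.range x)).map qS.1 := by
      rwa [Ideal.map_span, ← Set.range_comp]
    obtain ⟨z, hz, hzy⟩ := (Ideal.mem_map_iff_of_surjective qS.1 hqS).1 h2
    have h3 := (hker S a ha (y - z)).1 (by
      change qS.1 (y - z) = 0
      rw [map_sub, hzy, sub_self])
    rw [← add_sub_cancel z y]
    refine add_mem (Submodule.mem_sup_left ?_) ((sup_le_sup_right ?_ _ : mR.map a ⊔ _ ≤ _) h3)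
    · refine (Ideal.span_le.2 ?_) hz
      rintro - ⟨i, rfl⟩
      rw [← hψX i]
      exact Ideal.mem_map_of_mem _ ((CRing.mem_maximalIdeal_iff P _).2 (res_psX R n i))
    · rw [← hψC]
      refine Ideal.map_le_iff_le_comap.2 fun r hr => ?_
      exact Ideal.mem_map_of_mem ψ ((CRing.mem_maximalIdeal_iff P _).2
        ((AlgHom.congr_fun hPC r).trans ((CRing.mem_maximalIdeal_iff R r).1 hr)))
  have hπs : Function.Surjective π := fun y => by
    obtain ⟨s, rfl⟩ := hqS y
    obtain ⟨p, rfl⟩ := hψs s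
    exact ⟨qP.1 p, hπ p⟩
  have hsq : IsLocalRing.maximalIdeal QP * IsLocalRing.maximalIdeal QP = ⊥ := by
    rw [eq_bot_iff, Ideal.mul_le]
    intro y hy z hz
    obtain ⟨p, rfl⟩ := hqP y
    obtain ⟨q, rfl⟩ := hqP z
    rw [Ideal.mem_bot, ← map_mul]
    refine (hker P _ hPC _).2 (Submodule.mem_sup_right ?_)
    rw [pow_two]
    exact Ideal.mul_mem_mul
      ((CRing.mem_maximalIdeal_iff P p).2 ((AlgHom.congr_fun qP.2 p).symm.trans ((Art.mem_maximalIdeal_iff QP _).1 hy)))
      ((CRing.mem_maximalIdeal_iff P q).2 ((AlgHom.congr_fun qP.2 q).symm.trans ((Art.mem_maximalIdeal_iff QP _).1 hz)))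
  have hπi : Function.Injective π := by
    refine (injective_iff_map_eq_zero π.toAlgHom).2 fun y hy => ?_
    have hn : (IsLocalRing.maximalIdeal QP).spanFinrank ≤ n := by
      rw [hspanP]
      refine (Submodule.spanFinrank_span_le_ncard_of_finite (Set.finite_range _)).trans ?_
      rw [← Nat.card_coe_set_eq]
      exact (Finite.card_range_le _).trans (Nat.card_fin n).le
    have := ker_le_sq π hπs hn (RingHom.mem_ker.2 hy)
    rwa [hsq, Ideal.mem_bot] at this
  obtain ⟨θ, -, hθ⟩ := exists_inv_of_bijective π ⟨hπi, hπs⟩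
  have hθψ : ∀ p, θ (qS.1 (ψ p)) = qP.1 p := fun p => hπi (by
    rw [hπ]
    exact congrArg (fun g : QS ⟶ QS => g (qS.1 (ψ p))) hθ)
  let f : Family S.carrier S.res (hR R.carrier R.res) := (Family.self R.carrier R.res).along a ha
  let cst : ∀ j, HomSet R.carrier R.res (P.trunc j) := fun j =>
    ⟨(P.truncHom j).1.comp (psC R n), by rw [← AlgHom.comp_assoc, (P.truncHom j).2, hPC]⟩
  obtain ⟨σ₁, hσ₁, hσ₁a⟩ := hv (Art.quotMk _ _ (hL P _ hPC)) (Art.quotMk_surjective _ _ _)
    (HomSet.map θ qS) (cst 1) (Subtype.ext (AlgHom.ext fun r => by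
      refine Eq.trans ?_ (congrArg (fun s => θ (qS.1 s)) (AlgHom.congr_fun hψC r))
      exact (hθψ (psC R n r)).symm))
  have hstep : ∀ j (σ : HomSet S.carrier S.res (P.trunc j)), f.app _ σ = cst j →
      ∃ σ' : HomSet S.carrier S.res (P.trunc (j + 1)),
        HomSet.map (P.truncMap j) σ' = σ ∧ f.app _ σ' = cst (j + 1) := fun j σ hσ =>
    hv (P.truncMap j) (truncMap_surjective P j) σ (cst (j + 1)) (Eq.trans rfl hσ.symm)
  choose next hn₁ hn₂ using hstep
  let s : ∀ j, {σ : HomSet S.carrier S.res (P.trunc (j + 1)) // f.app _ σ = cst (j + 1)} := fun j =>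
    Nat.rec (motive := fun j => {σ : HomSet S.carrier S.res (P.trunc (j + 1)) // f.app _ σ = cst (j + 1)})
      ⟨σ₁, hσ₁a⟩ (fun j q => ⟨next (j + 1) q.1 q.2, hn₂ (j + 1) q.1 q.2⟩) j
  obtain ⟨g, hg, hgn⟩ := exists_limit_hom P (fun j => HomSet.map (P.truncMap j) (s j).1)
    fun j => congrArg _ (hn₁ (j + 1) (s j).1 (s j).2)
  have hga : g.comp a = psC R n := hom_ext_trunc _ _ fun j => AlgHom.ext fun r => by
    refine (AlgHom.congr_fun (hgn j) (a r)).trans ?_
    exact (congrArg (P.truncMap j).toAlgHom (AlgHom.congr_fun (congrArg Subtype.val (s j).2) r)).trans rfl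
  have hfix : ∀ i, qP.1 (g (ψ (psX R n i))) = qP.1 (psX R n i) := fun i => by
    rw [hψX]
    have h1 : (P.truncHom 1).1 (g (x i)) = σ₁.1 (x i) :=
      (AlgHom.congr_fun (hgn 1) (x i)).trans
        (AlgHom.congr_fun (congrArg Subtype.val (hn₁ 1 σ₁ hσ₁a)) (x i))
    refine (congrArg (Art.quotMk _ _ (hL P _ hPC)).toAlgHom h1).trans ?_
    refine (AlgHom.congr_fun (congrArg Subtype.val hσ₁) (x i)).trans ?_
    exact (congrArg (fun s => θ (qS.1 s)) (hψX i)).symm.trans (hθψ _)
  have hgψ : P.res.comp (g.comp ψ) = P.res := by rw [← AlgHom.comp_assoc, hg, hψ]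
  have hbij : Function.Bijective (g.comp ψ) := by
    refine bijective_of_cotangent P _ hgψ ?_
    have hR' : mR.map (psC R n) ≤ (IsLocalRing.maximalIdeal P.carrier).map (g.comp ψ) := by
      refine Ideal.map_le_iff_le_comap.2 fun r hr => ?_
      rw [Ideal.mem_comap, show psC R n r = (g.comp ψ) (psC R n r) from by
        rw [AlgHom.comp_apply, show ψ (psC R n r) = a r from AlgHom.congr_fun hψC r]
        exact (AlgHom.congr_fun hga r).symm]
      exact Ideal.mem_map_of_mem _ ((CRing.mem_maximalIdeal_iff P _).2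
        ((AlgHom.congr_fun hPC r).trans ((CRing.mem_maximalIdeal_iff R r).1 hr)))
    conv_lhs => rw [maximalIdeal_psRing]
    refine sup_le (hR'.trans le_sup_left) (Ideal.span_le.2 ?_)
    rintro - ⟨i, rfl⟩
    have h2 := (hker P _ hPC (psX R n i - g (ψ (psX R n i)))).1 (by
      change qP.1 (psX R n i - g (ψ (psX R n i))) = 0
      rw [map_sub, hfix, sub_self])
    rw [← add_sub_cancel (g (ψ (psX R n i))) (psX R n i)]
    exact add_mem (Submodule.mem_sup_left (Ideal.mem_map_of_mem (g.comp ψ)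
      ((CRing.mem_maximalIdeal_iff P _).2 (res_psX R n i)))) ((sup_le_sup_right hR' _) h2)
  exact ⟨n, AlgEquiv.ofBijective ψ ⟨fun u w h => hbij.1 (congrArg g h), hψs⟩, hψ, hψC⟩

theorem isVersal_iff_powerSeries (R S : CRing Λ k) [Algebra R.carrier S.carrier]
    [IsScalarTower Λ R.carrier S.carrier]
    (hRS : S.res.comp (IsScalarTower.toAlgHom Λ R.carrier S.carrier) = R.res) :
    IsVersal ((Family.self R.carrier R.res).along (IsScalarTower.toAlgHom Λ R.carrier S.carrier) hRS) ↔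
      ∃ n : ℕ, Nonempty (S.carrier ≃ₐ[R.carrier] MvPowerSeries (Fin n) R.carrier) := by
  constructor
  · intro h
    obtain ⟨n, e, -, hea⟩ := powerSeries_of_versal R S _ hRS h
    refine ⟨n, ⟨AlgEquiv.ofRingEquiv (f := e.symm.toRingEquiv) fun r => ?_⟩⟩
    change e.symm (algebraMap R.carrier S.carrier r) = psC R n r
    rw [e.symm_apply_eq]
    exact (AlgHom.congr_fun hea r).symm
  · rintro ⟨n, ⟨e⟩⟩
    let e' : (psRing R n).carrier ≃ₐ[Λ] S.carrier := (e.restrictScalars Λ).symm
    have he' : S.res.comp e'.toAlgHom = (psRing R n).res := by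
      refine AlgHom.ext fun p => ?_
      obtain ⟨a, ha⟩ := R.res_surjective ((psRing R n).res p)
      have hp : p - psC R n a ∈ IsLocalRing.maximalIdeal (psRing R n).carrier := by
        rw [CRing.mem_maximalIdeal_iff, map_sub, show (psRing R n).res (psC R n a) = R.res a from
          AlgHom.congr_fun (res_psC R n) a, ha, sub_self]
      have h2 : e' (p - psC R n a) ∈ IsLocalRing.maximalIdeal S.carrier := by
        rw [IsLocalRing.mem_maximalIdeal] at hp ⊢
        exact fun hu => hp ((isUnit_map_iff e' _).1 hu)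
      rw [CRing.mem_maximalIdeal_iff, map_sub, map_sub, sub_eq_zero] at h2
      refine h2.trans ?_
      rw [← ha, show e' (psC R n a) = algebraMap R.carrier S.carrier a from e.symm.commutes a]
      exact AlgHom.congr_fun hRS a
    exact isVersal_along_of_equiv (psC R n) (res_psC R n) (psC_isVersal R n) e' he' _ hRS
      (AlgHom.ext fun a => e.symm.commutes a)

theorem isSmooth_hR_iff_powerSeries [IsLocalRing Λ] [IsAdicComplete (IsLocalRing.maximalIdeal Λ) Λ]
    (hk : Function.Surjective (algebraMap Λ k)) (R : CRing Λ k) :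
    IsSmoothFunctor (hR R.carrier R.res) ↔ ∃ n : ℕ, Nonempty (R.carrier ≃ₐ[Λ] MvPowerSeries (Fin n) Λ) := by
  let R₀ : CRing Λ k :=
    { carrier := Λ
      res := Algebra.ofId Λ k
      res_surjective := hk
      isAdicComplete := inferInstance }
  letI : Algebra R₀.carrier R.carrier := R.algebra
  haveI : IsScalarTower Λ R₀.carrier R.carrier := IsScalarTower.of_algebraMap_eq fun _ => rfl
  have hext : ∀ (X : Type u) [CommRing X] [Algebra Λ X] (f g : R₀.carrier →ₐ[Λ] X), f = g := fun X _ _ f g =>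
    AlgHom.ext fun l => (f.commutes l).trans (g.commutes l).symm
  have hRS : R.res.comp (IsScalarTower.toAlgHom Λ R₀.carrier R.carrier) = R₀.res := hext k _ _
  have h := isVersal_iff_powerSeries R₀ R hRS
  refine Iff.trans ⟨fun hs B A μ hμ φ y _ => ?_, fun hv B A μ hμ φ => ?_⟩ h
  · obtain ⟨ψ, hψ⟩ := hs μ hμ φ
    exact ⟨ψ, hψ, Subtype.ext (hext B _ _)⟩
  · obtain ⟨ψ, hψ, -⟩ := hv μ hμ φ
      ⟨IsScalarTower.toAlgHom Λ R₀.carrier B, hext k _ _⟩ (Subtype.ext (hext A _ _))
    exact ⟨ψ, hψ⟩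

end Groth.Agent.ArtHull
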