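import Groth.Agent.ArtHull.MinExist
import Groth.Agent.ArtHull.Limit
import Groth.Agent.MvPSLib.Eval
import Groth.Agent.CAlgCompl.Basic

/-!
Power series rings over coefficient rings.
-/

set_option autoImplicit false

universe u v

open CategoryTheory ArtFun

namespace Groth.Agent.ArtHull

variable {Λ : Type u} {k : Type u} [CommRing Λ] [Field k] [Algebra Λ k]

theorem isAdicComplete_of_ringEquiv {B R : Type u} [CommRing B] [CommRing R] (e : B ≃+* R) (I : Ideal B)
    [h : IsAdicComplete (I.map e) R] : IsAdicComplete I B := by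
  have key : ∀ (n : ℕ) (x : B), x ∈ (I ^ n • ⊤ : Submodule B B) ↔
      e x ∈ ((I.map e) ^ n • ⊤ : Submodule R R) := fun n x => by
    rw [smul_eq_mul, Ideal.mul_top, smul_eq_mul, Ideal.mul_top, ← Ideal.map_pow,
      Ideal.mem_map_iff_of_surjective e e.surjective]
    exact ⟨fun hx => ⟨x, hx, rfl⟩, fun ⟨y, hy, hye⟩ => e.injective hye ▸ hy⟩
  exact
    { haus' := fun x hx => e.injective ((h.haus' (e x) fun n => by
        rw [SModEq.zero, ← key]
        exact SModEq.zero.mp (hx n)).trans (map_zero e).symm)
      prec' := fun f hf => by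
        obtain ⟨L, hL⟩ := h.prec' (fun n => e (f n)) fun {m n} hmn => by
          rw [SModEq.sub_mem, ← map_sub, ← key]
          exact SModEq.sub_mem.mp (hf hmn)
        exact ⟨e.symm L, fun n => by
          rw [SModEq.sub_mem, key, map_sub, e.apply_symm_apply]
          exact SModEq.sub_mem.mp (hL n)⟩ }

open FSAdic in
theorem maximalIdeal_mvPowerSeries_eq (R : CRing Λ k) (n : ℕ) :
    IsLocalRing.maximalIdeal (MvPowerSeries (Fin n) R.carrier) =
      (IsLocalRing.maximalIdeal R.carrier).map (algebraMap R.carrier (MvPowerSeries (Fin n) R.carrier)) ⊔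
        Ideal.span (Set.range fun i => (MvPowerSeries.X i : MvPowerSeries (Fin n) R.carrier)) := by
  refine le_antisymm (fun p hp => ?_) (sup_le ?_ ?_)
  · rw [IsLocalRing.mem_maximalIdeal, mem_nonunits_iff, MvPowerSeries.isUnit_iff_constantCoeff] at hp
    rw [← add_sub_cancel (MvPowerSeries.C (MvPowerSeries.constantCoeff p)) p]
    refine add_mem (Submodule.mem_sup_left (Ideal.mem_map_of_mem _
      ((IsLocalRing.mem_maximalIdeal _).2 hp))) (Submodule.mem_sup_right ?_)
    rw [← augIdeal_eq_span, RingHom.mem_ker, map_sub, MvPowerSeries.constantCoeff_C, sub_self]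
  · refine Ideal.map_le_iff_le_comap.2 fun a ha => ?_
    rw [Ideal.mem_comap, IsLocalRing.mem_maximalIdeal, mem_nonunits_iff,
      MvPowerSeries.isUnit_iff_constantCoeff,
      show algebraMap R.carrier (MvPowerSeries (Fin n) R.carrier) a = MvPowerSeries.C a from rfl,
      MvPowerSeries.constantCoeff_C]
    exact (IsLocalRing.mem_maximalIdeal _).1 ha
  · rw [← augIdeal_eq_span]
    intro p hp
    rw [IsLocalRing.mem_maximalIdeal, mem_nonunits_iff, MvPowerSeries.isUnit_iff_constantCoeff,
      show MvPowerSeries.constantCoeff p = 0 from hp]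
    exact not_isUnit_zero

/-- The power series ring over a coefficient ring. -/
noncomputable def psRing (R : CRing Λ k) (n : ℕ) : CRing Λ k where
  carrier := MvPowerSeries (Fin n) R.carrier
  res :=
    { R.res.toRingHom.comp MvPowerSeries.constantCoeff with
      commutes' := fun l => by
        change R.res (MvPowerSeries.constantCoeff (algebraMap Λ (MvPowerSeries (Fin n) R.carrier) l)) = _
        rw [MvPowerSeries.algebraMap_apply, MvPowerSeries.constantCoeff_C]
        exact R.res.commutes l }
  res_surjective := fun c => by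
    obtain ⟨a, ha⟩ := R.res_surjective c
    exact ⟨MvPowerSeries.C a, (congrArg R.res (MvPowerSeries.constantCoeff_C a)).trans ha⟩
  isAdicComplete := by
    let A := MvPowerSeries (Fin n) R.carrier
    let I : Ideal A := FSAdic.augIdeal R.carrier n
    let e : (A ⧸ I) ≃+* R.carrier := RingHom.quotientKerEquivOfSurjective
      (f := (MvPowerSeries.constantCoeff : A →+* R.carrier))
      fun a => ⟨MvPowerSeries.C a, MvPowerSeries.constantCoeff_C a⟩
    have := R.isAdicComplete
    have hm : (((IsLocalRing.maximalIdeal A).map (Ideal.Quotient.mk I)).map e) =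
        IsLocalRing.maximalIdeal R.carrier := by
      change Ideal.map (e : (A ⧸ I) →+* R.carrier) _ = _
      rw [Ideal.map_map]
      exact IsLocalRing.map_maximalIdeal_of_surjective _
        fun a => ⟨MvPowerSeries.C a, MvPowerSeries.constantCoeff_C a⟩
    have : IsAdicComplete (((IsLocalRing.maximalIdeal A).map (Ideal.Quotient.mk I)).map e) R.carrier :=
      hm.symm ▸ R.isAdicComplete
    have := isAdicComplete_of_ringEquiv e ((IsLocalRing.maximalIdeal A).map (Ideal.Quotient.mk I))
    exact CAlgCompl.isAdicComplete_of_quotient I (IsLocalRing.maximalIdeal A)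

/-- The inclusion of constants. -/
noncomputable def psC (R : CRing Λ k) (n : ℕ) : R.carrier →ₐ[Λ] (psRing R n).carrier :=
  IsScalarTower.toAlgHom Λ R.carrier (MvPowerSeries (Fin n) R.carrier)

/-- The variables. -/
noncomputable def psX (R : CRing Λ k) (n : ℕ) (i : Fin n) : (psRing R n).carrier :=
  (MvPowerSeries.X i : MvPowerSeries (Fin n) R.carrier)

theorem res_psC (R : CRing Λ k) (n : ℕ) : (psRing R n).res.comp (psC R n) = R.res :=
  AlgHom.ext fun a => by
    change R.res (MvPowerSeries.constantCoeff (MvPowerSeries.C a : MvPowerSeries (Fin n) R.carrier)) = _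
    rw [MvPowerSeries.constantCoeff_C]

theorem res_psX (R : CRing Λ k) (n : ℕ) (i : Fin n) : (psRing R n).res (psX R n i) = 0 :=
  (congrArg R.res (MvPowerSeries.constantCoeff_X i)).trans (map_zero _)

theorem maximalIdeal_psRing (R : CRing Λ k) (n : ℕ) :
    IsLocalRing.maximalIdeal (psRing R n).carrier =
      (IsLocalRing.maximalIdeal R.carrier).map (psC R n) ⊔ Ideal.span (Set.range (psX R n)) :=
  maximalIdeal_mvPowerSeries_eq R n

/-- Evaluation of power series in a coefficient ring. -/
theorem ps_eval (R S : CRing Λ k) (n : ℕ) (f : R.carrier →ₐ[Λ] S.carrier) (hf : S.res.comp f = R.res)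
    (z : Fin n → S.carrier) (hz : ∀ i, S.res (z i) = 0) :
    ∃! h : (psRing R n).carrier →ₐ[Λ] S.carrier,
      S.res.comp h = (psRing R n).res ∧ h.comp (psC R n) = f ∧ ∀ i, h (psX R n i) = z i := by
  let : Algebra R.carrier S.carrier := f.toRingHom.toAlgebra
  have : IsScalarTower Λ R.carrier S.carrier := IsScalarTower.of_algebraMap_eq fun l => (f.commutes l).symm
  have := S.isAdicComplete
  obtain ⟨ψ, hψ⟩ := MvPSLib.exists_algHom (A := R.carrier) (IsLocalRing.maximalIdeal S.carrier) z
    fun i => (CRing.mem_maximalIdeal_iff S _).2 (hz i)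
  have huniq : ∀ q q' : (psRing R n).carrier →ₐ[Λ] S.carrier, (∀ a, q (psC R n a) = q' (psC R n a)) →
      (∀ i, q (psX R n i) = q' (psX R n i)) → (∀ i, S.res (q (psX R n i)) = 0) → q = q' := by
    intro q q' hC hX hq0
    let F : ∀ (N : ℕ) (g : (psRing R n).carrier →ₐ[Λ] S.carrier), (∀ a, g (psC R n a) = q (psC R n a)) →
        MvPowerSeries (Fin n) R.carrier →+* S.carrier ⧸ IsLocalRing.maximalIdeal S.carrier ^ N :=
      fun N g _ => (Ideal.Quotient.mk _).comp (g : (psRing R n).carrier →+* S.carrier)
    refine AlgHom.ext fun p => sub_eq_zero.mp (S.isAdicComplete.toIsHausdorff.haus _ fun N => ?_)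
    rw [SModEq.zero, smul_eq_mul, Ideal.mul_top]
    let p' : MvPowerSeries (Fin n) R.carrier := p
    have hp := FSAdic.sub_truncTotal_mem N p'
    have hkill : ∀ g : (psRing R n).carrier →ₐ[Λ] S.carrier, (∀ i, S.res (g (psX R n i)) = 0) →
        ∀ x : MvPowerSeries (Fin n) R.carrier, x ∈ FSAdic.augIdeal R.carrier n ^ N →
          g x ∈ IsLocalRing.maximalIdeal S.carrier ^ N := fun g hg x hx => by
      have h1 : (FSAdic.augIdeal R.carrier n).map
          ((g : (psRing R n).carrier →+* S.carrier) : MvPowerSeries (Fin n) R.carrier →+* S.carrier) ≤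
          IsLocalRing.maximalIdeal S.carrier := by
        rw [FSAdic.augIdeal_eq_span, Ideal.map_span, Ideal.span_le]
        rintro - ⟨-, ⟨i, rfl⟩, rfl⟩
        exact (CRing.mem_maximalIdeal_iff S _).2 (hg i)
      refine Ideal.pow_right_mono h1 N ?_
      rw [← Ideal.map_pow]
      exact Ideal.mem_map_of_mem _ hx
    let P : MvPolynomial (Fin n) R.carrier := MvPowerSeries.truncTotal N p'
    have heq : q (P : MvPowerSeries (Fin n) R.carrier) = q' (P : MvPowerSeries (Fin n) R.carrier) := by
      have : ((q : (psRing R n).carrier →+* S.carrier) :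
          MvPowerSeries (Fin n) R.carrier →+* S.carrier).comp MvPolynomial.coeToMvPowerSeries.ringHom =
          ((q' : (psRing R n).carrier →+* S.carrier) :
          MvPowerSeries (Fin n) R.carrier →+* S.carrier).comp MvPolynomial.coeToMvPowerSeries.ringHom :=
        MvPolynomial.ringHom_ext
          (fun a => ((congrArg q (MvPolynomial.coe_C (σ := Fin n) a)).trans (hC a)).trans
            (congrArg q' (MvPolynomial.coe_C (σ := Fin n) a)).symm)
          fun i => ((congrArg q (MvPolynomial.coe_X i)).trans (hX i)).trans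
            (congrArg q' (MvPolynomial.coe_X i)).symm
      exact congrArg (fun r => r P) this
    have h1 := hkill q hq0 _ hp
    have h2 := hkill q' (fun i => hX i ▸ hq0 i) _ hp
    rw [show q p - q' p = q (p' - (P : MvPowerSeries (Fin n) R.carrier)) -
      q' (p' - (P : MvPowerSeries (Fin n) R.carrier)) by
        erw [map_sub q, map_sub q']
        rw [heq, sub_sub_sub_cancel_right]]
    exact sub_mem h1 h2
  let h : (psRing R n).carrier →ₐ[Λ] S.carrier := ψ.restrictScalars Λ
  have hhC : h.comp (psC R n) = f := AlgHom.ext fun a => ψ.commutes a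
  have hhX : ∀ i, h (psX R n i) = z i := hψ
  refine ⟨h, ⟨AlgHom.ext fun p => ?_, hhC, hhX⟩, fun h' hh' => huniq h' h (fun a => ?_) (fun i => ?_)
    fun i => (congrArg S.res (hh'.2.2 i)).trans (hz i)⟩
  · obtain ⟨a, ha⟩ : ∃ a : R.carrier, a = MvPowerSeries.constantCoeff (p : MvPowerSeries (Fin n) R.carrier) :=
      ⟨_, rfl⟩
    have hp : (p - psC R n a) ∈ Ideal.span (Set.range (psX R n)) := by
      change _ ∈ Ideal.span (Set.range fun i => (MvPowerSeries.X i : MvPowerSeries (Fin n) R.carrier))
      rw [← FSAdic.augIdeal_eq_span, RingHom.mem_ker, ha]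
      change MvPowerSeries.constantCoeff (HSub.hSub (α := MvPowerSeries (Fin n) R.carrier)
        (β := MvPowerSeries (Fin n) R.carrier) p
        (MvPowerSeries.C (MvPowerSeries.constantCoeff (p : MvPowerSeries (Fin n) R.carrier)))) = 0
      rw [map_sub, MvPowerSeries.constantCoeff_C, sub_self]
    have h3 : h (p - psC R n a) ∈ IsLocalRing.maximalIdeal S.carrier := by
      refine Ideal.mem_comap.1 ((Ideal.map_le_iff_le_comap (f := h) (K := IsLocalRing.maximalIdeal S.carrier)).1 ?_ hp)
      rw [Ideal.map_span, Ideal.span_le]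
      rintro - ⟨-, ⟨i, rfl⟩, rfl⟩
      rw [SetLike.mem_coe, CRing.mem_maximalIdeal_iff, hhX]
      exact hz i
    rw [CRing.mem_maximalIdeal_iff, map_sub, map_sub, sub_eq_zero] at h3
    refine h3.trans ?_
    rw [show h (psC R n a) = f a from AlgHom.congr_fun hhC a]
    exact (AlgHom.congr_fun hf a).trans (by rw [ha]; rfl)
  · exact (AlgHom.congr_fun hh'.2.1 a).trans (AlgHom.congr_fun hhC a).symm
  · exact (hh'.2.2 i).trans (hhX i).symm

/-- An endomorphism of a coefficient ring which is surjective on cotangent spaces is bijective. -/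
theorem bijective_of_cotangent (R : CRing Λ k) (e : R.carrier →ₐ[Λ] R.carrier) (he : R.res.comp e = R.res)
    (h : IsLocalRing.maximalIdeal R.carrier ≤
      Ideal.map e (IsLocalRing.maximalIdeal R.carrier) ⊔ IsLocalRing.maximalIdeal R.carrier ^ 2) :
    Function.Bijective e :=
  have hs := surjective_of_cotangent R R e he h
  ⟨injective_of_surjective_endo e.toRingHom hs, hs⟩

end Groth.Agent.ArtHull
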