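import Groth.Agent.ArtHull.Versal
import Groth.Agent.MvPSLib.Eval

/-!
A formally smooth family, bijective on tangent spaces, is miniversal as soon as a hull exists.
-/

set_option autoImplicit false

universe u v

open CategoryTheory ArtFun

namespace Groth.Agent.ArtHull

variable {Λ : Type u} {k : Type u} [CommRing Λ] [Field k] [Algebra Λ k] {F : Art Λ k ⥤ Type v}

theorem isMiniversal_of_hull_of_powerSeries (hk : Function.Surjective (algebraMap Λ k))
    (H : Hull F) (R : CRing Λ k) (n : ℕ) (e : R.carrier ≃ₐ[Λ] MvPowerSeries (Fin n) Λ)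
    (ξ : Family R.carrier R.res F) (hξ : Function.Bijective (ξ.app (Art.dual Λ k))) :
    IsMiniversal ξ := by
  have h0 : H0 F := by
    refine ⟨⟨H.family.app _ ⟨H.ring.res, AlgHom.id_comp _⟩⟩, ⟨fun y y' => ?_⟩⟩
    have key : ∀ y : F.obj (Art.base Λ k), y = H.family.app _ ⟨H.ring.res, AlgHom.id_comp _⟩ := by
      intro y
      obtain ⟨φ, hφ⟩ := H.miniversal.2.2 (F.map Art.baseToDual y)
      have hy : y = F.map (Art.toBase (Art.dual Λ k)) (F.map Art.baseToDual y) := by
        rw [← Functor.map_comp_apply, Art.eq_toBase (Art.baseToDual ≫ _), ← Art.eq_toBase (𝟙 _),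
          F.map_id]
        rfl
      rw [hy, ← hφ, ← H.family.natural]
      exact congrArg _ (Subtype.ext φ.2)
    exact (key y).trans (key y').symm
  obtain ⟨f, hf, hfa⟩ := exists_along_of_h0 H.miniversal.1 h0 ξ
  have hcomp : ∀ (A : Art Λ k) (φ : HomSet R.carrier R.res A),
      ξ.app A φ = H.family.app A ⟨φ.1.comp f, by rw [← AlgHom.comp_assoc, φ.2, hf]⟩ := fun A φ =>
    (congrArg (fun η : Family R.carrier R.res F => η.app A φ) hfa).symm
  have hfs : Function.Surjective f := surjective_of_tangent_injective f hf fun φ φ' h => hξ.1 (by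
    rw [hcomp, hcomp]
    exact congrArg _ (Subtype.ext h))
  let x : Fin n → R.carrier := fun i => e.symm (MvPowerSeries.X i)
  have hx : ∀ i, R.res (x i) = 0 := fun i => by
    rw [← CRing.mem_maximalIdeal_iff, IsLocalRing.mem_maximalIdeal]
    intro hu
    have h1 := (hu.map e).map (MvPowerSeries.constantCoeff (σ := Fin n) (R := Λ))
    rw [show e (x i) = MvPowerSeries.X i from e.apply_symm_apply _, MvPowerSeries.constantCoeff_X] at h1
    obtain ⟨l, hl⟩ := hk 1
    have : (algebraMap Λ k) 0 = 0 := map_zero _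
    exact not_isUnit_zero ((this ▸ h1.map (algebraMap Λ k) : IsUnit (0 : k)))
  choose y hy using fun i => hfs (x i)
  have := H.ring.isAdicComplete
  obtain ⟨g₀, hg₀⟩ := MvPSLib.exists_algHom (A := Λ) (IsLocalRing.maximalIdeal H.ring.carrier) y
    fun i => (CRing.mem_maximalIdeal_iff H.ring (y i)).2 (by
      rw [← hx i, ← hy i]
      exact (AlgHom.congr_fun hf (y i)).symm)
  let g : R.carrier →ₐ[Λ] H.ring.carrier := g₀.comp e.toAlgHom
  have hg : H.ring.res.comp g = R.res := res_unique hk _ _
  have hgx : ∀ i, f (g (x i)) = x i := fun i => by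
    change f (g₀ (e (e.symm _))) = _
    rw [e.apply_symm_apply, hg₀, hy]
  have hinj : ∀ φ φ' : HomSet R.carrier R.res (Art.dual Λ k),
      (∀ i, φ.1 (x i) = φ'.1 (x i)) → φ = φ' := by
    intro φ φ' h
    have hfst : ∀ (ψ : HomSet R.carrier R.res (Art.dual Λ k)) a,
        TrivSqZeroExt.fst (ψ.1 a : DualNumber k) = R.res a := fun ψ a => AlgHom.congr_fun ψ.2 a
    have key : ∀ p ∈ FSAdic.augIdeal Λ n, φ.1 (e.symm p) = φ'.1 (e.symm p) ∧ R.res (e.symm p) = 0 := by
      intro p hp
      rw [FSAdic.augIdeal_eq_span] at hp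
      induction hp using Submodule.span_induction with
      | mem p hp =>
        obtain ⟨i, rfl⟩ := hp
        exact ⟨h i, hx i⟩
      | zero => exact ⟨by rw [map_zero, map_zero, map_zero], by rw [map_zero, map_zero]⟩
      | add p q _ _ hp hq =>
        exact ⟨by rw [map_add, map_add, map_add, hp.1, hq.1], by rw [map_add, map_add, hp.2, hq.2, add_zero]⟩
      | smul b p _ hp =>
        refine ⟨?_, by rw [smul_eq_mul, map_mul, map_mul, hp.2, mul_zero]⟩
        rw [smul_eq_mul, map_mul, map_mul, map_mul, hp.1]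
        have hm : ∀ u u' v : DualNumber k, u.fst = u'.fst → v.fst = 0 → u * v = u' * v := by
          intro u u' v h hv
          refine TrivSqZeroExt.ext (by rw [TrivSqZeroExt.fst_mul, TrivSqZeroExt.fst_mul, h]) ?_
          rw [TrivSqZeroExt.snd_mul, TrivSqZeroExt.snd_mul, h, hv]
          simp
        exact hm _ _ _ ((hfst φ _).trans (hfst φ' _).symm) ((hfst φ' _).trans hp.2)
    refine Subtype.ext (AlgHom.ext fun r => ?_)
    obtain ⟨p, rfl⟩ := e.symm.surjective r
    have hp : p = algebraMap Λ _ (MvPowerSeries.constantCoeff p) +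
        (p - algebraMap Λ _ (MvPowerSeries.constantCoeff p)) := (add_sub_cancel _ _).symm
    have hpm : p - algebraMap Λ (MvPowerSeries (Fin n) Λ) (MvPowerSeries.constantCoeff p) ∈
        FSAdic.augIdeal Λ n := by
      change MvPowerSeries.constantCoeff _ = 0
      rw [map_sub, sub_eq_zero]
      exact (MvPowerSeries.constantCoeff_C _).symm
    rw [hp, map_add, map_add, map_add, AlgEquiv.commutes, AlgHom.commutes, AlgHom.commutes,
      (key _ hpm).1]
  have hh : Function.Bijective (f.comp g) := by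
    have hs : Function.Surjective (f.comp g) := by
      refine surjective_of_tangent_injective (S := R) (R := R) _ (by rw [← AlgHom.comp_assoc, hf, hg]) ?_
      intro φ φ' h
      refine hinj φ φ' fun i => ?_
      rw [← hgx i]
      exact AlgHom.congr_fun h (x i)
    exact ⟨injective_of_surjective_endo (f.comp g).toRingHom hs, hs⟩
  have hgs : Function.Surjective g := by
    refine surjective_of_tangent_injective g hg fun ψ ψ' h => ?_
    obtain ⟨φ, hφ⟩ := hξ.2 (H.family.app _ ψ)
    obtain ⟨φ', hφ'⟩ := hξ.2 (H.family.app _ ψ')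
    have e1 := congrArg Subtype.val (H.miniversal.2.1 ((hcomp _ φ).symm.trans hφ))
    have e2 := congrArg Subtype.val (H.miniversal.2.1 ((hcomp _ φ').symm.trans hφ'))
    have : φ = φ' := hinj φ φ' fun i => by
      rw [← hgx i]
      exact (AlgHom.congr_fun e1 (g (x i))).trans
        ((AlgHom.congr_fun h (x i)).trans (AlgHom.congr_fun e2 (g (x i))).symm)
    exact Subtype.ext (e1.symm.trans ((congrArg (fun φ : HomSet R.carrier R.res _ => φ.1.comp f) this).trans e2))
  have hfinj : Function.Injective f := by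
    intro a b hab
    obtain ⟨a, rfl⟩ := hgs a
    obtain ⟨b, rfl⟩ := hgs b
    exact congrArg g (hh.1 hab)
  let E := AlgEquiv.ofBijective f ⟨hfinj, hfs⟩
  refine ⟨fun B A μ hμ φ z hz => ?_, hξ⟩
  obtain ⟨ψ, hψ₁, hψ₂⟩ := H.miniversal.1 μ hμ _ z (hz.trans (hcomp A φ))
  refine ⟨⟨ψ.1.comp E.symm.toAlgHom, AlgHom.ext fun r => ?_⟩, Subtype.ext (AlgHom.ext fun r => ?_), ?_⟩
  · change B.res (ψ.1 (E.symm r)) = R.res r
    conv_rhs => rw [← E.apply_symm_apply r]
    exact (AlgHom.congr_fun ψ.2 _).trans (AlgHom.congr_fun hf _).symm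
  · change μ (ψ.1 (E.symm r)) = φ.1 r
    conv_rhs => rw [← E.apply_symm_apply r]
    exact AlgHom.congr_fun (congrArg Subtype.val hψ₁) (E.symm r)
  · rw [hcomp]
    refine Eq.trans (congrArg _ (Subtype.ext (AlgHom.ext fun r => ?_))) hψ₂
    change ψ.1 (E.symm (E r)) = _
    rw [E.symm_apply_apply]

end Groth.Agent.ArtHull
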