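import Groth.Agent.ArtHull.MinExist
import Groth.Agent.ArtHull.General
import Groth.Agent.ArtHull.Hull
import Groth.Agent.ArtHull.Deform

/-!
Pro-representability from Schlessinger's conditions for `Λ → k` finite.
-/

set_option autoImplicit false

universe u v

open CategoryTheory ArtFun

namespace Groth.Agent.ArtHull

variable {Λ : Type u} {k : Type u} [CommRing Λ] [Field k] [Algebra Λ k] {F : Art Λ k ⥤ Type v}

theorem isMiniversal_of_isMinimalVersal_inj [IsNoetherianRing Λ] [Module.Finite Λ k]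
    (hc : ∀ x₀ : F.obj (Art.base Λ k), Function.Injective (fun σ : Art.base Λ k ⟶ Art.dual Λ k => F.map σ x₀)) (h0 : H0 F) (h2 : Heps F) {R : CRing Λ k}
    {ξ : Family R.carrier R.res F} (hξ : ξ.IsMinimalVersal) : IsMiniversal ξ := by
  have hs := versal_surjective hξ.1 h0
  refine ⟨hξ.1, fun φ φ' h => ?_, hs _⟩
  by_contra hne
  let φb : HomSet R.carrier R.res (Art.base Λ k) := ⟨R.res, AlgHom.id_comp _⟩
  let φ₀ : HomSet R.carrier R.res (Art.dual Λ k) := HomSet.map Art.baseToDual φb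
  let ψ : HomSet R.carrier R.res (Art.dual Λ k) := HomSet.map (Art.scale (-1)) φ'
  obtain ⟨a, ha₁, ha₂⟩ := fibreProd_lift Art.isFibreProd_dual2 φ ψ (Subtype.ext (φ.2.trans ψ.2.symm))
  obtain ⟨a', ha'₁, ha'₂⟩ :=
    fibreProd_lift Art.isFibreProd_dual2 φ' ψ (Subtype.ext (φ'.2.trans ψ.2.symm))
  have haa : ξ.app _ a = ξ.app _ a' := (h2 Art.pr₁ Art.pr₂ Art.isFibreProd_dual2).1 (FibProd.ext
    (by
      change F.map Art.pr₁ _ = F.map Art.pr₁ _
      rw [← ξ.natural, ← ξ.natural, ha₁, ha'₁, h])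
    (by
      change F.map Art.pr₂ _ = F.map Art.pr₂ _
      rw [← ξ.natural, ← ξ.natural, ha₂, ha'₂]))
  let φ₁ : HomSet R.carrier R.res (Art.dual Λ k) := HomSet.map Art.plus a
  have hplus : ∀ (α β : HomSet R.carrier R.res (Art.dual Λ k)) (b : HomSet R.carrier R.res (Art.dual2 Λ k)),
      HomSet.map Art.pr₁ b = α → HomSet.map Art.pr₂ b = β → ∀ r,
      TrivSqZeroExt.snd ((HomSet.map Art.plus b).1 r : DualNumber k) =
        TrivSqZeroExt.snd (α.1 r : DualNumber k) + TrivSqZeroExt.snd (β.1 r : DualNumber k) := by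
    rintro α β b rfl rfl r
    rfl
  have hψ : ∀ r, TrivSqZeroExt.snd (ψ.1 r : DualNumber k) = -TrivSqZeroExt.snd (φ'.1 r : DualNumber k) :=
    fun r => neg_one_smul k _
  have hφ₁app : ξ.app _ φ₁ = ξ.app _ φ₀ := by
    refine (ξ.natural Art.plus a).trans ((congrArg (F.map Art.plus) haa).trans ?_)
    rw [← ξ.natural]
    refine congrArg _ (Subtype.ext (AlgHom.ext fun r => TrivSqZeroExt.ext
      ((AlgHom.congr_fun (HomSet.map Art.plus a').2 r).trans (AlgHom.congr_fun φ₀.2 r).symm) ?_))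
    refine (hplus _ _ a' ha'₁ ha'₂ r).trans ?_
    rw [hψ, add_neg_cancel]
    rfl
  let D : R.carrier → k := fun r => TrivSqZeroExt.snd (φ₁.1 r : DualNumber k)
  have hDfst : ∀ r, TrivSqZeroExt.fst (φ₁.1 r : DualNumber k) = R.res r := AlgHom.congr_fun φ₁.2
  have hDmul : ∀ r s, D (r * s) = R.res r * D s + R.res s * D r := fun r s => by
    change TrivSqZeroExt.snd (φ₁.1 (r * s) : DualNumber k) = _
    rw [map_mul]
    have hm : ∀ u v : DualNumber k, (u * v).snd = u.fst * v.snd + v.fst * u.snd := fun u v => by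
      rw [TrivSqZeroExt.snd_mul, op_smul_eq_smul, smul_eq_mul, smul_eq_mul]
    refine (hm _ _).trans ?_
    rw [hDfst, hDfst]
  have hDadd : ∀ r s, D (r + s) = D r + D s := fun r s => by
    change TrivSqZeroExt.snd (φ₁.1 (r + s) : DualNumber k) = _
    rw [map_add]
    rfl
  have hDl : ∀ l, D (algebraMap Λ R.carrier l) = 0 := fun l => by
    change TrivSqZeroExt.snd (φ₁.1 (algebraMap Λ R.carrier l) : DualNumber k) = 0
    rw [AlgHom.commutes]
    change TrivSqZeroExt.snd (algebraMap Λ (DualNumber k) l) = 0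
    rw [TrivSqZeroExt.algebraMap_eq_inl']
    rfl
  have hD0 : ¬ ∀ r, D r = 0 := by
    intro h0'
    refine hne (Subtype.ext (AlgHom.ext fun r => TrivSqZeroExt.ext
      ((AlgHom.congr_fun φ.2 r).trans (AlgHom.congr_fun φ'.2 r).symm) ?_))
    have := (hplus _ _ a ha₁ ha₂ r).symm.trans (h0' r)
    rwa [hψ, add_neg_eq_zero] at this
  obtain ⟨v, hv, hDv⟩ : ∃ v, R.res v = 0 ∧ D v ≠ 0 := by
    by_contra hno
    push Not at hno
    have hσ : ∀ r s, R.res r = R.res s → D r = D s := fun r s hrs => by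
      have h1 := hno (r - s) (by rw [map_sub, hrs, sub_self])
      have h2 := hDadd (r - s) s
      rw [sub_add_cancel, h1, zero_add] at h2
      exact h2
    let σ := Function.surjInv R.res_surjective
    have hσr : ∀ c, R.res (σ c) = c := Function.surjInv_eq R.res_surjective
    let δ : Derivation Λ k k :=
      { toFun := fun c => D (σ c)
        map_add' := fun x y => (hσ _ _ (by rw [hσr, map_add, hσr, hσr])).trans (hDadd _ _)
        map_smul' := fun l x => by
          refine (hσ (σ (l • x)) (algebraMap Λ R.carrier l * σ x)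
            (by rw [hσr, map_mul, AlgHom.commutes, hσr, Algebra.smul_def])).trans ?_
          rw [hDmul, hDl, AlgHom.commutes, mul_zero, add_zero, RingHom.id_apply, Algebra.smul_def]
        map_one_eq_zero' := (hσ (σ 1) (algebraMap Λ R.carrier 1)
          (by rw [hσr, AlgHom.commutes, map_one])).trans (hDl 1)
        leibniz' := fun x y => (hσ (σ (x * y)) (σ x * σ y) (by rw [hσr, map_mul, hσr, hσr])).trans (by
          rw [hDmul, hσr, hσr]
          rfl) }
    refine hD0 fun r => ?_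
    rw [hσ r (σ (R.res r)) (hσr _).symm]
    let τ : k →ₐ[Λ] DualNumber k :=
      { toFun := fun c => (c, δ c)
        map_one' := TrivSqZeroExt.ext rfl δ.map_one_eq_zero
        map_mul' := fun x y => TrivSqZeroExt.ext rfl (by
          change δ (x * y) = x • δ y + MulOpposite.op y • δ x
          rw [δ.leibniz, op_smul_eq_smul])
        map_zero' := TrivSqZeroExt.ext rfl δ.map_zero
        map_add' := fun x y => TrivSqZeroExt.ext rfl (map_add δ x y)
        commutes' := fun l => TrivSqZeroExt.ext (by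
          rw [TrivSqZeroExt.algebraMap_eq_inl']; rfl) ((δ.map_algebraMap l).trans (by
          rw [TrivSqZeroExt.algebraMap_eq_inl']; rfl)) }
    let σδ : Art.base Λ k ⟶ Art.dual Λ k := Art.homMk τ (AlgHom.ext fun _ => rfl)
    have hφ₁ : HomSet.map σδ φb = φ₁ := Subtype.ext (AlgHom.ext fun r =>
      TrivSqZeroExt.ext (hDfst r).symm (hσ (σ (R.res r)) r (hσr _)))
    have h1 : σδ = Art.baseToDual := hc (ξ.app _ φb) (by
      change F.map σδ _ = F.map Art.baseToDual _
      rw [← ξ.natural, ← ξ.natural, hφ₁]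
      exact hφ₁app)
    exact congrArg (fun m : Art.base Λ k ⟶ Art.dual Λ k => TrivSqZeroExt.snd (m (R.res r) : DualNumber k)) h1
  have hlift : ∀ c d : k, ∃ r, R.res r = c ∧ D r = d := fun c d => by
    obtain ⟨r, hr⟩ := R.res_surjective c
    obtain ⟨a, ha⟩ := R.res_surjective ((d - D r) / D v)
    refine ⟨r + a * v, by rw [map_add, map_mul, hr, hv, mul_zero, add_zero], ?_⟩
    rw [hDadd, hDmul, hv, ha, zero_mul, add_zero, div_mul_cancel₀ _ hDv, add_sub_cancel]
  have hker : RingHom.ker (R.truncHom 1).1 ≤ RingHom.ker φ₁.1 := by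
    intro r hr
    rw [RingHom.mem_ker] at hr
    have hr' : r ∈ IsLocalRing.maximalIdeal R.carrier ^ (1 + 1) := Ideal.Quotient.eq_zero_iff_mem.1 hr
    rw [pow_two] at hr'
    refine Submodule.mul_induction_on hr' (fun x hx y hy => ?_) fun x y hx hy => ?_
    · rw [RingHom.mem_ker]
      refine TrivSqZeroExt.ext ?_ ?_
      · refine (hDfst (x * y)).trans ?_
        rw [map_mul, (CRing.mem_maximalIdeal_iff R x).1 hx, zero_mul]
        rfl
      · refine (hDmul x y).trans ?_
        rw [(CRing.mem_maximalIdeal_iff R x).1 hx, (CRing.mem_maximalIdeal_iff R y).1 hy]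
        simp only [zero_mul, add_zero]
        rfl
    · rw [RingHom.mem_ker] at hx hy ⊢
      rw [map_add, hx, hy, add_zero]
  have hπ : Function.Surjective (R.truncHom 1).1 := Ideal.Quotient.mk_surjective
  obtain ⟨g, hg⟩ := exists_descHom (R.truncHom 1) hπ φ₁ hker
  have hgr : ∀ r, g ((R.truncHom 1).1 r) = φ₁.1 r := fun r => AlgHom.congr_fun (congrArg Subtype.val hg) r
  let T := R.trunc 1
  let E : Subalgebra Λ T := AlgHom.equalizer g.toAlgHom (Art.toBase T ≫ Art.baseToDual).toAlgHom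
  have := finite_carrier_of_finite T
  have : Module.Finite Λ E := Module.Finite.of_injective E.val.toLinearMap Subtype.val_injective
  let resE : E →ₐ[Λ] k := T.res.comp E.val
  have hEs : Function.Surjective resE := fun c => by
    obtain ⟨r, hr, hDr⟩ := hlift c 0
    refine ⟨⟨(R.truncHom 1).1 r, ?_⟩, (AlgHom.congr_fun (R.truncHom 1).2 r).trans hr⟩
    change g ((R.truncHom 1).1 r) = Art.baseToDual (Art.toBase T ((R.truncHom 1).1 r))
    rw [hgr]
    refine TrivSqZeroExt.ext ?_ hDr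
    exact (hDfst r).trans (AlgHom.congr_fun (R.truncHom 1).2 r).symm
  obtain ⟨B, i, hi⟩ := exists_art_of_finite' E resE hEs (fun e he => by
    obtain ⟨N, hN⟩ := isNilpotent_of_res_eq_zero T he
    exact ⟨N, Subtype.ext hN⟩)
  have hiB : ∀ b, resE (i.symm b) = B.res b := fun b => by
    rw [← hi]; exact congrArg B.res (i.apply_symm_apply b)
  let incl : B ⟶ T := Art.homMk (E.val.comp i.symm.toAlgHom) (AlgHom.ext hiB)
  have hsq : Art.IsFibreProd (Art.toBase B) incl Art.baseToDual g := by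
    refine ⟨Art.hom_ext (AlgHom.ext fun b => ?_), fun b₁ b₂ _ h₂ => i.symm.injective (Subtype.ext h₂),
      fun c x hx => ?_⟩
    · refine Eq.trans ?_ (i.symm b).2.symm
      exact congrArg (Art.baseToDual (Λ := Λ) (k := k)).toAlgHom (hiB b).symm
    · have hc : T.res x = c := by
        rw [← Art.res_app g x, ← hx]
        rfl
      refine ⟨i ⟨x, ?_⟩, ?_, congrArg Subtype.val (i.symm_apply_apply _)⟩
      · change g x = Art.baseToDual (Art.toBase T x)
        rw [← hx]
        exact congrArg (Art.baseToDual (Λ := Λ) (k := k)).toAlgHom hc.symm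
      · exact (AlgHom.congr_fun hi _).trans hc
  have hgs : Function.Surjective g := fun d => by
    obtain ⟨r, hr, hDr⟩ := hlift (TrivSqZeroExt.fst (d : DualNumber k)) (TrivSqZeroExt.snd (d : DualNumber k))
    refine ⟨(R.truncHom 1).1 r, ?_⟩
    rw [hgr]
    exact TrivSqZeroExt.ext ((hDfst r).trans hr) hDr
  obtain ⟨u, hu⟩ := s1_of_versal hξ.1 hs _ _ _ _ hsq hgs ⟨(ξ.app _ φb, ξ.app _ (R.truncHom 1)), by
    rw [← ξ.natural, ← ξ.natural, hg]
    exact hφ₁app.symm⟩
  obtain ⟨ψB, hψB⟩ := hs B u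
  obtain ⟨e, he, hea, he1⟩ := exists_along hξ.1 ξ (HomSet.map incl ψB) (by
    rw [ξ.natural, hψB]
    exact congrArg (fun y => y.1.2) hu)
  have hesurj : Function.Surjective e := hξ.2 R ξ.toFormalElt e he (by rw [push_eq_along, hea])
  refine hD0 fun r => ?_
  obtain ⟨s, rfl⟩ := hesurj r
  have h1 : φ₁.1 (e s) = g (incl (ψB.1 s)) := by
    rw [← hgr]
    exact congrArg g.toAlgHom (AlgHom.congr_fun he1 s)
  change TrivSqZeroExt.snd (φ₁.1 (e s) : DualNumber k) = 0
  rw [h1]
  exact congrArg TrivSqZeroExt.snd (i.symm (ψB.1 s)).2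

theorem isUniversal_of_isMiniversal [IsNoetherianRing Λ] [Module.Finite Λ k] (h0 : H0 F) (hsq : HSq F)
    {R : CRing Λ k} {ξ : Family R.carrier R.res F} (hξ : IsMiniversal ξ) : IsUniversal ξ := by
  intro A
  refine ⟨?_, versal_surjective hξ.1 h0 A⟩
  have hbij := hξ.2
  let P : ∀ {B A : Art Λ k}, (B ⟶ A) → Prop := fun {B A} _ =>
    Function.Injective (ξ.app A) → Function.Injective (ξ.app B)
  have hiso : ∀ {B A : Art Λ k} (μ : B ⟶ A), Function.Bijective μ → P μ := by
    intro B A μ hμ hA ψ₁ ψ₂ h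
    have hm := hA (a₁ := HomSet.map μ ψ₁) (a₂ := HomSet.map μ ψ₂) (by rw [ξ.natural, ξ.natural, h])
    exact Subtype.ext (AlgHom.ext fun c => hμ.1 (AlgHom.congr_fun (congrArg Subtype.val hm) c))
  refine surjective_induction P hiso ?_ (Art.toBase A) A.res_surjective ?_
  · intro B D A g h _ hg hh hA
    have hPg : P g := by
      rcases hg with hg | hg
      · exact hiso g hg
      intro hD ψ₁ ψ₂ heq
      have hm := hD (a₁ := HomSet.map g ψ₁) (a₂ := HomSet.map g ψ₂) (by rw [ξ.natural, ξ.natural, heq])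
      obtain ⟨E₂, p₂, p₂', Θ, hE₂, hΘ, hΘ0⟩ := exists_dual_square' g hg
      obtain ⟨c, hc₁, hc₂⟩ := fibreProd_lift hΘ ψ₁ ψ₂ hm
      let δ₀ : HomSet R.carrier R.res (Art.dual Λ k) :=
        HomSet.map (Art.toBase B ≫ Art.baseToDual) ψ₁
      obtain ⟨c₀, hc₀₁, hc₀₂⟩ := fibreProd_lift hE₂ ψ₁ δ₀ (Subtype.ext (ψ₁.2.trans δ₀.2.symm))
      have hc₀Θ : HomSet.map Θ c₀ = ψ₁ := by
        refine Subtype.ext (AlgHom.ext fun r => ?_)
        refine ((hΘ0 (c₀.1 r)).1 ?_).trans (AlgHom.congr_fun (congrArg Subtype.val hc₀₁) r)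
        exact congrArg TrivSqZeroExt.snd (AlgHom.congr_fun (congrArg Subtype.val hc₀₂) r)
      have hζ : ξ.app E₂ c₀ = ξ.app E₂ c := by
        refine (hsq p₂ Θ g hΘ hg).1 (FibProd.ext ?_ ?_)
        · change F.map p₂ _ = F.map p₂ _
          rw [← ξ.natural, ← ξ.natural, hc₀₁, hc₁]
        · change F.map Θ _ = F.map Θ _
          rw [← ξ.natural, ← ξ.natural, hc₀Θ, hc₂, heq]
      have hδ : HomSet.map p₂' c₀ = HomSet.map p₂' c := hbij.1 (by rw [ξ.natural, ξ.natural, hζ])
      have hcc : c₀ = c := Subtype.ext (AlgHom.ext fun r => hE₂.inj _ _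
        (AlgHom.congr_fun (congrArg Subtype.val (hc₀₁.trans hc₁.symm)) r)
        (AlgHom.congr_fun (congrArg Subtype.val hδ) r))
      rw [← hc₀Θ, ← hc₂, hcc]
    exact hPg (hh hA)
  · intro φ φ' _
    exact Subtype.ext ((AlgHom.id_comp φ.1).symm.trans (φ.2.trans (φ'.2.symm.trans (AlgHom.id_comp φ'.1))))


end Groth.Agent.ArtHull
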