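import Groth.Agent.ArtHull.Essential
import Groth.Agent.ArtHull.Cond
import Groth.Agent.S12713
import Mathlib.RingTheory.MvPolynomial.Ideal

/-!
Versal small prolongations.
-/

set_option autoImplicit false

universe u v

open CategoryTheory ArtFun

namespace Groth.Agent.ArtHull

variable {Λ : Type u} {k : Type u} [CommRing Λ] [Field k] [Algebra Λ k]
  [IsNoetherianRing Λ] [Module.Finite Λ k]

/-- The dual numbers are a small extension of `k`. -/
theorem isSmallExt_dual : Art.IsSmallExt (Art.toBase (Art.dual Λ k)) := by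
  have hker : ∀ e : DualNumber k, e ∈ RingHom.ker (Art.toBase (Art.dual Λ k)).toAlgHom ↔ e.fst = 0 :=
    fun e => RingHom.mem_ker
  let e₀ : (Art.dual Λ k).carrier := (DualNumber.eps : DualNumber k)
  refine ⟨toBase_surjective _, fun h => ?_,
    ⟨⟨e₀, le_antisymm (fun (e : (Art.dual Λ k).carrier) he => ?_) ?_⟩⟩, ?_⟩
  · have h1 : e₀ ∈ RingHom.ker (Art.toBase (Art.dual Λ k)).toAlgHom := (hker _).2 DualNumber.fst_eps
    rw [h] at h1
    have h3 : e₀ = 0 := (Submodule.mem_bot _).1 h1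
    exact one_ne_zero ((DualNumber.snd_eps (R := k)).symm.trans
      (congrArg TrivSqZeroExt.snd h3))
  · have key : ∀ d : DualNumber k, d.fst = 0 → TrivSqZeroExt.inl d.snd * DualNumber.eps = d := fun d hd =>
      TrivSqZeroExt.ext (by rw [TrivSqZeroExt.fst_mul, DualNumber.fst_eps, mul_zero, hd])
        (by simp [TrivSqZeroExt.snd_mul])
    rw [Submodule.mem_span_singleton]
    exact ⟨(TrivSqZeroExt.inl (TrivSqZeroExt.snd (e : DualNumber k)) : DualNumber k), key e ((hker e).1 he)⟩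
  · rw [Submodule.span_le, Set.singleton_subset_iff]
    exact (hker _).2 DualNumber.fst_eps
  · refine le_bot_iff.1 (Ideal.mul_le.2 fun a ha b hb => ?_)
    have key : ∀ a b : DualNumber k, a.fst = 0 → b.fst = 0 → a * b = 0 := fun a b ha hb =>
      TrivSqZeroExt.ext (by rw [TrivSqZeroExt.fst_mul, ha, zero_mul]; rfl)
        (by simp [TrivSqZeroExt.snd_mul, ha, hb])
    exact (Submodule.mem_bot _).2 (key a b ((Art.mem_maximalIdeal_iff _ a).1 ha) ((hker b).1 hb))

/-- If `a` sees all first order elements, lifts of `a` along a small extension differ by a change of the map. -/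
theorem exists_map_over {F : Art Λ k ⥤ Type v} (h0 : H0 F) (h1 : S1 F) (h2 : Heps F)
    {R R₁ R' : Art Λ k} (π₁ : R₁ ⟶ R) (hπ : Art.IsSmallExt π₁) (g : R' ⟶ R)
    (a : F.obj R) (a₁ : F.obj R₁) (a' : F.obj R') (ha₁ : F.map π₁ a₁ = a) (ha' : F.map g a' = a)
    (hvers : ∀ (R₀ : Art Λ k), Art.IsSmallExt (Art.toBase R₀) → ∀ b : F.obj R₀, ∃ φ : R ⟶ R₀, F.map φ a = b)
    (f : R' ⟶ R₁) (hf : f ≫ π₁ = g) : ∃ f' : R' ⟶ R₁, f' ≫ π₁ = g ∧ F.map f' a' = a₁ := by
  obtain ⟨E, p, p', Θ, hE, hsq, -⟩ := exists_dual_square' π₁ hπ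
  obtain ⟨e, he₁, he₂⟩ := exists_of_cmp_surjective (h1 _ _ _ _ hsq hπ.1) (F.map f a') a₁
    (by rw [map_map_apply, hf, ha', ha₁])
  obtain ⟨φ, hφ⟩ := hvers _ isSmallExt_dual (F.map p' e)
  obtain ⟨c, hc₁, hc₂⟩ := fibreProd_liftHom hE f (g ≫ φ)
    ((Art.eq_toBase _).trans (Art.eq_toBase _).symm)
  have hce : F.map c a' = e := (h2 _ _ hE).1 ((cmp_eq_iff hE).mpr ⟨by
    rw [map_map_apply, hc₁, he₁], by
    rw [map_map_apply, hc₂, ← map_map_apply, ha', hφ]⟩)
  refine ⟨c ≫ Θ, ?_, by rw [← map_map_apply, hce, he₂]⟩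
  rw [Category.assoc, ← hsq.w, ← Category.assoc, hc₁, hf]

/-- A cover of `R` with the same cotangent space which lifts along all surjections with small enough kernel. -/
theorem exists_free_prolongation (hk : Function.Surjective (algebraMap Λ k)) (R : Art Λ k) :
    ∃ (R'' : Art Λ k) (q : R'' ⟶ R), Art.IsSemismallExt q ∧ RingHom.ker q.toAlgHom ≤ relW R'' ∧
      ∀ (E D : Art Λ k) (s : E ⟶ D) (d : D ⟶ R) (t : R'' ⟶ D), Function.Surjective s → t ≫ d = q →
        Art.IsSemismallExt (s ≫ d) → ∃ h : R'' ⟶ E, h ≫ s = t := by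
  classical
  obtain ⟨r, ⟨x, hxm, hx⟩, hmin⟩ : ∃ r, (∃ x : Fin r → R, (∀ i, x i ∈ IsLocalRing.maximalIdeal R) ∧
      IsLocalRing.maximalIdeal R ≤ relW R ⊔ Ideal.span (Set.range x)) ∧
      ∀ s < r, ¬ ∃ x : Fin s → R, (∀ i, x i ∈ IsLocalRing.maximalIdeal R) ∧
        IsLocalRing.maximalIdeal R ≤ relW R ⊔ Ideal.span (Set.range x) := by
    have : ∃ r, ∃ x : Fin r → R, (∀ i, x i ∈ IsLocalRing.maximalIdeal R) ∧
        IsLocalRing.maximalIdeal R ≤ relW R ⊔ Ideal.span (Set.range x) := by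
      obtain ⟨r, x, hx⟩ := Submodule.fg_iff_exists_fin_generating_family.1
        (IsNoetherian.noetherian (IsLocalRing.maximalIdeal R))
      exact ⟨r, x, fun i => hx.le (Submodule.subset_span ⟨i, rfl⟩), hx.ge.trans le_sup_right⟩
    exact ⟨Nat.find this, Nat.find_spec this, fun s hs => Nat.find_min this hs⟩
  let m := IsLocalRing.maximalIdeal R
  let P := MvPolynomial (Fin r) Λ
  let π : P →ₐ[Λ] R := MvPolynomial.aeval x
  let res₀ : P →ₐ[Λ] k := R.res.comp π
  let M : Ideal P := RingHom.ker res₀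
  let J : Ideal P := RingHom.ker π
  have hres₀ : Function.Surjective res₀ := fun c => by
    obtain ⟨l, rfl⟩ := hk c
    exact ⟨algebraMap Λ P l, res₀.commutes l⟩
  have hMmax : M.IsMaximal := RingHom.ker_isMaximal_of_surjective res₀.toRingHom hres₀
  have hπM : Ideal.map π M ≤ m := Ideal.map_le_iff_le_comap.2 fun p hp =>
    (Art.mem_maximalIdeal_iff R _).2 hp
  have hX : ∀ i, (MvPolynomial.X i : P) ∈ M := fun i => by
    change R.res (π (MvPolynomial.X i)) = 0
    rw [MvPolynomial.aeval_X]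
    exact (Art.mem_maximalIdeal_iff R _).1 (hxm i)
  have hsplit : ∀ p : P, p - algebraMap Λ P (MvPolynomial.constantCoeff p) ∈
      Ideal.span (Set.range (MvPolynomial.X : Fin r → P)) := by
    intro p
    induction p using MvPolynomial.induction_on with
    | C a =>
      rw [MvPolynomial.constantCoeff_C, MvPolynomial.algebraMap_eq, sub_self]
      exact zero_mem _
    | add p q hp hq =>
      convert add_mem hp hq using 1
      simp only [map_add]
      ring
    | mul_X p i _ =>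
      simp only [map_mul, MvPolynomial.constantCoeff_X, mul_zero, map_zero, sub_zero]
      exact Ideal.mul_mem_left _ _ (Ideal.subset_span ⟨i, rfl⟩)
  have hm2 : m ≤ Ideal.map π M ⊔ m ^ 2 := by
    refine hx.trans (sup_le (sup_le ?_ le_sup_right) ?_)
    · refine (Ideal.map_le_iff_le_comap.2 fun l hl => ?_).trans le_sup_left
      rw [Ideal.mem_comap, ← π.commutes l]
      exact Ideal.mem_map_of_mem _ ((res₀.commutes l).trans hl)
    · rw [Ideal.span_le]
      rintro _ ⟨i, rfl⟩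
      refine Ideal.mem_sup_left ?_
      have := Ideal.mem_map_of_mem π (hX i)
      rwa [MvPolynomial.aeval_X] at this
  obtain ⟨N, hN⟩ := (isArtinianRing_iff_isNilpotent_maximalIdeal R).mp R.isArtinianRing
  have hπ : Function.Surjective π := by
    have hn : ∀ n, ∀ a : R, ∃ p, a - π p ∈ m ^ n := by
      intro n
      induction n with
      | zero => exact fun a => ⟨0, by rw [pow_zero, Ideal.one_eq_top]; trivial⟩
      | succ n ih =>
        have hstep : ∀ b ∈ Ideal.map π (M ^ n) ⊔ m ^ (n + 1), ∃ p, b - π p ∈ m ^ (n + 1) := by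
          intro b hb
          obtain ⟨y, hy, z, hz, rfl⟩ := Submodule.mem_sup.1 hb
          suffices ∃ p, y - π p ∈ m ^ (n + 1) by
            obtain ⟨p, hp⟩ := this
            exact ⟨p, by rw [show y + z - π p = (y - π p) + z by ring]; exact add_mem hp hz⟩
          clear hb
          rw [Ideal.map] at hy
          induction hy using Submodule.span_induction with
          | mem w hw => obtain ⟨p, -, rfl⟩ := hw; exact ⟨p, by rw [sub_self]; exact zero_mem _⟩
          | zero => exact ⟨0, by rw [map_zero, sub_zero]; exact zero_mem _⟩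
          | add w w' _ _ hw hw' =>
            obtain ⟨p, hp⟩ := hw
            obtain ⟨p', hp'⟩ := hw'
            exact ⟨p + p', by rw [map_add, add_sub_add_comm]; exact add_mem hp hp'⟩
          | smul c w hw' hw =>
            obtain ⟨p, hp⟩ := hw
            obtain ⟨l, hl⟩ := hk (R.res c)
            refine ⟨algebraMap Λ P l * p, ?_⟩
            have hw'' : w ∈ m ^ n := by
              have hle : Ideal.map π (M ^ n) ≤ m ^ n := by
                rw [Ideal.map_pow]; exact Ideal.pow_right_mono hπM n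
              exact hle hw'
            have hc : c - algebraMap Λ R l ∈ m := by
              rw [Art.mem_maximalIdeal_iff, map_sub, AlgHom.commutes, hl, sub_self]
            rw [map_mul, π.commutes, smul_eq_mul,
              show c * w - algebraMap Λ R l * π p = (c - algebraMap Λ R l) * w + algebraMap Λ R l * (w - π p) by ring]
            refine add_mem ?_ (Ideal.mul_mem_left _ _ hp)
            rw [pow_succ']
            exact Ideal.mul_mem_mul hc hw''
        have hpow : m ^ n ≤ Ideal.map π (M ^ n) ⊔ m ^ (n + 1) := by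
          clear ih hstep
          induction n with
          | zero =>
            rw [pow_zero, pow_zero, Ideal.one_eq_top, Ideal.one_eq_top]
            exact le_trans (by rw [Ideal.map_top]) le_sup_left
          | succ n ih =>
            calc m ^ (n + 1) ≤ (Ideal.map π (M ^ n) ⊔ m ^ (n + 1)) * (Ideal.map π M ⊔ m ^ 2) :=
                  (pow_succ m n).le.trans (Ideal.mul_mono ih hm2)
              _ ≤ _ := by
                have e1 : Ideal.map π (M ^ n) * m ^ 2 ≤ m ^ (n + 1 + 1) := by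
                  refine (Ideal.mul_mono ((Ideal.map_pow π M n).le.trans (Ideal.pow_right_mono hπM n)) le_rfl).trans ?_
                  exact (pow_add m n 2).ge
                have e2 : m ^ (n + 1) * (Ideal.map π M ⊔ m ^ 2) ≤ m ^ (n + 1 + 1) := by
                  refine (Ideal.mul_mono le_rfl (sup_le hπM (Ideal.pow_le_self two_ne_zero))).trans ?_
                  exact (pow_succ m (n + 1)).ge
                rw [Ideal.sup_mul, Ideal.mul_sup, ← Ideal.map_mul, ← pow_succ]
                exact sup_le (sup_le le_sup_left (e1.trans le_sup_right)) (e2.trans le_sup_right)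
        intro a
        obtain ⟨p, hp⟩ := ih a
        obtain ⟨p', hp'⟩ := hstep _ (hpow hp)
        exact ⟨p + p', by rw [map_add, ← sub_sub]; exact hp'⟩
    intro a
    obtain ⟨p, hp⟩ := hn N a
    rw [hN, Submodule.zero_eq_bot, Ideal.mem_bot, sub_eq_zero] at hp
    exact ⟨p, hp.symm⟩
  have hMN : M ^ N ≤ J := fun p hp => by
    have h1 : π p ∈ Ideal.map π (M ^ N) := Ideal.mem_map_of_mem _ hp
    rw [Ideal.map_pow] at h1
    have h2 := Ideal.pow_right_mono hπM N h1
    rw [hN, Submodule.zero_eq_bot, Ideal.mem_bot] at h2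
    exact h2
  have hJM : J ≤ M := fun p hp => by
    change R.res (π p) = 0
    rw [show π p = 0 from hp, map_zero]
  let Q : Ideal P := M * J
  have hQM : Q ≤ M := Ideal.mul_le_right.trans hJM
  have hMQ : M ^ (N + 1) ≤ Q := (pow_succ' M N).le.trans (Ideal.mul_mono le_rfl hMN)
  let A := P ⧸ Q
  have : Nontrivial A := Ideal.Quotient.nontrivial_iff.2 fun h => hMmax.ne_top (top_le_iff.1 (h ▸ hQM))
  let M' : Ideal A := Ideal.map (Ideal.Quotient.mk Q) M
  have hM'N : M' ^ (N + 1) = ⊥ := by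
    rw [← Ideal.map_pow, Ideal.map_eq_bot_iff_le_ker, Ideal.mk_ker]
    exact hMQ
  have huniq : ∀ I : Ideal A, I.IsMaximal → I = M' := fun I hI => by
    have hle : M' ≤ I := fun a ha => hI.isPrime.mem_of_pow_mem (N + 1) (by
      have h0 : a ^ (N + 1) ∈ M' ^ (N + 1) := Ideal.pow_mem_pow ha (N + 1)
      rw [hM'N, Ideal.mem_bot] at h0
      rw [h0]
      exact zero_mem _)
    have hmax' : M'.IsMaximal :=
      Ideal.IsMaximal.map_of_surjective_of_ker_le Ideal.Quotient.mk_surjective (by rwa [Ideal.mk_ker])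
    exact (hmax'.eq_of_le hI.ne_top hle).symm
  have : IsLocalRing A := .of_unique_max_ideal (by
    obtain ⟨I, hI⟩ := Ideal.exists_maximal A
    exact ⟨I, hI, fun I' hI' => (huniq I' hI').trans (huniq I hI).symm⟩)
  have : IsArtinianRing A := (isArtinianRing_iff_isNilpotent_maximalIdeal A).2
    ⟨N + 1, by rw [huniq _ (IsLocalRing.maximalIdeal.isMaximal A), hM'N]; rfl⟩
  let R'' : Art Λ k := Art.of A (Ideal.Quotient.liftₐ Q res₀ fun p hp => hQM hp) fun c => by
    obtain ⟨p, rfl⟩ := hres₀ c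
    exact ⟨Ideal.Quotient.mk Q p, rfl⟩
  let q : R'' ⟶ R := Art.homMk (Ideal.Quotient.liftₐ Q π fun p hp =>
      (show Q ≤ J from Ideal.mul_le_right) hp) (AlgHom.ext fun a => by
    obtain ⟨p, rfl⟩ := Ideal.Quotient.mk_surjective a
    rfl)
  have hm'' : ∀ p : P, (Ideal.Quotient.mk Q p : R'') ∈ IsLocalRing.maximalIdeal R'' ↔ p ∈ M := fun p =>
    (Art.mem_maximalIdeal_iff R'' _).trans Iff.rfl
  have hW : ∀ p ∈ Ideal.map (algebraMap Λ P) (RingHom.ker (algebraMap Λ k)) ⊔ M ^ 2,
      (Ideal.Quotient.mk Q p : R'') ∈ relW R'' := by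
    intro p hp
    refine (?_ : Ideal.map (Ideal.Quotient.mk Q) _ ≤ relW R'') (Ideal.mem_map_of_mem _ hp)
    rw [Ideal.map_sup, Ideal.map_map]
    refine sup_le_sup le_rfl ?_
    rw [Ideal.map_pow]
    exact Ideal.pow_right_mono (Ideal.map_le_iff_le_comap.2 fun p hp => Ideal.mem_comap.2 ((hm'' p).2 hp)) 2
  refine ⟨R'', q, ⟨fun a => ?_, le_bot_iff.1 (Ideal.mul_le.2 fun a ha b hb => ?_)⟩, fun a ha => ?_,
    fun E D s d t hs htd hsd => ?_⟩
  · obtain ⟨p, rfl⟩ := hπ a
    exact ⟨Ideal.Quotient.mk Q p, rfl⟩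
  · obtain ⟨a, rfl⟩ := Ideal.Quotient.mk_surjective a
    obtain ⟨b, rfl⟩ := Ideal.Quotient.mk_surjective b
    exact (Submodule.mem_bot _).2 ((map_mul (Ideal.Quotient.mk Q) a b).symm.trans
      (Ideal.Quotient.eq_zero_iff_mem.2 (Ideal.mul_mem_mul ((hm'' a).1 ha) hb)))
  · obtain ⟨p, rfl⟩ := Ideal.Quotient.mk_surjective a
    have hp : π p = 0 := RingHom.mem_ker.1 ha
    refine hW p ?_
    have hpM : p ∈ M := hJM hp
    rw [← sub_add_cancel p (algebraMap Λ P (MvPolynomial.constantCoeff p))]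
    have hs := hsplit p
    rw [Ideal.mem_span_range_iff_exists_fun] at hs
    obtain ⟨c, hc⟩ := hs
    have h0 : MvPolynomial.constantCoeff p ∈ RingHom.ker (algebraMap Λ k) := by
      rw [RingHom.mem_ker, ← res₀.commutes]
      have h1 : res₀ (p - algebraMap Λ P (MvPolynomial.constantCoeff p)) = 0 := by
        rw [← hc, map_sum]
        exact Finset.sum_eq_zero fun i _ => by rw [map_mul, show res₀ (MvPolynomial.X i) = 0 from hX i, mul_zero]
      rwa [map_sub, show res₀ p = 0 from hpM, zero_sub, neg_eq_zero] at h1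
    refine add_mem ?_ (Ideal.mem_sup_left (Ideal.mem_map_of_mem _ h0))
    rw [← hc]
    refine Ideal.sum_mem _ fun i _ => Ideal.mem_sup_right ?_
    rw [pow_two]
    refine Ideal.mul_mem_mul ?_ (hX i)
    change R.res (π (c i)) = 0
    rw [← Art.mem_maximalIdeal_iff]
    by_contra hci
    have hu : IsUnit (π (c i)) := IsLocalRing.notMem_maximalIdeal.1 hci
    obtain ⟨u, hu⟩ := hu.exists_left_inv
    have hsum : ∑ j, π (c j) * x j ∈ relW R := by
      have h1 : ∑ j, π (c j) * x j = π (p - algebraMap Λ P (MvPolynomial.constantCoeff p)) := by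
        rw [← hc, map_sum]
        exact Finset.sum_congr rfl fun j _ => by rw [map_mul, MvPolynomial.aeval_X]
      rw [h1, map_sub, hp, zero_sub, π.commutes]
      exact neg_mem (Ideal.mem_sup_left (Ideal.mem_map_of_mem _ h0))
    rcases r with _ | r
    · exact i.elim0
    refine hmin r (Nat.lt_succ_self r) ⟨fun j => x (i.succAbove j), fun j => hxm _,
      hx.trans (sup_le le_sup_left (Ideal.span_le.2 ?_))⟩
    rintro _ ⟨j, rfl⟩
    rcases Fin.eq_self_or_eq_succAbove i j with rfl | ⟨l, rfl⟩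
    · rw [Fin.sum_univ_succAbove _ j] at hsum
      have hxj : x j = u * (π (c j) * x j + ∑ l, π (c (j.succAbove l)) * x (j.succAbove l)) -
          u * ∑ l, π (c (j.succAbove l)) * x (j.succAbove l) := by
        rw [mul_add, add_sub_cancel_right, ← mul_assoc, hu, one_mul]
      rw [SetLike.mem_coe, hxj]
      exact sub_mem (Ideal.mem_sup_left (Ideal.mul_mem_left _ _ hsum)) (Ideal.mem_sup_right
        (Ideal.mul_mem_left _ _ (Ideal.sum_mem _ fun l _ =>
          Ideal.mul_mem_left _ _ (Ideal.subset_span ⟨l, rfl⟩))))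
    · exact Ideal.mem_sup_right (Ideal.subset_span ⟨l, rfl⟩)
  · choose y hy using fun i => hs (t (Ideal.Quotient.mk Q (MvPolynomial.X i)))
    let h₀ : P →ₐ[Λ] E := MvPolynomial.aeval y
    have hsh : ∀ p, s (h₀ p) = t (Ideal.Quotient.mk Q p) := by
      refine AlgHom.congr_fun (φ₁ := s.toAlgHom.comp h₀)
        (φ₂ := t.toAlgHom.comp (Ideal.Quotient.mkₐ Λ Q)) (MvPolynomial.algHom_ext fun i => ?_)
      rw [AlgHom.comp_apply, MvPolynomial.aeval_X]
      exact hy i
    have hsd' : ∀ p, (s ≫ d) (h₀ p) = π p := fun p => by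
      change d (s (h₀ p)) = _
      rw [hsh]
      exact congrArg (fun φ : R'' ⟶ R => φ (Ideal.Quotient.mk Q p)) htd
    have hker : ∀ p ∈ Q, h₀ p = 0 := fun p hp => by
      refine Submodule.mul_induction_on hp (fun a ha b hb => ?_) fun a b ha hb => by rw [map_add, ha, hb, add_zero]
      have ha' : h₀ a ∈ IsLocalRing.maximalIdeal E := by
        rw [Art.mem_maximalIdeal_iff, ← Art.res_app (s ≫ d), hsd']
        exact ha
      have hb' : h₀ b ∈ RingHom.ker (s ≫ d).toAlgHom := RingHom.mem_ker.2 ((hsd' b).trans hb)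
      have := Ideal.mul_mem_mul ha' hb'
      rw [hsd.2, Ideal.mem_bot] at this
      rw [map_mul, this]
    refine ⟨Art.homMk (Ideal.Quotient.liftₐ Q h₀ hker) (AlgHom.ext fun a => ?_),
      Art.hom_ext (AlgHom.ext fun a => ?_)⟩
    · obtain ⟨p, rfl⟩ := Ideal.Quotient.mk_surjective a
      change E.res (h₀ p) = R.res (π p)
      rw [← Art.res_app (s ≫ d), hsd']
    · obtain ⟨p, rfl⟩ := Ideal.Quotient.mk_surjective a
      exact hsh p

/-- Existence of a versal semismall prolongation. -/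
theorem exists_versal_prolongation (hk : Function.Surjective (algebraMap Λ k))
    {F : Art Λ k ⥤ Type v} (h0 : H0 F) (h1 : S1 F) (h2 : Heps F) (R : Art Λ k) (a : F.obj R)
    (hvers : ∀ (R₀ : Art Λ k), Art.IsSmallExt (Art.toBase R₀) → ∀ b : F.obj R₀, ∃ φ : R ⟶ R₀, F.map φ a = b) :
    ∃ (R' : Art Λ k) (q : R' ⟶ R) (a' : F.obj R'), F.map q a' = a ∧ Art.IsSemismallExt q ∧
      RingHom.ker q.toAlgHom ≤ relW R' ∧
      ∀ (R₁ : Art Λ k) (π₁ : R₁ ⟶ R), Art.IsSmallExt π₁ → ∀ a₁ : F.obj R₁, F.map π₁ a₁ = a →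
        ∃ f : R' ⟶ R₁, f ≫ π₁ = q ∧ F.map f a' = a₁ := by
  obtain ⟨R'', q'', hq'', hW, hlift⟩ := exists_free_prolongation hk R
  obtain ⟨L, ⟨R', c, d, a', hc, hcd, hcL, ha'⟩, hmin⟩ := IsWellFounded.wf.has_min (r := (· < ·))
    {L : Ideal R'' | ∃ (R' : Art Λ k) (c : R'' ⟶ R') (d : R' ⟶ R) (a' : F.obj R'), Function.Surjective c ∧
      c ≫ d = q'' ∧ RingHom.ker c.toAlgHom = L ∧ F.map d a' = a}
    ⟨RingHom.ker q''.toAlgHom, R, q'', 𝟙 R, a, hq''.1, Category.comp_id _, rfl, map_id_elt F a⟩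
  have hd : Function.Surjective d := fun r => by
    obtain ⟨z, hz⟩ := hq''.1 r
    exact ⟨c z, (congrArg (fun φ : R'' ⟶ R => φ z) hcd).trans hz⟩
  have hkd : ∀ z : R', d z = 0 → ∃ w, c w = z ∧ q'' w = 0 := fun z hz => by
    obtain ⟨w, rfl⟩ := hc z
    exact ⟨w, rfl, (congrArg (fun φ : R'' ⟶ R => φ w) hcd).symm.trans hz⟩
  have hdann : Art.IsSemismallExt d := by
    refine ⟨hd, le_bot_iff.1 (Ideal.mul_le.2 fun y hy z hz => ?_)⟩
    obtain ⟨y, rfl⟩ := hc y
    obtain ⟨w, rfl, hw⟩ := hkd z hz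
    have := Ideal.mul_mem_mul ((Art.mem_maximalIdeal_iff R'' y).2
      ((Art.res_app c y).symm.trans ((Art.mem_maximalIdeal_iff R' _).1 hy)))
      (RingHom.mem_ker.2 hw : w ∈ RingHom.ker q''.toAlgHom)
    rw [hq''.2, Ideal.mem_bot] at this
    rw [Ideal.mem_bot, ← map_mul, this, map_zero]
  refine ⟨R', d, a', ha', hdann, fun z hz => ?_, fun R₁ π₁ hπ₁ a₁ ha₁ => ?_⟩
  · obtain ⟨w, rfl, hw⟩ := hkd z hz
    exact relW_map_le c (Ideal.mem_map_of_mem _ (hW hw))
  suffices ∃ f : R' ⟶ R₁, f ≫ π₁ = d by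
    obtain ⟨f, hf⟩ := this
    exact exists_map_over h0 h1 h2 π₁ hπ₁ d a a₁ a' ha₁ ha' hvers f hf
  obtain ⟨E, p₁, p₂, hE⟩ := exists_fibreProd_of_surjective d π₁ hπ₁.1
  have hp₁ := isSmallExt_fst hE hπ₁
  obtain ⟨e, he₁, -⟩ := exists_of_cmp_surjective (h1 _ _ _ _ hE hπ₁.1) a' a₁ (ha'.trans ha₁.symm)
  by_cases hess : ∀ (C : Art Λ k) (g : C ⟶ E), Function.Surjective (g ≫ p₁) → Function.Surjective g
  · have hEd : Art.IsSemismallExt (p₁ ≫ d) := by
      refine ⟨comp_surjective hp₁.1 hd, le_bot_iff.1 (Ideal.mul_le.2 fun y hy z hz => ?_)⟩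
      have hy0 : E.res y = 0 := (Art.mem_maximalIdeal_iff E y).1 hy
      have h₁ := Ideal.mul_mem_mul ((Art.mem_maximalIdeal_iff R' _).2 ((Art.res_app p₁ y).trans hy0))
        (RingHom.mem_ker.2 hz : p₁ z ∈ RingHom.ker d.toAlgHom)
      have h₂ := Ideal.mul_mem_mul ((Art.mem_maximalIdeal_iff R₁ _).2 ((Art.res_app p₂ y).trans hy0))
        (RingHom.mem_ker.2 ((hE.w_apply z).symm.trans hz) : p₂ z ∈ RingHom.ker π₁.toAlgHom)
      rw [hdann.2, Ideal.mem_bot] at h₁
      rw [hπ₁.2.2.2, Ideal.mem_bot] at h₂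
      exact (Ideal.mem_bot).2 (hE.inj _ _ (by rw [map_mul, h₁, map_zero]) (by rw [map_mul, h₂, map_zero]))
    obtain ⟨h, hh⟩ := hlift E R' p₁ d c hp₁.1 hcd hEd
    have hhs : Function.Surjective h := hess R'' h (hh ▸ hc)
    have hle : RingHom.ker h.toAlgHom ≤ L := fun z hz => by
      rw [← hcL, RingHom.mem_ker, ← hh]
      exact (congrArg p₁.toAlgHom (RingHom.mem_ker.1 hz)).trans (map_zero _)
    have hker : L ≤ RingHom.ker h.toAlgHom := by
      refine (lt_or_eq_of_le hle).elim (fun hlt => absurd hlt (hmin _ ?_)) fun h => h.ge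
      exact ⟨E, h, p₁ ≫ d, e, hhs, by rw [← Category.assoc, hh, hcd], rfl,
        by rw [← map_map_apply, he₁, ha']⟩
    obtain ⟨t, ht⟩ := exists_desc c hc h (hcL.le.trans hker)
    refine ⟨t ≫ p₂, ?_⟩
    rw [Category.assoc, ← hE.w]
    refine Art.hom_ext (AlgHom.ext fun z => ?_)
    obtain ⟨w, rfl⟩ := hc z
    change d (p₁ (t (c w))) = d (c w)
    rw [show t (c w) = h w from congrArg (fun φ : R'' ⟶ E => φ w) ht,
      show p₁ (h w) = c w from congrArg (fun φ : R'' ⟶ R' => φ w) hh]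
  · simp only [not_forall, exists_prop] at hess
    obtain ⟨s, hs⟩ := (S12713.result p₁ hp₁).1 hess
    exact ⟨s ≫ p₂, by rw [Category.assoc, ← hE.w, ← Category.assoc, hs, Category.id_comp]⟩

end Groth.Agent.ArtHull
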