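import Groth.Agent.ArtHull.General
import Groth.Prelude.Def_CAlgX
import Groth.Prelude.Def_ArtFun3

/-!
Smoothness of `h_R` and adic formal smoothness of `Λ → R`.
-/

set_option autoImplicit false

universe u v

open CategoryTheory ArtFun

namespace Groth.Agent.ArtHull

variable {Λ : Type u} {k : Type u} [CommRing Λ] [Field k] [Algebra Λ k]

theorem isSmooth_hR_of_adicFormallySmooth [IsNoetherianRing Λ] [Module.Finite Λ k] (R : CRing Λ k)
    (h : CAlgX.IsAdicFormallySmooth Λ R.carrier (IsLocalRing.maximalIdeal R.carrier)) :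
    IsSmoothFunctor (hR R.carrier R.res) := by
  suffices hsmall : ∀ {B A : Art Λ k} (p : B ⟶ A), Art.IsSmallExt p →
      ∀ φ : HomSet R.carrier R.res A, ∃ ψ, HomSet.map p ψ = φ by
    intro B A μ hμ
    refine surjective_induction (fun {B A} μ => Function.Surjective ((hR R.carrier R.res).map μ))
      (fun f hf φ => ?_) (fun g t _ hg ht φ => ?_) μ hμ
    · obtain ⟨f', -, hf'⟩ := exists_inv_of_bijective f hf
      exact ⟨HomSet.map f' φ, by
        change HomSet.map (f' ≫ f) φ = φ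
        rw [hf']; exact Subtype.ext (AlgHom.id_comp _)⟩
    · obtain ⟨ψ, rfl⟩ := ht φ
      rcases hg with hg | hg
      · obtain ⟨g', -, hg'⟩ := exists_inv_of_bijective g hg
        refine ⟨HomSet.map g' ψ, ?_⟩
        change HomSet.map t (HomSet.map (g' ≫ g) ψ) = HomSet.map t ψ
        rw [hg']; exact congrArg _ (Subtype.ext (AlgHom.id_comp _))
      · obtain ⟨χ, rfl⟩ := hsmall g hg ψ
        exact ⟨χ, rfl⟩
  intro B A p hp φ
  obtain ⟨hsurj, -, -, hann⟩ := hp
  let J : Ideal B := RingHom.ker p.toAlgHom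
  have hJ2 : J ^ 2 = ⊥ := by
    rw [eq_bot_iff, ← hann, sq]
    exact Ideal.mul_mono_left (ker_le_maximalIdeal p)
  let e : (B ⧸ J) ≃ₐ[Λ] A := Ideal.quotientKerAlgEquivOfSurjective hsurj
  obtain ⟨N, g, hg⟩ := exists_factor φ
  have hφ : ∀ x ∈ IsLocalRing.maximalIdeal R.carrier ^ (N + 1), φ.1 x = 0 := fun x hx => by
    rw [← hg]
    change g.toAlgHom (Ideal.Quotient.mk _ x) = 0
    exact (congrArg g.toAlgHom (Ideal.Quotient.eq_zero_iff_mem.mpr hx)).trans (map_zero g.toAlgHom)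
  obtain ⟨χ, hχ⟩ := h B J hJ2 (e.symm.toAlgHom.comp φ.1)
    ⟨N + 1, fun x hx => by
      change e.symm (φ.1 x) = 0
      rw [hφ x hx, map_zero]⟩
  have hpχ : ∀ x, p (χ x) = φ.1 x := fun x => by
    have h1 : e (Ideal.Quotient.mk J (χ x)) = φ.1 x := by
      rw [show Ideal.Quotient.mk J (χ x) = e.symm (φ.1 x) from AlgHom.congr_fun hχ x,
        e.apply_symm_apply]
    rw [← h1]
    rfl
  refine ⟨⟨χ, AlgHom.ext fun x => ?_⟩, Subtype.ext (AlgHom.ext hpχ)⟩
  change B.res (χ x) = R.res x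
  rw [← Art.res_app p, hpχ]
  exact AlgHom.congr_fun φ.2 x

set_option backward.isDefEq.respectTransparency false in
theorem adicFormallySmooth_of_isSmooth_hR [IsNoetherianRing Λ] [Module.Finite Λ k] (R : CRing Λ k)
    (h : IsSmoothFunctor (hR R.carrier R.res)) :
    CAlgX.IsAdicFormallySmooth Λ R.carrier (IsLocalRing.maximalIdeal R.carrier) := by
  intro A _ _ J hJ ψ hψ
  obtain ⟨N, hN⟩ := hψ
  rcases subsingleton_or_nontrivial A with hA | hA
  · refine ⟨AlgHom.ofLinearMap 0 (Subsingleton.elim _ _) (fun _ _ => Subsingleton.elim _ _),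
      AlgHom.ext fun x => ?_⟩
    have : Subsingleton (A ⧸ J) := Ideal.Quotient.mk_surjective.subsingleton
    exact Subsingleton.elim _ _
  have hJne : J ≠ ⊤ := fun hJt => by
    rw [hJt, sq, Ideal.top_mul] at hJ
    exact top_ne_bot hJ
  have : Nontrivial (A ⧸ J) := Ideal.Quotient.nontrivial_iff.mpr hJne
  let E := R.trunc N
  have := finite_carrier_of_finite E
  let ψE : E →ₐ[Λ] A ⧸ J := Ideal.Quotient.liftₐ (R.mpow N) ψ
    fun x hx => hN x (Ideal.pow_le_pow_right (Nat.le_succ N) hx)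
  let L : Ideal E := RingHom.ker ψE
  have hL : L ≤ IsLocalRing.maximalIdeal E := IsLocalRing.le_maximalIdeal fun ht => by
    have h1 : ψE 1 = 0 := RingHom.mem_ker.mp (ht ▸ Submodule.mem_top : (1 : E) ∈ L)
    rw [map_one] at h1
    exact one_ne_zero h1
  obtain ⟨n, c, hc⟩ := Submodule.fg_iff_exists_fin_generating_family.1
    (Module.Finite.fg_top (R := Λ) (M := E))
  choose a ha using fun i => Ideal.Quotient.mk_surjective (I := J) (ψE (c i))
  let A₀ : Subalgebra Λ A := Algebra.adjoin Λ (Set.range a)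
  let g : A₀ →ₐ[Λ] A ⧸ J := (Ideal.Quotient.mkₐ Λ J).comp A₀.val
  have hrange : g.range = ψE.range := by
    refine le_antisymm ?_ ?_
    · have h1 : A₀.map (Ideal.Quotient.mkₐ Λ J) ≤ ψE.range := by
        rw [AlgHom.map_adjoin, Algebra.adjoin_le_iff]
        rintro - ⟨-, ⟨i, rfl⟩, rfl⟩
        exact ⟨c i, (ha i).symm⟩
      rintro - ⟨x, rfl⟩
      exact h1 ⟨x.1, x.2, rfl⟩
    · rintro - ⟨y, rfl⟩
      obtain ⟨l, rfl⟩ := (Submodule.mem_span_range_iff_exists_fun Λ).1
        (hc.symm ▸ Submodule.mem_top : y ∈ Submodule.span Λ (Set.range c))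
      change ψE (∑ i, l i • c i) ∈ g.range
      rw [map_sum]
      refine Subalgebra.sum_mem _ fun i _ => ?_
      rw [map_smul]
      exact Subalgebra.smul_mem _ ((AlgHom.mem_range _).mpr
        ⟨⟨a i, Algebra.subset_adjoin ⟨i, rfl⟩⟩, ha i⟩) _
  let P : Art Λ k := Art.quot E L hL
  let θ : P →ₐ[Λ] A ⧸ J := Ideal.Quotient.liftₐ L ψE fun x hx => hx
  have hθ : Function.Injective θ := by
    rw [injective_iff_map_eq_zero]
    intro x hx
    obtain ⟨y, rfl⟩ := Ideal.Quotient.mk_surjective x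
    exact Ideal.Quotient.eq_zero_iff_mem.mpr hx
  have hθr : ∀ x : A₀, g x ∈ θ.range := fun x => by
    obtain ⟨y, hy⟩ := (hrange ▸ ⟨x, rfl⟩ : g x ∈ ψE.range)
    exact ⟨Ideal.Quotient.mk L y, hy⟩
  let π : A₀ →ₐ[Λ] P := (AlgEquiv.ofInjective θ hθ).symm.toAlgHom.comp (g.codRestrict θ.range hθr)
  have hπ : ∀ x, θ (π x) = Ideal.Quotient.mk J x.1 := fun x =>
    congrArg Subtype.val ((AlgEquiv.ofInjective θ hθ).apply_symm_apply ⟨g x, hθr x⟩)
  have hπs : Function.Surjective π := fun y => by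
    obtain ⟨y', rfl⟩ := Ideal.Quotient.mk_surjective y
    obtain ⟨x, hx⟩ := (hrange.symm ▸ ⟨y', rfl⟩ : ψE y' ∈ g.range)
    exact ⟨x, hθ ((hπ x).trans hx)⟩
  have : Algebra.FiniteType Λ A₀ :=
    A₀.fg_iff_finiteType.mp (Subalgebra.fg_def.mpr ⟨Set.range a, Set.finite_range a, rfl⟩)
  have : IsNoetherianRing A₀ := Algebra.FiniteType.isNoetherianRing Λ A₀
  have hker2 : ∀ x y : A₀, π x = 0 → π y = 0 → x * y = 0 := fun x y hx hy => Subtype.ext (by
    change x.1 * y.1 = 0
    have hmem : ∀ z : A₀, π z = 0 → z.1 ∈ J := fun z hz => by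
      have := hπ z
      rw [hz, map_zero] at this
      exact Ideal.Quotient.eq_zero_iff_mem.mp this.symm
    rw [← Ideal.mem_bot, ← hJ, sq]
    exact Ideal.mul_mem_mul (hmem x hx) (hmem y hy))
  have : Module.Finite Λ A₀ := by
    have := finite_carrier_of_finite P
    classical
    obtain ⟨m, d, hd⟩ := Submodule.fg_iff_exists_fin_generating_family.1
      (Module.Finite.fg_top (R := Λ) (M := P))
    choose w hw using fun i => hπs (d i)
    obtain ⟨s, hs⟩ := IsNoetherian.noetherian (RingHom.ker π)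
    refine ⟨⟨Finset.univ.image w ∪ (Finset.univ ×ˢ s).image (fun q : Fin m × A₀ => w q.1 * q.2),
      eq_top_iff.mpr fun x _ => ?_⟩⟩
    set S : Submodule Λ A₀ := Submodule.span Λ _ with hS
    have hdec : ∀ b : A₀, ∃ l : Fin m → Λ, π (b - ∑ i, l i • w i) = 0 := fun b => by
      obtain ⟨l, hl⟩ := (Submodule.mem_span_range_iff_exists_fun Λ).1
        (hd.symm ▸ Submodule.mem_top : π b ∈ Submodule.span Λ (Set.range d))
      exact ⟨l, by simp only [map_sub, map_sum, map_smul, hw, hl, sub_self]⟩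
    have key : ∀ y ∈ RingHom.ker π, y ∈ S := by
      intro y hy
      rw [← hs] at hy
      suffices h' : ∀ b : A₀, b * y ∈ S by simpa using h' 1
      induction hy using Submodule.span_induction with
      | mem z hz =>
        intro b
        obtain ⟨l, hl⟩ := hdec b
        have hz' : π z = 0 := RingHom.mem_ker.mp (hs ▸ Submodule.subset_span hz)
        rw [show b * z = ∑ i, l i • (w i * z) by
          have := hker2 _ _ hl hz'
          rw [sub_mul, sub_eq_zero, Finset.sum_mul] at this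
          simp only [this, smul_mul_assoc]]
        refine S.sum_mem fun i _ => S.smul_mem _ (Submodule.subset_span ?_)
        exact Finset.mem_coe.mpr (Finset.mem_union_right _
          (Finset.mem_image.mpr ⟨(i, z), Finset.mem_product.mpr ⟨Finset.mem_univ _, hz⟩, rfl⟩))
      | zero => exact fun b => by rw [mul_zero]; exact S.zero_mem
      | add y z _ _ hy hz => exact fun b => by rw [mul_add]; exact S.add_mem (hy b) (hz b)
      | smul a y _ ih => exact fun b => by rw [smul_eq_mul, ← mul_assoc]; exact ih _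
    obtain ⟨l, hl⟩ := hdec x
    rw [← sub_add_cancel x (∑ i, l i • w i)]
    exact S.add_mem (key _ hl) (S.sum_mem fun i _ => S.smul_mem _ (Submodule.subset_span
      (Finset.mem_coe.mpr (Finset.mem_union_left _ (Finset.mem_image_of_mem _ (Finset.mem_univ i))))))
  let r₀ : A₀ →ₐ[Λ] k := P.res.comp π
  obtain ⟨C, i, hi⟩ := exists_art_of_finite' A₀ r₀ (P.res_surjective.comp hπs) fun x hx => by
    obtain ⟨j, hj⟩ := isNilpotent_of_res_eq_zero P (a := π x) hx
    exact ⟨j + j, by rw [pow_add]; exact hker2 _ _ (by rw [map_pow, hj]) (by rw [map_pow, hj])⟩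
  let p : C ⟶ P := Art.homMk (π.comp i.symm.toAlgHom) (AlgHom.ext fun y =>
    (AlgHom.congr_fun hi (i.symm y)).symm.trans (congrArg C.res (i.apply_symm_apply y)))
  have hp : Function.Surjective p := fun y => by
    obtain ⟨x, rfl⟩ := hπs y
    exact ⟨i x, congrArg π (i.symm_apply_apply x)⟩
  let φ : HomSet R.carrier R.res P := HomSet.map (Art.quotMk E L hL) (R.truncHom N)
  obtain ⟨φ', hφ'⟩ := h p hp φ
  refine ⟨A₀.val.comp (i.symm.toAlgHom.comp φ'.1), AlgHom.ext fun x => ?_⟩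
  change Ideal.Quotient.mk J (i.symm (φ'.1 x)).1 = ψ x
  rw [← hπ, show π (i.symm (φ'.1 x)) = φ.1 x from AlgHom.congr_fun (congrArg Subtype.val hφ') x]
  rfl

theorem isSmooth_iff_of_versal {R : CRing Λ k} {F : Art Λ k ⥤ Type v} (h0 : H0 F)
    (ξ : Family R.carrier R.res F) (hξ : IsVersal ξ) :
    IsSmoothFunctor F ↔ IsSmoothFunctor (hR R.carrier R.res) := by
  refine ⟨fun hF B A μ hμ φ => ?_, fun hh B A μ hμ y => ?_⟩
  · obtain ⟨y, hy⟩ := hF μ hμ (ξ.app A φ)
    obtain ⟨ψ, hψ, -⟩ := hξ μ hμ φ y hy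
    exact ⟨ψ, hψ⟩
  · obtain ⟨φ, rfl⟩ := versal_surjective hξ h0 A y
    obtain ⟨ψ, rfl⟩ := hh μ hμ φ
    exact ⟨ξ.app B ψ, (ξ.natural μ ψ).symm⟩

end Groth.Agent.ArtHull
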