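import Groth.Agent.S12709
import Groth.Agent.ArtHull.Hull
import Groth.Agent.ArtHull.General
import Groth.Agent.ArtHull.Smooth
import Groth.Agent.ArtHull.MinVersal
import Groth.Agent.ArtHull.Cond
import Groth.Prelude.Def_ArtFun5
import Mathlib.RingTheory.MvPolynomial.Ideal
import Mathlib.Algebra.MvPolynomial.PDeriv
import Mathlib.LinearAlgebra.Matrix.NonsingularInverse

/-!
The T1-lifting criterion in characteristic zero.
-/

set_option autoImplicit false

universe u v

open CategoryTheory ArtFun MvPolynomial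

namespace Groth.Agent.ArtHull

variable {k : Type u} [Field k] {d : ℕ}

theorem sub_C_constantCoeff_mem (p : MvPolynomial (Fin d) k) :
    p - C (constantCoeff p) ∈ idealOfVars (Fin d) k := by
  induction p using MvPolynomial.induction_on with
  | C a =>
    rw [constantCoeff_C, sub_self]
    exact zero_mem _
  | add p q hp hq =>
    convert add_mem hp hq using 1
    simp only [map_add]
    ring
  | mul_X p i _ =>
    simp only [map_mul, constantCoeff_X, mul_zero, map_zero, sub_zero]
    exact Ideal.mul_mem_left _ _ (Ideal.subset_span ⟨i, rfl⟩)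

theorem isMaximal_idealOfVars : (idealOfVars (Fin d) k).IsMaximal := by
  have : idealOfVars (Fin d) k = RingHom.ker (constantCoeff (σ := Fin d) (R := k)) := by
    refine le_antisymm (Ideal.span_le.2 ?_) fun p hp => ?_
    · rintro _ ⟨i, rfl⟩
      exact constantCoeff_X k i
    · have := sub_C_constantCoeff_mem p
      rwa [show constantCoeff p = 0 from hp, map_zero, sub_zero] at this
  rw [this]
  exact RingHom.ker_isMaximal_of_surjective _ fun c => ⟨C c, constantCoeff_C _ c⟩

theorem res_aeval (A : Art k k) (y : Fin d → A) (hy : ∀ i, A.res (y i) = 0) (p : MvPolynomial (Fin d) k) :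
    A.res (aeval y p) = constantCoeff p := by
  induction p using MvPolynomial.induction_on with
  | C a =>
    rw [aeval_C, AlgHom.commutes, constantCoeff_C]
    rfl
  | add p q hp hq => simp [map_add, hp, hq]
  | mul_X p i hp => simp [map_mul, hp, hy]

/-- `k[X]/(X)^(N+1)` as an object, receiving evaluation maps. -/
theorem exists_polyTrunc (d N : ℕ) :
    ∃ (Q : Art k k) (π : MvPolynomial (Fin d) k →ₐ[k] Q), Function.Surjective π ∧
      RingHom.ker π = idealOfVars (Fin d) k ^ (N + 1) ∧ ∀ p, Q.res (π p) = constantCoeff p := by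
  let P := MvPolynomial (Fin d) k
  let M : Ideal P := idealOfVars (Fin d) k
  let I : Ideal P := M ^ (N + 1)
  have hIM : I ≤ M := Ideal.pow_le_self (Nat.succ_ne_zero N)
  have hM := isMaximal_idealOfVars (k := k) (d := d)
  have : Nontrivial (P ⧸ I) := Ideal.Quotient.nontrivial_iff.2 fun h => hM.ne_top (top_le_iff.1 (h ▸ hIM))
  let M' : Ideal (P ⧸ I) := Ideal.map (Ideal.Quotient.mk I) M
  have hpow : M' ^ (N + 1) = ⊥ := by
    rw [← Ideal.map_pow]
    exact Ideal.map_quotient_self _
  have huniq : ∀ J : Ideal (P ⧸ I), J.IsMaximal → J = M' := fun J hJ => by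
    have hle : M' ≤ J := fun a ha => hJ.isPrime.mem_of_pow_mem (N + 1) (by
      have h0 : a ^ (N + 1) ∈ M' ^ (N + 1) := Ideal.pow_mem_pow ha (N + 1)
      rw [hpow, Ideal.mem_bot] at h0
      rw [h0]
      exact zero_mem _)
    exact ((Ideal.IsMaximal.map_of_surjective_of_ker_le Ideal.Quotient.mk_surjective
      (by rwa [Ideal.mk_ker]) : M'.IsMaximal).eq_of_le hJ.ne_top hle).symm
  have : IsLocalRing (P ⧸ I) := .of_unique_max_ideal (by
    obtain ⟨J, hJ⟩ := Ideal.exists_maximal (P ⧸ I)
    exact ⟨J, hJ, fun J' hJ' => (huniq J' hJ').trans (huniq J hJ).symm⟩)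
  have : IsArtinianRing (P ⧸ I) := (isArtinianRing_iff_isNilpotent_maximalIdeal _).2
    ⟨N + 1, by rw [huniq _ (IsLocalRing.maximalIdeal.isMaximal _), hpow]; rfl⟩
  have hcc : ∀ p ∈ I, aeval (fun _ : Fin d => (0 : k)) p = 0 := fun p hp => by
    refine (Ideal.span_le.2 ?_ : idealOfVars (Fin d) k ≤ RingHom.ker (aeval fun _ : Fin d => (0 : k))) (hIM hp)
    rintro _ ⟨i, rfl⟩
    exact aeval_X (fun _ : Fin d => (0 : k)) i
  refine ⟨Art.of (P ⧸ I) (Ideal.Quotient.liftₐ I (aeval fun _ : Fin d => (0 : k)) hcc) fun c =>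
    ⟨Ideal.Quotient.mk I (C c), aeval_C _ c⟩, Ideal.Quotient.mkₐ k I, Ideal.Quotient.mk_surjective,
    Ideal.mk_ker, fun p => ?_⟩
  change aeval (fun _ : Fin d => (0 : k)) p = constantCoeff p
  induction p using MvPolynomial.induction_on with
  | C a => simp
  | add p q hp hq => simp [map_add, hp, hq]
  | mul_X p i hp => simp [map_mul, hp]

/-- Minimal generators of the maximal ideal, in the linear sense. -/
theorem exists_minimal_gens (R : CRing k k) :
    ∃ (d : ℕ) (x : Fin d → R.carrier), (∀ i, x i ∈ IsLocalRing.maximalIdeal R.carrier) ∧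
      IsLocalRing.maximalIdeal R.carrier ≤ Ideal.span (Set.range x) ⊔ IsLocalRing.maximalIdeal R.carrier ^ 2 ∧
      ∀ c : Fin d → k, (∑ i, algebraMap k R.carrier (c i) * x i) ∈ IsLocalRing.maximalIdeal R.carrier ^ 2 → c = 0 := by
  classical
  let m := IsLocalRing.maximalIdeal R.carrier
  have hex : ∃ r, ∃ x : Fin r → R.carrier, (∀ i, x i ∈ m) ∧ m ≤ Ideal.span (Set.range x) ⊔ m ^ 2 := by
    obtain ⟨r, x, hx⟩ := Submodule.fg_iff_exists_fin_generating_family.1 (IsNoetherian.noetherian m)
    exact ⟨r, x, fun i => hx.le (Submodule.subset_span ⟨i, rfl⟩), hx.ge.trans le_sup_left⟩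
  obtain ⟨d, ⟨x, hxm, hx⟩, hmin⟩ : ∃ r, (∃ x : Fin r → R.carrier, (∀ i, x i ∈ m) ∧
      m ≤ Ideal.span (Set.range x) ⊔ m ^ 2) ∧
      ∀ s < r, ¬ ∃ x : Fin s → R.carrier, (∀ i, x i ∈ m) ∧ m ≤ Ideal.span (Set.range x) ⊔ m ^ 2 :=
    ⟨Nat.find hex, Nat.find_spec hex, fun s hs => Nat.find_min hex hs⟩
  refine ⟨d, x, hxm, hx, fun c hc => funext fun i => ?_⟩
  by_contra hci
  rcases d with _ | d
  · exact i.elim0
  refine hmin d (Nat.lt_succ_self d) ⟨fun j => x (i.succAbove j), fun j => hxm _,
    hx.trans (sup_le (Ideal.span_le.2 ?_) le_sup_right)⟩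
  rintro _ ⟨j, rfl⟩
  rcases Fin.eq_self_or_eq_succAbove i j with rfl | ⟨l, rfl⟩
  · rw [Fin.sum_univ_succAbove _ j] at hc
    have hu : algebraMap k R.carrier (c j)⁻¹ * algebraMap k R.carrier (c j) = 1 := by
      rw [← map_mul, inv_mul_cancel₀ hci, map_one]
    have hxj : x j = algebraMap k R.carrier (c j)⁻¹ * (algebraMap k R.carrier (c j) * x j +
          ∑ l, algebraMap k R.carrier (c (j.succAbove l)) * x (j.succAbove l)) -
        algebraMap k R.carrier (c j)⁻¹ * ∑ l, algebraMap k R.carrier (c (j.succAbove l)) * x (j.succAbove l) := by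
      rw [mul_add, add_sub_cancel_right, ← mul_assoc, hu, one_mul]
    rw [SetLike.mem_coe, hxj]
    exact sub_mem (Ideal.mem_sup_right (Ideal.mul_mem_left _ _ hc)) (Ideal.mem_sup_left
      (Ideal.mul_mem_left _ _ (Ideal.sum_mem _ fun l _ =>
        Ideal.mul_mem_left _ _ (Ideal.subset_span ⟨l, rfl⟩))))
  · exact Ideal.mem_sup_left (Ideal.subset_span ⟨l, rfl⟩)

section Trunc

variable (R : CRing k k) (x : Fin d → R.carrier)

/-- Evaluation into a truncation. -/
noncomputable def truncEval (N : ℕ) : MvPolynomial (Fin d) k →ₐ[k] R.trunc N :=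
  (R.truncHom N).1.comp (aeval x)

variable {R x}

theorem res_truncEval (hxm : ∀ i, x i ∈ IsLocalRing.maximalIdeal R.carrier) (N : ℕ)
    (p : MvPolynomial (Fin d) k) : (R.trunc N).res (truncEval R x N p) = constantCoeff p := by
  rw [← res_aeval (R.trunc N) (fun i => (R.truncHom N).1 (x i)) (fun i =>
    (AlgHom.congr_fun (R.truncHom N).2 (x i)).trans ((CRing.mem_maximalIdeal_iff R _).1 (hxm i))) p]
  congr 1
  exact AlgHom.congr_fun (comp_aeval (R := k) (f := x) (R.truncHom N).1) p

theorem pow_idealOfVars_le_ker (hxm : ∀ i, x i ∈ IsLocalRing.maximalIdeal R.carrier) (N : ℕ) :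
    idealOfVars (Fin d) k ^ (N + 1) ≤ RingHom.ker (truncEval R x N) := fun p hp => by
  have h1 : aeval x p ∈ Ideal.map (aeval x) (idealOfVars (Fin d) k ^ (N + 1)) := Ideal.mem_map_of_mem _ hp
  rw [Ideal.map_pow] at h1
  have h2 : Ideal.map (aeval x) (idealOfVars (Fin d) k) ≤ IsLocalRing.maximalIdeal R.carrier := by
    rw [Ideal.map_span, Ideal.span_le]
    rintro _ ⟨_, ⟨i, rfl⟩, rfl⟩
    rw [aeval_X]
    exact hxm i
  exact (Ideal.Quotient.eq_zero_iff_mem.2 (Ideal.pow_right_mono h2 (N + 1) h1) :)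

theorem truncEval_surjective (hxm : ∀ i, x i ∈ IsLocalRing.maximalIdeal R.carrier)
    (hx : IsLocalRing.maximalIdeal R.carrier ≤ Ideal.span (Set.range x) ⊔ IsLocalRing.maximalIdeal R.carrier ^ 2)
    (N : ℕ) : Function.Surjective (truncEval R x N) := by
  obtain ⟨Q, π, hπ, hker, hres⟩ := exists_polyTrunc (k := k) d N
  have hkle : RingHom.ker π.toRingHom ≤ RingHom.ker (truncEval R x N).toRingHom :=
    hker.le.trans (pow_idealOfVars_le_ker hxm N)
  let e₀ := AlgHom.liftOfSurjective π hπ (truncEval R x N) hkle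
  have he₀ : ∀ p, e₀ (π p) = truncEval R x N p :=
    AlgHom.congr_fun (AlgHom.liftOfSurjective_comp π hπ (truncEval R x N) hkle)
  let e : Q ⟶ R.trunc N := Art.homMk e₀ (AlgHom.ext fun q => by
    obtain ⟨p, rfl⟩ := hπ q
    change (R.trunc N).res (e₀ (π p)) = Q.res (π p)
    rw [he₀, hres, res_truncEval hxm])
  have hs : Function.Surjective e := by
    refine ((S12709.result e).out 1 0).1 (le_antisymm (sup_le ?_ (Ideal.pow_le_self two_ne_zero)) fun a ha => ?_)
    · refine Ideal.map_le_iff_le_comap.2 fun q hq => ?_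
      rw [Ideal.mem_comap, Art.mem_maximalIdeal_iff, Art.res_app]
      exact (Art.mem_maximalIdeal_iff Q q).1 hq
    · obtain ⟨r, rfl⟩ := Ideal.Quotient.mk_surjective a
      have hr : r ∈ IsLocalRing.maximalIdeal R.carrier :=
        (CRing.mem_maximalIdeal_iff R r).2 ((Art.mem_maximalIdeal_iff (R.trunc N) _).1 ha :)
      refine (?_ : Ideal.map (R.truncHom N).1 _ ≤ _) (Ideal.mem_map_of_mem (R.truncHom N).1 (hx hr))
      rw [Ideal.map_sup, Ideal.map_pow, Ideal.map_span]
      refine sup_le ((Ideal.span_le.2 ?_).trans le_sup_left)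
        ((Ideal.pow_right_mono (Ideal.map_le_iff_le_comap.2 fun r hr => ?_) 2).trans le_sup_right)
      · rintro _ ⟨_, ⟨i, rfl⟩, rfl⟩
        have h1 : π (MvPolynomial.X i) ∈ IsLocalRing.maximalIdeal Q := by
          rw [Art.mem_maximalIdeal_iff, hres, constantCoeff_X]
        have h2 := Ideal.mem_map_of_mem e.toAlgHom h1
        rw [show e.toAlgHom (π (MvPolynomial.X i)) = (R.truncHom N).1 (x i) from
          (he₀ _).trans (congrArg (R.truncHom N).1 (aeval_X x i))] at h2
        exact h2
      · rw [Ideal.mem_comap, Art.mem_maximalIdeal_iff]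
        exact (AlgHom.congr_fun (R.truncHom N).2 r).trans ((CRing.mem_maximalIdeal_iff R r).1 hr)
  intro a
  obtain ⟨q, rfl⟩ := hs a
  obtain ⟨p, rfl⟩ := hπ q
  exact ⟨p, (he₀ p).symm⟩

end Trunc

section Jet

variable (A : Art k k) (d)

/-- `A ⊕ A^d` as an object. -/
theorem exists_jetArt :
    ∃ (J : Art k k) (e : J.carrier ≃ₐ[k] TrivSqZeroExt A.carrier (Fin d → A.carrier)),
      ∀ j, J.res j = A.res (e j).fst := by
  let T := TrivSqZeroExt A.carrier (Fin d → A.carrier)
  have : IsLocalRing T := IsLocalRing.of_isUnit_or_isUnit_one_sub_self fun x => by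
    rw [TrivSqZeroExt.isUnit_iff_isUnit_fst, TrivSqZeroExt.isUnit_iff_isUnit_fst, TrivSqZeroExt.fst_sub,
      TrivSqZeroExt.fst_one]
    exact IsLocalRing.isUnit_or_isUnit_one_sub_self _
  have := finite_carrier_of_finite A
  have : Module.Finite k T := inferInstanceAs (Module.Finite k (A.carrier × (Fin d → A.carrier)))
  have : IsArtinianRing T := IsArtinianRing.of_finite k T
  exact ⟨Art.of T (A.res.comp (TrivSqZeroExt.fstHom k A.carrier (Fin d → A.carrier))) fun c =>
    ⟨algebraMap k T c, AlgHom.commutes _ c⟩, AlgEquiv.refl, fun _ => rfl⟩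

variable {A d}

theorem snd_mem_of_mem_pow {T : Type*} [CommRing T] (φ : T →+* TrivSqZeroExt A.carrier (Fin d → A.carrier))
    (I : Ideal T) (hI : ∀ t ∈ I, (φ t).fst ∈ IsLocalRing.maximalIdeal A.carrier) (n : ℕ) :
    ∀ t ∈ I ^ (n + 1), (φ t).fst ∈ IsLocalRing.maximalIdeal A.carrier ^ (n + 1) ∧
      ∀ j, (φ t).snd j ∈ IsLocalRing.maximalIdeal A.carrier ^ n := by
  induction n with
  | zero =>
    intro t ht
    rw [zero_add, pow_one] at ht ⊢
    exact ⟨hI t ht, fun j => by rw [pow_zero, Ideal.one_eq_top]; trivial⟩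
  | succ n ih =>
    intro t ht
    rw [pow_succ] at ht
    refine Submodule.mul_induction_on ht (fun a ha b hb => ?_) fun a b ha hb => ?_
    · obtain ⟨h1, h2⟩ := ih a ha
      have h3 := hI b hb
      rw [map_mul, TrivSqZeroExt.fst_mul, TrivSqZeroExt.snd_mul]
      refine ⟨by rw [pow_succ]; exact Ideal.mul_mem_mul h1 h3, fun j => ?_⟩
      rw [op_smul_eq_smul, Pi.add_apply, Pi.smul_apply, Pi.smul_apply, smul_eq_mul, smul_eq_mul]
      refine add_mem (Ideal.mul_mem_right _ _ h1) ?_
      rw [pow_succ']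
      exact Ideal.mul_mem_mul h3 (h2 j)
    · rw [map_add, TrivSqZeroExt.fst_add, TrivSqZeroExt.snd_add]
      exact ⟨add_mem ha.1 hb.1, fun j => by rw [Pi.add_apply]; exact add_mem (ha.2 j) (hb.2 j)⟩

end Jet

section Main

variable {F : Art k k ⥤ Type v}

/-- Truncated polynomial rings map isomorphically onto the truncations of the hull. -/
theorem ker_truncEval_le [CharZero k] {R : CRing k k} {ξ : Family R.carrier R.res F} (hξ : IsVersal ξ)
    (hT1 : ∀ ⦃A A' A'' : Art k k⦄ (π' : A' ⟶ A) (i' : A ⟶ A') (π'' : A'' ⟶ A) (i'' : A ⟶ A'')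
        (q : A'' ⟶ A'), i' ≫ π' = 𝟙 A → i'' ≫ π'' = 𝟙 A →
        RingHom.ker π'.toAlgHom * RingHom.ker π'.toAlgHom = ⊥ →
        RingHom.ker π''.toAlgHom * RingHom.ker π''.toAlgHom = ⊥ →
        q ≫ π' = π'' → i'' ≫ q = i' → Function.Surjective q → Function.Surjective (F.map q))
    {x : Fin d → R.carrier} (hxm : ∀ i, x i ∈ IsLocalRing.maximalIdeal R.carrier)
    (hx : IsLocalRing.maximalIdeal R.carrier ≤ Ideal.span (Set.range x) ⊔ IsLocalRing.maximalIdeal R.carrier ^ 2)
    (hind : ∀ c : Fin d → k, (∑ i, algebraMap k R.carrier (c i) * x i) ∈ IsLocalRing.maximalIdeal R.carrier ^ 2 → c = 0)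
    (N : ℕ) : RingHom.ker (truncEval R x N) ≤ idealOfVars (Fin d) k ^ (N + 1) := by
  -- the linear map `R → k^d` dual to `x`
  have hxres : ∀ i, R.res (x i) = 0 := fun i => (CRing.mem_maximalIdeal_iff R _).1 (hxm i)
  let T₁ := tszeArt k k d
  let η₀ : TrivSqZeroExt k (Fin d → k) →ₐ[k] R.trunc 1 :=
    TrivSqZeroExt.lift (Algebra.ofId k _)
      { toFun := fun c => (R.truncHom 1).1 (∑ i, algebraMap k R.carrier (c i) * x i)
        map_add' := fun a b => by simp [add_mul, Finset.sum_add_distrib]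
        map_smul' := fun a b => by
          rw [← map_smul, Finset.smul_sum]
          simp [Algebra.smul_def, mul_assoc] }
      (fun a b => by
        have hmem : ∀ c : Fin d → k, ∑ i, algebraMap k R.carrier (c i) * x i ∈
            IsLocalRing.maximalIdeal R.carrier :=
          fun c => Ideal.sum_mem _ fun i _ => Ideal.mul_mem_left _ _ (hxm i)
        change (R.truncHom 1).1 _ * (R.truncHom 1).1 _ = 0
        rw [← map_mul]
        refine Ideal.Quotient.eq_zero_iff_mem.2 (?_ : _ ∈ IsLocalRing.maximalIdeal R.carrier ^ (1 + 1))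
        rw [pow_succ, pow_one]
        exact Ideal.mul_mem_mul (hmem a) (hmem b))
      (fun r c => by
        change (R.truncHom 1).1 _ = algebraMap k _ r * (R.truncHom 1).1 _
        rw [← (R.truncHom 1).1.commutes r, ← map_mul, Finset.mul_sum]
        simp [mul_assoc])
      (fun r c => by
        change (R.truncHom 1).1 _ = (R.truncHom 1).1 _ * algebraMap k _ r
        rw [← (R.truncHom 1).1.commutes r, ← map_mul, Finset.sum_mul]
        simp [op_smul_eq_smul, mul_comm, mul_left_comm])
  have hη₀ : ∀ (r : k) (c : Fin d → k), η₀ (TrivSqZeroExt.inl r + TrivSqZeroExt.inr c) =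
      (R.truncHom 1).1 (algebraMap k R.carrier r + ∑ i, algebraMap k R.carrier (c i) * x i) := fun r c => by
    rw [map_add, TrivSqZeroExt.lift_apply_inl, TrivSqZeroExt.lift_apply_inr, map_add, AlgHom.commutes]
    rfl
  have hη₀' : ∀ e, η₀ e = (R.truncHom 1).1 (algebraMap k R.carrier e.fst +
      ∑ i, algebraMap k R.carrier (e.snd i) * x i) := fun e => by
    rw [← hη₀, TrivSqZeroExt.inl_fst_add_inr_snd_eq]
  have hres' : ∀ e : TrivSqZeroExt k (Fin d → k), R.res (algebraMap k R.carrier e.fst +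
      ∑ i, algebraMap k R.carrier (e.snd i) * x i) = e.fst := fun e => by
    rw [map_add, AlgHom.commutes, map_sum]
    simp [hxres]
  let η : T₁ ⟶ R.trunc 1 := Art.homMk η₀ (AlgHom.ext fun e =>
    (congrArg (R.trunc 1).res (hη₀' e)).trans ((AlgHom.congr_fun (R.truncHom 1).2 _).trans (hres' e)))
  have hη : Function.Bijective η := by
    refine ⟨?_, fun a => ?_⟩
    · rw [injective_iff_map_eq_zero η.toAlgHom]
      intro e he
      replace he := (hη₀' e).symm.trans he
      have he' : algebraMap k R.carrier (TrivSqZeroExt.fst e) + ∑ i, algebraMap k R.carrier (TrivSqZeroExt.snd e i) * x i ∈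
          IsLocalRing.maximalIdeal R.carrier ^ 2 := Ideal.Quotient.eq_zero_iff_mem.1 he
      have h0 : TrivSqZeroExt.fst e = (0 : k) :=
        (hres' e).symm.trans ((CRing.mem_maximalIdeal_iff R _).1 (Ideal.pow_le_self two_ne_zero he'))
      rw [h0, map_zero, zero_add] at he'
      exact TrivSqZeroExt.ext h0 (hind _ he')
    · obtain ⟨p, rfl⟩ := truncEval_surjective hxm hx 1 a
      refine ⟨aeval (fun i => (TrivSqZeroExt.inr (Pi.single i 1) : TrivSqZeroExt k (Fin d → k))) p, ?_⟩
      refine AlgHom.congr_fun (φ₁ := η₀.comp (aeval _)) (φ₂ := truncEval R x 1) (algHom_ext fun i => ?_) p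
      rw [AlgHom.comp_apply, aeval_X, TrivSqZeroExt.lift_apply_inr]
      change (R.truncHom 1).1 _ = (R.truncHom 1).1 (aeval x (MvPolynomial.X i))
      rw [aeval_X]
      congr 1
      simp [Pi.single_apply, apply_ite (algebraMap k R.carrier)]
  obtain ⟨ηinv, hη₁, hη₂⟩ := exists_inv_of_bijective η hη
  let D₀ : HomSet R.carrier R.res T₁ := HomSet.map ηinv (R.truncHom 1)
  have hD₀ : ∀ i, D₀.1 (x i) = (TrivSqZeroExt.inr (Pi.single i 1) : TrivSqZeroExt k (Fin d → k)) := fun i => by
    refine hη.1 ?_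
    change η (ηinv ((R.truncHom 1).1 (x i))) = η₀ (TrivSqZeroExt.inr (Pi.single i 1))
    rw [TrivSqZeroExt.lift_apply_inr]
    refine (AlgHom.congr_fun (congrArg Art.Hom.toAlgHom hη₂) _).trans ?_
    change (R.truncHom 1).1 (x i) = (R.truncHom 1).1 _
    congr 1
    simp [Pi.single_apply, apply_ite (algebraMap k R.carrier)]
  induction N with
  | zero =>
    intro p hp
    have h0 : constantCoeff p = 0 := by
      rw [← res_truncEval hxm 0 p, show truncEval R x 0 p = 0 from hp, map_zero]
    have := sub_C_constantCoeff_mem p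
    rw [h0, map_zero, sub_zero] at this
    rwa [zero_add, pow_one]
  | succ N ih =>
    intro f hf
    let A := R.trunc N
    obtain ⟨A', π', pr, hA'⟩ := exists_fibreProd_of_surjective (Art.toBase A) (Art.toBase T₁) (toBase_surjective T₁)
    let σ : Art.base k k ⟶ T₁ := Art.homMk (Algebra.ofId k _) (AlgHom.ext fun _ => rfl)
    obtain ⟨i', hi'₁, hi'₂⟩ := fibreProd_liftHom hA' (𝟙 A) (Art.toBase A ≫ σ)
      ((Art.eq_toBase _).trans (Art.eq_toBase _).symm)
    obtain ⟨A'', e, he⟩ := exists_jetArt d A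
    let π'' : A'' ⟶ A := Art.homMk ((TrivSqZeroExt.fstHom k A.carrier (Fin d → A.carrier)).comp e.toAlgHom)
      (AlgHom.ext fun j => (he j).symm)
    let i'' : A ⟶ A'' := Art.homMk (e.symm.toAlgHom.comp (TrivSqZeroExt.inlAlgHom k A.carrier (Fin d → A.carrier)))
      (AlgHom.ext fun a => by
        change A''.res (e.symm (TrivSqZeroExt.inl a)) = _
        rw [he, e.apply_symm_apply, TrivSqZeroExt.fst_inl])
    let red₀ : TrivSqZeroExt A.carrier (Fin d → A.carrier) →ₐ[k] TrivSqZeroExt k (Fin d → k) :=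
      { toFun := fun z => TrivSqZeroExt.inl (A.res z.fst) + TrivSqZeroExt.inr (fun j => A.res (z.snd j))
        map_one' := TrivSqZeroExt.ext (by simp) (funext fun j => by simp)
        map_mul' := fun a b => TrivSqZeroExt.ext (by simp)
          (funext fun j => by simp [TrivSqZeroExt.snd_mul])
        map_zero' := TrivSqZeroExt.ext (by simp) (funext fun j => by simp)
        map_add' := fun a b => TrivSqZeroExt.ext (by simp) (funext fun j => by simp)
        commutes' := fun c => TrivSqZeroExt.ext (by simp [TrivSqZeroExt.algebraMap_eq_inl'])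
          (funext fun j => by simp [TrivSqZeroExt.algebraMap_eq_inl']) }
    let red : A'' ⟶ T₁ := Art.homMk (red₀.comp e.toAlgHom) (AlgHom.ext fun j => by
      change TrivSqZeroExt.fst (red₀ (e j)) = _
      rw [he]
      simp [red₀])
    obtain ⟨q, hq₁, hq₂⟩ := fibreProd_liftHom hA' π'' red ((Art.eq_toBase _).trans (Art.eq_toBase _).symm)
    have hk' : RingHom.ker π'.toAlgHom * RingHom.ker π'.toAlgHom = ⊥ := by
      refine le_bot_iff.1 (Ideal.mul_le.2 fun a ha b hb => (Submodule.mem_bot _).2 (hA'.inj _ _ ?_ ?_))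
      · rw [map_mul, RingHom.mem_ker.1 ha, zero_mul, map_zero]
      · have key : ∀ u v : TrivSqZeroExt k (Fin d → k), u.fst = 0 → v.fst = 0 → u * v = 0 := fun u v hu hv =>
          TrivSqZeroExt.ext (by simp [hu]) (by simp [TrivSqZeroExt.snd_mul, hu, hv])
        have hfst : ∀ z : A', TrivSqZeroExt.fst (pr z : TrivSqZeroExt k (Fin d → k)) = A.res (π' z) := fun z =>
          (hA'.w_apply z).symm
        rw [map_mul, map_zero]
        exact key _ _ (by rw [hfst, RingHom.mem_ker.1 ha, map_zero]) (by rw [hfst, RingHom.mem_ker.1 hb, map_zero])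
    have hk'' : RingHom.ker π''.toAlgHom * RingHom.ker π''.toAlgHom = ⊥ := by
      refine le_bot_iff.1 (Ideal.mul_le.2 fun a ha b hb => (Submodule.mem_bot _).2 (e.injective ?_))
      rw [map_mul, map_zero]
      exact TrivSqZeroExt.ext (by simp [show (e a).fst = 0 from ha])
        (by simp [TrivSqZeroExt.snd_mul, show (e a).fst = 0 from ha, show (e b).fst = 0 from hb])
    have hqi : i'' ≫ q = i' := by
      refine Art.hom_ext (AlgHom.ext fun a => hA'.inj _ _ ?_ ?_)
      · refine (AlgHom.congr_fun (congrArg Art.Hom.toAlgHom hq₁) (i'' a)).trans ?_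
        refine Eq.trans ?_ (AlgHom.congr_fun (congrArg Art.Hom.toAlgHom hi'₁) a).symm
        change (e (e.symm (TrivSqZeroExt.inl a))).fst = a
        rw [e.apply_symm_apply, TrivSqZeroExt.fst_inl]
      · refine (AlgHom.congr_fun (congrArg Art.Hom.toAlgHom hq₂) (i'' a)).trans ?_
        refine Eq.trans ?_ (AlgHom.congr_fun (congrArg Art.Hom.toAlgHom hi'₂) a).symm
        change red₀ (e (e.symm (TrivSqZeroExt.inl a))) = algebraMap k _ (A.res a)
        rw [e.apply_symm_apply]
        exact TrivSqZeroExt.ext (by simp [red₀, TrivSqZeroExt.algebraMap_eq_inl'])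
          (funext fun j => by simp [red₀, TrivSqZeroExt.algebraMap_eq_inl'])
    have hii : i'' ≫ π'' = 𝟙 A := by rw [← hq₁, ← Category.assoc, hqi, hi'₁]
    have hqs : Function.Surjective q := fun z => by
      choose l hl using fun j => A.res_surjective (TrivSqZeroExt.snd (pr z : TrivSqZeroExt k (Fin d → k)) j)
      refine ⟨e.symm (TrivSqZeroExt.inl (π' z) + TrivSqZeroExt.inr l), hA'.inj _ _ ?_ ?_⟩
      · refine (AlgHom.congr_fun (congrArg Art.Hom.toAlgHom hq₁) _).trans ?_
        change (e (e.symm _)).fst = π' z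
        simp
      · refine (AlgHom.congr_fun (congrArg Art.Hom.toAlgHom hq₂) _).trans ?_
        change red₀ (e (e.symm _)) = pr z
        rw [e.apply_symm_apply]
        exact TrivSqZeroExt.ext (by simp [red₀]; exact hA'.w_apply z) (funext fun j => by simp [red₀, hl])
    obtain ⟨φ', hφ'₁, hφ'₂⟩ := fibreProd_lift hA' (R.truncHom N) D₀
      (Subtype.ext (AlgHom.ext fun r => (AlgHom.congr_fun (R.truncHom N).2 r).trans (AlgHom.congr_fun D₀.2 r).symm))
    obtain ⟨y, hy⟩ := hT1 π' i' π'' i'' q hi'₁ hii hk' hk'' hq₁ hqi hqs (ξ.app A' φ')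
    obtain ⟨ψ, hψ, -⟩ := hξ q hqs φ' y hy
    let Ψ : R.carrier →ₐ[k] TrivSqZeroExt A.carrier (Fin d → A.carrier) := e.toAlgHom.comp ψ.1
    have hΨfst : ∀ r, (Ψ r).fst = (R.truncHom N).1 r := fun r => by
      refine Eq.trans ?_ (congrArg (fun v : HomSet R.carrier R.res A => v.1 r) hφ'₁)
      rw [← hψ]
      exact (AlgHom.congr_fun (congrArg Art.Hom.toAlgHom hq₁) (ψ.1 r)).symm
    have hΨsnd : ∀ i j, A.res ((Ψ (x i)).snd j) = (Pi.single i 1 : Fin d → k) j := fun i j => by
      have h1 : red₀ (Ψ (x i)) = D₀.1 (x i) := by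
        refine Eq.trans ?_ (congrArg (fun v : HomSet R.carrier R.res T₁ => v.1 (x i)) hφ'₂)
        rw [← hψ]
        exact (AlgHom.congr_fun (congrArg Art.Hom.toAlgHom hq₂) (ψ.1 (x i))).symm
      rw [hD₀] at h1
      have h2 := congrFun (congrArg TrivSqZeroExt.snd h1) j
      simpa [red₀] using h2
    -- the chain rule
    have hchain : ∀ g : MvPolynomial (Fin d) k,
        (Ψ (aeval x g)).snd = ∑ i, truncEval R x N (pderiv i g) • (Ψ (x i)).snd := by
      intro g
      induction g using MvPolynomial.induction_on with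
      | C a => simp [TrivSqZeroExt.algebraMap_eq_inl']
      | add p q hp hq => simp [map_add, hp, hq, add_smul, Finset.sum_add_distrib]
      | mul_X p i hp =>
        rw [map_mul, map_mul, aeval_X, TrivSqZeroExt.snd_mul, op_smul_eq_smul, hp, hΨfst, hΨfst]
        simp only [pderiv_mul, map_add, map_mul, add_smul, Finset.sum_add_distrib, pderiv_X, Finset.smul_sum,
          smul_smul]
        rw [add_comm]
        congr 1
        · exact Finset.sum_congr rfl fun j _ => by rw [mul_comm]; simp [truncEval, aeval_X]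
        · simp [Pi.single_apply, truncEval, apply_ite ((R.truncHom N).1), Finset.sum_ite_eq, ite_smul,
            apply_ite (truncEval R x N)]
    have hzero : ∀ j, (Ψ (aeval x f)).snd j = 0 := by
      intro j
      have hm : IsLocalRing.maximalIdeal A.carrier ^ (N + 1) = ⊥ := by
        rw [← le_bot_iff]
        have hle : IsLocalRing.maximalIdeal A.carrier ≤
            Ideal.map (R.truncHom N).1 (IsLocalRing.maximalIdeal R.carrier) := fun a ha => by
          obtain ⟨r, rfl⟩ := Ideal.Quotient.mk_surjective a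
          exact Ideal.mem_map_of_mem (R.truncHom N).1
            ((CRing.mem_maximalIdeal_iff R r).2 ((Art.mem_maximalIdeal_iff A _).1 ha :))
        refine (Ideal.pow_right_mono hle (N + 1)).trans ?_
        rw [← Ideal.map_pow]
        exact (Ideal.map_quotient_self _).le
      have h2 := (snd_mem_of_mem_pow Ψ.toRingHom (IsLocalRing.maximalIdeal R.carrier) (fun r hr => by
        change (Ψ r).fst ∈ _
        rw [hΨfst, Art.mem_maximalIdeal_iff]
        exact (AlgHom.congr_fun (R.truncHom N).2 r).trans ((CRing.mem_maximalIdeal_iff R r).1 hr)) (N + 1)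
        (aeval x f) (Ideal.Quotient.eq_zero_iff_mem.1 (RingHom.mem_ker.1 hf))).2 j
      rw [hm, Ideal.mem_bot] at h2
      exact h2
    let V : Matrix (Fin d) (Fin d) A.carrier := fun i j => (Ψ (x i)).snd j
    have hV : IsUnit V := by
      rw [Matrix.isUnit_iff_isUnit_det]
      by_contra hu
      have h0 := (Art.mem_maximalIdeal_iff A _).1 ((IsLocalRing.mem_maximalIdeal _).2 hu)
      rw [AlgHom.map_det] at h0
      have h1 : A.res.mapMatrix V = 1 := by
        ext i j
        rw [AlgHom.mapMatrix_apply, Matrix.map_apply, Matrix.one_apply, hΨsnd, Pi.single_apply]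
        exact if_congr eq_comm rfl rfl
      rw [h1, Matrix.det_one] at h0
      exact one_ne_zero h0
    have hmul : Matrix.vecMul (fun i => truncEval R x N (pderiv i f)) V = 0 := by
      funext j
      have := congrFun (hchain f) j
      rw [hzero j, Finset.sum_apply] at this
      exact this.symm
    have hpd : ∀ i, pderiv i f ∈ idealOfVars (Fin d) k ^ (N + 1) := by
      intro i
      refine ih (RingHom.mem_ker.2 ?_)
      have := Matrix.vecMul_injective_of_isUnit hV (hmul.trans (Matrix.zero_vecMul V).symm)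
      exact congrFun this i
    rw [mem_pow_idealOfVars_iff']
    intro m hm
    by_cases hm0 : m = 0
    · subst hm0
      rw [← constantCoeff_eq, ← res_truncEval hxm (N + 1) f, RingHom.mem_ker.1 hf, map_zero]
    · obtain ⟨i, hi⟩ : ∃ i, m i ≠ 0 := by
        by_contra h
        push Not at h
        exact hm0 (Finsupp.ext h)
      have hle : Finsupp.single i 1 ≤ m := Finsupp.single_le_iff.2 (Nat.one_le_iff_ne_zero.2 hi)
      have hdeg : (m - Finsupp.single i 1).degree < N + 1 := by
        have := congrArg Finsupp.degree (tsub_add_cancel_of_le hle)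
        rw [map_add, Finsupp.degree_single] at this
        omega
      have h1 := ((mem_pow_idealOfVars_iff' (N + 1) _).1 (hpd i)) (m - Finsupp.single i 1) hdeg
      rw [coeff_pderiv, tsub_add_cancel_of_le hle, mul_eq_zero] at h1
      refine h1.resolve_right ?_
      exact Nat.cast_add_one_ne_zero _

/-- The T1-lifting criterion. -/
theorem isSmoothFunctor_of_T1 [CharZero k] [TangentStr F] (h0 : H0 F) (hbar : Hbar F) (heps : Heps F) (hfin : Hfin F)
    (hT1 : ∀ ⦃A A' A'' : Art k k⦄ (π' : A' ⟶ A) (i' : A ⟶ A') (π'' : A'' ⟶ A) (i'' : A ⟶ A'')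
        (q : A'' ⟶ A'), i' ≫ π' = 𝟙 A → i'' ≫ π'' = 𝟙 A →
        RingHom.ker π'.toAlgHom * RingHom.ker π'.toAlgHom = ⊥ →
        RingHom.ker π''.toAlgHom * RingHom.ker π''.toAlgHom = ⊥ →
        q ≫ π' = π'' → i'' ≫ q = i' → Function.Surjective q → Function.Surjective (F.map q)) :
    IsSmoothFunctor F := by
  obtain ⟨H, -, -⟩ := exists_hull Function.surjective_id h0 hbar heps hfin
  rw [isSmooth_iff_of_versal h0 H.family H.miniversal.1]
  obtain ⟨d, x, hxm, hx, hind⟩ := exists_minimal_gens H.ring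
  intro B A μ hμ φ
  obtain ⟨N₀, hN₀⟩ := exists_pow_le_ker φ
  obtain ⟨N₁, hN₁⟩ := (isArtinianRing_iff_isNilpotent_maximalIdeal B).mp B.isArtinianRing
  let N := N₀ + N₁
  obtain ⟨g, hg⟩ := exists_descHom (H.ring.truncHom N) Ideal.Quotient.mk_surjective φ (by
    refine le_trans ?_ hN₀
    exact Ideal.mk_ker.le.trans (Ideal.pow_le_pow_right (by omega)))
  obtain ⟨Q, π, hπ, hker, hres⟩ := exists_polyTrunc (k := k) d N
  have hk₁ : RingHom.ker (truncEval H.ring x N) = RingHom.ker π :=
    (le_antisymm (ker_truncEval_le H.miniversal.1 hT1 hxm hx hind N) (pow_idealOfVars_le_ker hxm N)).trans hker.symm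
  have hev := truncEval_surjective hxm hx N
  choose y hy using fun i => hμ (g (truncEval H.ring x N (MvPolynomial.X i)))
  have hy0 : ∀ i, B.res (y i) = 0 := fun i => by
    rw [← Art.res_app μ, hy, Art.res_app, res_truncEval hxm, constantCoeff_X]
  have hkill : RingHom.ker π ≤ RingHom.ker (aeval y : MvPolynomial (Fin d) k →ₐ[k] B.carrier) := by
    rw [hker]
    intro p hp
    have h1 : Ideal.map (aeval y) (idealOfVars (Fin d) k) ≤ IsLocalRing.maximalIdeal B.carrier := by
      rw [Ideal.map_span, Ideal.span_le]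
      rintro _ ⟨_, ⟨i, rfl⟩, rfl⟩
      rw [aeval_X, SetLike.mem_coe, Art.mem_maximalIdeal_iff]
      exact hy0 i
    have h2 := Ideal.mem_map_of_mem (aeval y : MvPolynomial (Fin d) k →ₐ[k] B.carrier) hp
    rw [Ideal.map_pow] at h2
    have h3 := Ideal.pow_le_pow_right (show N₁ ≤ N + 1 by omega) (Ideal.pow_right_mono h1 (N + 1) h2)
    rw [hN₁] at h3
    exact (Submodule.mem_bot _).1 h3
  have hkle : RingHom.ker (truncEval H.ring x N).toRingHom ≤
      RingHom.ker (aeval y : MvPolynomial (Fin d) k →ₐ[k] B.carrier).toRingHom := hk₁.le.trans hkill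
  let h := AlgHom.liftOfSurjective (truncEval H.ring x N) hev (aeval y) hkle
  have hh : ∀ p, h (truncEval H.ring x N p) = aeval y p :=
    AlgHom.congr_fun (AlgHom.liftOfSurjective_comp (truncEval H.ring x N) hev (aeval y) hkle)
  let h' : H.ring.trunc N ⟶ B := Art.homMk h (AlgHom.ext fun a => by
    obtain ⟨p, rfl⟩ := hev a
    change B.res (h (truncEval H.ring x N p)) = _
    rw [hh, res_aeval B y hy0, res_truncEval hxm])
  refine ⟨HomSet.map h' (H.ring.truncHom N), ?_⟩
  rw [← hg]
  refine Subtype.ext (AlgHom.ext fun r => ?_)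
  obtain ⟨p, hp⟩ := hev ((H.ring.truncHom N).1 r)
  change μ (h ((H.ring.truncHom N).1 r)) = g ((H.ring.truncHom N).1 r)
  rw [← hp, hh]
  refine AlgHom.congr_fun (φ₁ := μ.toAlgHom.comp (aeval y)) (φ₂ := g.toAlgHom.comp (truncEval H.ring x N))
    (algHom_ext fun i => ?_) p
  rw [AlgHom.comp_apply, aeval_X, hy]
  rfl

end Main

end Groth.Agent.ArtHull
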