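import Groth.Agent.ArtHull.PSApps

/-!
A versal family is the pushforward of a minimal versal one along a power series extension.
-/

set_option autoImplicit false

universe u v

open CategoryTheory ArtFun

namespace Groth.Agent.ArtHull

variable {Λ : Type u} {k : Type u} [CommRing Λ] [Field k] [Algebra Λ k]

theorem res_comp_of_X {R' R : CRing Λ k} (n : ℕ) (g : R'.carrier →ₐ[Λ] R.carrier) (hg : R.res.comp g = R'.res)
    (ψ : (psRing R' n).carrier →ₐ[Λ] R.carrier) (hψC : ψ.comp (psC R' n) = g)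
    (hψX : ∀ i, R.res (ψ (psX R' n i)) = 0) : R.res.comp ψ = (psRing R' n).res := by
  refine AlgHom.ext fun p => ?_
  obtain ⟨a, ha⟩ := R'.res_surjective ((psRing R' n).res p)
  have hp : p - psC R' n a ∈ IsLocalRing.maximalIdeal (psRing R' n).carrier := by
    rw [CRing.mem_maximalIdeal_iff, map_sub, show (psRing R' n).res (psC R' n a) = R'.res a from
      AlgHom.congr_fun (res_psC R' n) a, ha, sub_self]
  rw [maximalIdeal_psRing] at hp
  have h2 : ψ (p - psC R' n a) ∈ IsLocalRing.maximalIdeal R.carrier := by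
    refine Ideal.mem_comap.1 ((sup_le (Ideal.map_le_iff_le_comap.2 fun r hr => ?_) (Ideal.span_le.2 ?_) :
      (IsLocalRing.maximalIdeal R'.carrier).map (psC R' n) ⊔ Ideal.span (Set.range (psX R' n)) ≤
        (IsLocalRing.maximalIdeal R.carrier).comap ψ) hp)
    · rw [Ideal.mem_comap, Ideal.mem_comap, show ψ (psC R' n r) = g r from AlgHom.congr_fun hψC r]
      exact hom_map_maximalIdeal g hg hr
    · rintro - ⟨i, rfl⟩
      exact (CRing.mem_maximalIdeal_iff R _).2 (hψX i)
  rw [CRing.mem_maximalIdeal_iff, map_sub, map_sub, sub_eq_zero] at h2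
  refine h2.trans ?_
  rw [← ha, show ψ (psC R' n a) = g a from AlgHom.congr_fun hψC a]
  exact AlgHom.congr_fun hg a

theorem ker_le_maximalIdeal_of_res {R' R : CRing Λ k} (ρ : R.carrier →ₐ[Λ] R'.carrier)
    (hρ : R'.res.comp ρ = R.res) : RingHom.ker ρ ≤ IsLocalRing.maximalIdeal R.carrier := fun y hy => by
  rw [CRing.mem_maximalIdeal_iff, ← AlgHom.congr_fun hρ y]
  exact (congrArg R'.res (RingHom.mem_ker.1 hy)).trans (map_zero _)

theorem maximalIdeal_le_of_retract {R' R : CRing Λ k} (g : R'.carrier →ₐ[Λ] R.carrier)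
    (hg : R.res.comp g = R'.res) (ρ : R.carrier →ₐ[Λ] R'.carrier) (hρg : ∀ a, ρ (g a) = a) :
    IsLocalRing.maximalIdeal R.carrier ≤ (IsLocalRing.maximalIdeal R'.carrier).map g ⊔ RingHom.ker ρ := by
  intro y hy
  have hker : y - g (ρ y) ∈ RingHom.ker ρ := by rw [RingHom.mem_ker, map_sub, hρg, sub_self]
  rw [← add_sub_cancel (g (ρ y)) y]
  refine add_mem (Submodule.mem_sup_left (Ideal.mem_map_of_mem g ?_)) (Submodule.mem_sup_right hker)
  rw [IsLocalRing.mem_maximalIdeal] at hy ⊢
  exact fun hu => hy (by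
    by_contra hyu
    have h1 : y - g (ρ y) ∈ IsLocalRing.maximalIdeal R.carrier := by
      rw [IsLocalRing.mem_maximalIdeal]
      exact fun h => not_isUnit_zero ((RingHom.mem_ker.1 hker) ▸ h.map ρ)
    have h2 := sub_mem ((IsLocalRing.mem_maximalIdeal y).2 hyu) h1
    rw [sub_sub_cancel, IsLocalRing.mem_maximalIdeal] at h2
    exact h2 (hu.map g))

theorem surjective_of_retract {R' R : CRing Λ k} {n : ℕ} (g : R'.carrier →ₐ[Λ] R.carrier)
    (hg : R.res.comp g = R'.res) (ρ : R.carrier →ₐ[Λ] R'.carrier) (hρg : ∀ a, ρ (g a) = a)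
    (x : Fin n → R.carrier) (hx : ∀ i, ρ (x i) = 0)
    (hspan : RingHom.ker ρ ≤ Ideal.span (Set.range x) ⊔ IsLocalRing.maximalIdeal R.carrier * RingHom.ker ρ)
    (ψ : (psRing R' n).carrier →ₐ[Λ] R.carrier) (hψ : R.res.comp ψ = (psRing R' n).res)
    (hψC : ψ.comp (psC R' n) = g) (hψX : ∀ i, ψ (psX R' n i) = x i) : Function.Surjective ψ := by
  refine surjective_of_cotangent _ R ψ hψ ((maximalIdeal_le_of_retract g hg ρ hρg).trans (sup_le ?_ ?_))
  · refine le_trans ?_ le_sup_left
    rw [← hψC]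
    refine Ideal.map_le_iff_le_comap.2 fun a ha => ?_
    exact Ideal.mem_map_of_mem ψ ((CRing.mem_maximalIdeal_iff _ _).2
      ((AlgHom.congr_fun (res_psC R' n) a).trans ((CRing.mem_maximalIdeal_iff R' a).1 ha)))
  · refine hspan.trans (sup_le_sup (Ideal.span_le.2 ?_) ?_)
    · rintro - ⟨i, rfl⟩
      rw [← hψX i]
      exact Ideal.mem_map_of_mem ψ ((CRing.mem_maximalIdeal_iff _ _).2 (res_psX R' n i))
    · rw [pow_two]
      refine Ideal.mul_mono le_rfl fun y hy => ?_
      rw [IsLocalRing.mem_maximalIdeal]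
      exact fun h => not_isUnit_zero ((RingHom.mem_ker.1 hy) ▸ h.map ρ)

theorem bijective_of_left_inverses (R' R : CRing Λ k) [Algebra R'.carrier R.carrier]
    [IsScalarTower Λ R'.carrier R.carrier]
    (hc : R.res.comp (IsScalarTower.toAlgHom Λ R'.carrier R.carrier) = R'.res)
    (ρ : R.carrier →ₐ[R'.carrier] R'.carrier)
    (r : ℕ) (x : Fin r → R.carrier) (hxI : ∀ i, ρ (x i) = 0)
    (hspan : Ideal.span (Set.range x) ⊔ IsLocalRing.maximalIdeal R.carrier * RingHom.ker ρ = RingHom.ker ρ)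
    (φ : MvPowerSeries (Fin r) R'.carrier →ₐ[R'.carrier] R.carrier) (hφ : ∀ i, φ (MvPowerSeries.X i) = x i)
    (hinv : ∃ N : ℕ, ∀ n, N ≤ n →
      ∃ g : R.carrier →ₐ[Λ] (MvPowerSeries (Fin r) R'.carrier ⧸
          IsLocalRing.maximalIdeal (MvPowerSeries (Fin r) R'.carrier) ^ n),
        ∀ s, g (φ s) = Ideal.Quotient.mk _ s) :
    Function.Bijective φ := by
  let P := psRing R' r
  let ψ : P.carrier →ₐ[Λ] R.carrier := φ.restrictScalars Λ
  have hψC : ψ.comp (psC R' r) = IsScalarTower.toAlgHom Λ R'.carrier R.carrier := AlgHom.ext φ.commutes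
  have hx0 : ∀ i, R.res (x i) = 0 := fun i => by
    rw [← CRing.mem_maximalIdeal_iff, IsLocalRing.mem_maximalIdeal]
    exact fun h => not_isUnit_zero (hxI i ▸ h.map ρ)
  have hψ : R.res.comp ψ = P.res := res_comp_of_X r _ hc ψ hψC fun i => (congrArg R.res (hφ i)).trans (hx0 i)
  refine ⟨?_, surjective_of_retract (R' := R') (R := R) (n := r) _ hc (ρ.restrictScalars Λ)
    (fun a => ρ.commutes a) x hxI hspan.ge ψ hψ hψC hφ⟩
  rw [injective_iff_map_eq_zero]
  intro s hs
  obtain ⟨N, hN⟩ := hinv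
  refine P.isAdicComplete.toIsHausdorff.haus _ fun m => ?_
  obtain ⟨g, hg⟩ := hN (max N m) (le_max_left _ _)
  have h1 := hg s
  rw [hs, map_zero] at h1
  rw [SModEq.zero, smul_eq_mul, Ideal.mul_top]
  exact Ideal.pow_le_pow_right (le_max_right N m) (Ideal.Quotient.eq_zero_iff_mem.1 h1.symm)

variable [IsNoetherianRing Λ] [Module.Finite Λ k]

set_option maxHeartbeats 800000 in
theorem exists_split {F : Art Λ k ⥤ Type v} (h0 : H0 F) (V : VersalPair F) :
    ∃ (R' : CRing Λ k) (ξ' : Family R'.carrier R'.res F), ξ'.IsMinimalVersal ∧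
      ∃ (g : R'.carrier →ₐ[Λ] V.ring.carrier) (hg : V.ring.res.comp g = R'.res)
        (n : ℕ) (e : V.ring.carrier ≃ₐ[Λ] MvPowerSeries (Fin n) R'.carrier),
        (∀ a : R'.carrier, e (g a) = algebraMap R'.carrier (MvPowerSeries (Fin n) R'.carrier) a) ∧
        (ξ'.along g hg).toFormalElt = V.family.toFormalElt := by
  classical
  obtain ⟨R, ξ, hξ⟩ := V
  obtain ⟨⟨R', ξ', hξ'⟩, hmin⟩ := exists_minimalVersal h0 ⟨⟨R, ξ, hξ⟩⟩
  obtain ⟨g, hg, hgξ⟩ := exists_along_of_h0 hξ' h0 ξ
  obtain ⟨h, hh, hhξ⟩ := exists_along_of_h0 hξ h0 ξ'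
  have hhg : R'.res.comp (h.comp g) = R'.res := by rw [← AlgHom.comp_assoc, hh, hg]
  have hfix : ξ'.along (h.comp g) hhg = ξ' := by
    conv_rhs => rw [← hhξ, ← hgξ]
    rfl
  have hs : Function.Surjective (h.comp g) :=
    hmin.2 R' ξ'.toFormalElt _ hhg (by rw [push_eq_along, hfix])
  let τ := AlgEquiv.ofBijective (h.comp g) ⟨injective_of_surjective_endo (h.comp g).toRingHom hs, hs⟩
  let ρ : R.carrier →ₐ[Λ] R'.carrier := τ.symm.toAlgHom.comp h
  have hρg : ∀ a, ρ (g a) = a := fun a => τ.symm_apply_apply a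
  have hρ : R'.res.comp ρ = R.res := AlgHom.ext fun y => by
    refine Eq.trans ?_ (AlgHom.congr_fun hh y)
    have := AlgHom.congr_fun hhg (τ.symm (h y))
    exact this.symm.trans (congrArg R'.res (τ.apply_symm_apply (h y)))
  let I : Ideal R.carrier := RingHom.ker ρ
  obtain ⟨t, ht, htspan⟩ := (IsNoetherian.noetherian I).exists_span_finset_card_eq_spanFinrank
  let n := t.card
  let x : Fin n → R.carrier := fun i => (t.equivFin.symm i : R.carrier)
  have hxr : Set.range x = (t : Set R.carrier) := by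
    refine Set.Subset.antisymm (Set.range_subset_iff.2 fun i => (t.equivFin.symm i).2) fun y hy => ⟨t.equivFin ⟨y, hy⟩, ?_⟩
    change ((t.equivFin.symm (t.equivFin ⟨y, hy⟩)) : R.carrier) = y
    rw [Equiv.symm_apply_apply]
  have hspan : Ideal.span (Set.range x) = I := by rw [hxr]; exact htspan
  have hxI : ∀ i, ρ (x i) = 0 := fun i => RingHom.mem_ker.1 (hspan.le (Ideal.subset_span ⟨i, rfl⟩))
  have hx0 : ∀ i, R.res (x i) = 0 := fun i =>
    (CRing.mem_maximalIdeal_iff R _).1 (ker_le_maximalIdeal_of_res ρ hρ (RingHom.mem_ker.2 (hxI i)))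
  obtain ⟨ψ, ⟨hψ, hψC, hψX⟩, -⟩ := ps_eval R' R n g hg x hx0
  have hψs := surjective_of_retract g hg ρ hρg x hxI (hspan.ge.trans le_sup_left) ψ hψ hψC hψX
  let P := psRing R' n
  let mR := IsLocalRing.maximalIdeal R.carrier
  let mP := IsLocalRing.maximalIdeal P.carrier
  have hindep : ∀ c : Fin n → R.carrier, (∑ i, c i * x i) ∈ mR * I → ∀ i, c i ∈ mR := by
    intro c hc i₀
    by_contra hu
    obtain ⟨d, hd⟩ := (IsLocalRing.notMem_maximalIdeal.1 hu).exists_left_inv
    let T : Finset R.carrier := (Finset.univ.erase i₀).image x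
    have hT : (T : Set R.carrier) ⊆ I := fun y hy => by
      obtain ⟨i, -, rfl⟩ := Finset.mem_image.1 (Finset.mem_coe.1 hy)
      exact hspan.le (Ideal.subset_span ⟨i, rfl⟩)
    have hTs : I ≤ Ideal.span (T : Set R.carrier) := by
      refine Submodule.le_of_le_smul_of_le_jacobson_bot (I := mR) (IsNoetherian.noetherian _)
        (IsLocalRing.maximalIdeal_le_jacobson ⊥) ?_
      conv_lhs => rw [← hspan]
      refine Ideal.span_le.2 ?_
      rintro - ⟨i, rfl⟩
      by_cases hi : i = i₀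
      · subst hi
        have h1 : c i * x i ∈ Ideal.span (T : Set R.carrier) ⊔ mR • I := by
          rw [← Finset.add_sum_erase _ _ (Finset.mem_univ i)] at hc
          rw [show c i * x i = (c i * x i + ∑ j ∈ Finset.univ.erase i, c j * x j) +
            (-∑ j ∈ Finset.univ.erase i, c j * x j) by rw [add_neg_cancel_right]]
          refine add_mem (Submodule.mem_sup_right hc) (Submodule.mem_sup_left (neg_mem (sum_mem fun j hj => ?_)))
          exact Ideal.mul_mem_left _ _ (Ideal.subset_span (Finset.mem_coe.2 (Finset.mem_image_of_mem x hj)))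
        have h2 := Ideal.mul_mem_left _ d h1
        rw [← mul_assoc, hd, one_mul] at h2
        exact h2
      · exact Submodule.mem_sup_left (Ideal.subset_span (Finset.mem_coe.2
          (Finset.mem_image_of_mem x (Finset.mem_erase.2 ⟨hi, Finset.mem_univ i⟩))))
    have heq : Ideal.span (T : Set R.carrier) = I := le_antisymm (Ideal.span_le.2 hT) hTs
    have h3 : I.spanFinrank ≤ T.card := by
      rw [← heq]
      refine (Submodule.spanFinrank_span_le_ncard_of_finite (Finset.finite_toSet _)).trans ?_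
      rw [Set.ncard_coe_finset]
    have h4 : T.card < n := Finset.card_image_le.trans_lt (by
      rw [Finset.card_erase_of_mem (Finset.mem_univ _), Finset.card_univ, Fintype.card_fin]
      exact Nat.sub_lt (Fin.pos i₀) Nat.one_pos)
    have h5 : n = I.spanFinrank := ht
    omega
  have hinj₁ : ∀ p, ψ p ∈ mR ^ 2 → p ∈ mP ^ 2 := by
    intro p hp
    have hρψC : ∀ a, ρ (ψ (psC R' n a)) = a := fun a => by
      rw [show ψ (psC R' n a) = g a from AlgHom.congr_fun hψC a, hρg]
    have hdec : ∀ q : P.carrier, ∃ a : R'.carrier, q - psC R' n a ∈ Ideal.span (Set.range (psX R' n)) := fun q => by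
      refine ⟨MvPowerSeries.constantCoeff (R := R'.carrier) q, ?_⟩
      change _ ∈ Ideal.span (Set.range fun i => (MvPowerSeries.X i : MvPowerSeries (Fin n) R'.carrier))
      rw [← FSAdic.augIdeal_eq_span, RingHom.mem_ker]
      change MvPowerSeries.constantCoeff (HSub.hSub (α := MvPowerSeries (Fin n) R'.carrier)
        (β := MvPowerSeries (Fin n) R'.carrier) q
        (MvPowerSeries.C (MvPowerSeries.constantCoeff (q : MvPowerSeries (Fin n) R'.carrier)))) = 0
      rw [map_sub, MvPowerSeries.constantCoeff_C, sub_self]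
    obtain ⟨a, ha⟩ := hdec p
    obtain ⟨q, hq⟩ := (Submodule.mem_span_range_iff_exists_fun P.carrier).1 ha
    choose b hb using fun i => hdec (q i)
    have hX : ∀ i, psX R' n i ∈ mP := fun i => (CRing.mem_maximalIdeal_iff P _).2 (res_psX R' n i)
    have hXle : Ideal.span (Set.range (psX R' n)) ≤ mP := Ideal.span_le.2 (Set.range_subset_iff.2 hX)
    have hrest : p - psC R' n a - ∑ i, psC R' n (b i) * psX R' n i ∈ mP ^ 2 := by
      rw [← hq, ← Finset.sum_sub_distrib, pow_two]
      exact sum_mem fun i _ => by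
        rw [smul_eq_mul, ← sub_mul]
        exact Ideal.mul_mem_mul (hXle (hb i)) (hX i)
    have hsum : ρ (ψ (∑ i, psC R' n (b i) * psX R' n i)) = 0 := by
      simp only [map_sum, map_mul, hψX, hxI, mul_zero, Finset.sum_const_zero]
    have hmap2 : ∀ {C D : CRing Λ k} (f : C.carrier →ₐ[Λ] D.carrier), D.res.comp f = C.res →
        ∀ y ∈ IsLocalRing.maximalIdeal C.carrier ^ 2, f y ∈ IsLocalRing.maximalIdeal D.carrier ^ 2 := by
      intro C D f hf y hy
      refine Ideal.pow_right_mono (Ideal.map_le_iff_le_comap.2 fun z hz =>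
        Ideal.mem_comap.2 (hom_map_maximalIdeal f hf hz)) 2 ?_
      rw [← Ideal.map_pow]
      exact Ideal.mem_map_of_mem f hy
    have h1 : ρ (ψ p) ∈ IsLocalRing.maximalIdeal R'.carrier ^ 2 := hmap2 ρ hρ _ hp
    have h2 := hmap2 ρ hρ _ (hmap2 ψ hψ _ hrest)
    rw [map_sub, map_sub, map_sub, map_sub, hρψC, hsum, sub_zero] at h2
    have ha2 : a ∈ IsLocalRing.maximalIdeal R'.carrier ^ 2 := by
      have := sub_mem h1 h2
      rwa [sub_sub_cancel] at this
    have hga : psC R' n a ∈ mP ^ 2 := hmap2 _ (res_psC R' n) _ ha2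
    have h3 : ∑ i, g (b i) * x i ∈ mR ^ 2 := by
      have h4 := sub_mem (sub_mem hp (hmap2 ψ hψ _ hga)) (hmap2 ψ hψ _ hrest)
      rw [← map_sub, ← map_sub, sub_sub_cancel, map_sum] at h4
      simp only [map_mul, hψX] at h4
      simp only [show ∀ i, ψ (psC R' n (b i)) = g (b i) from fun i => AlgHom.congr_fun hψC (b i)] at h4
      exact h4
    have h5 : ∑ i, g (b i) * x i ∈ mR * I := by
      have hle : mR ^ 2 ≤ (IsLocalRing.maximalIdeal R'.carrier ^ 2).map g ⊔ mR * I := by
        rw [pow_two]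
        have hm : mR ≤ (IsLocalRing.maximalIdeal R'.carrier).map g ⊔ I :=
          maximalIdeal_le_of_retract g hg ρ hρg
        have hgm : (IsLocalRing.maximalIdeal R'.carrier).map g ≤ mR :=
          Ideal.map_le_iff_le_comap.2 fun z hz => Ideal.mem_comap.2 (hom_map_maximalIdeal g hg hz)
        refine (Ideal.mul_mono hm hm).trans ?_
        rw [Ideal.sup_mul, Ideal.mul_sup, Ideal.mul_sup, ← Ideal.map_mul, ← pow_two]
        refine sup_le (sup_le le_sup_left (le_sup_of_le_right (Ideal.mul_mono hgm le_rfl)))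
          (sup_le (le_sup_of_le_right ?_) (le_sup_of_le_right (Ideal.mul_mono (ker_le_maximalIdeal_of_res ρ hρ) le_rfl)))
        rw [mul_comm]
        exact Ideal.mul_mono hgm le_rfl
      obtain ⟨u, hu, w, hw, huw⟩ := Submodule.mem_sup.1 (hle h3)
      have hgρ : ∀ z ∈ (IsLocalRing.maximalIdeal R'.carrier ^ 2).map g, ρ z = 0 → z ∈ mR * I := by
        intro z hz hz0
        have hsub : ∀ y ∈ (IsLocalRing.maximalIdeal R'.carrier ^ 2).map g, y - g (ρ y) ∈ mR * I := by
          intro y hy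
          induction hy using Submodule.span_induction with
          | mem y hy => obtain ⟨a', -, rfl⟩ := hy; rw [hρg, sub_self]; exact zero_mem _
          | zero => rw [map_zero, map_zero, sub_self]; exact zero_mem _
          | add y z _ _ hy hz => rw [map_add, map_add, add_sub_add_comm]; exact add_mem hy hz
          | smul c y hy ih =>
            rw [smul_eq_mul, map_mul, map_mul,
              show c * y - g (ρ c) * g (ρ y) = g (ρ c) * (y - g (ρ y)) + y * (c - g (ρ c)) by ring]
            refine add_mem (Ideal.mul_mem_left _ _ ih) (Ideal.mul_mem_mul ?_ ?_)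
            · have hle2 : (IsLocalRing.maximalIdeal R'.carrier ^ 2).map g ≤ mR :=
                Ideal.map_le_iff_le_comap.2 fun z hz =>
                  Ideal.mem_comap.2 (hom_map_maximalIdeal g hg (Ideal.pow_le_self two_ne_zero hz))
              exact hle2 hy
            · rw [RingHom.mem_ker, map_sub, hρg, sub_self]
        have := hsub z hz
        rwa [hz0, map_zero, sub_zero] at this
      have hρu : ρ u = 0 := by
        have h6 : ρ (u + w) = 0 := by
          rw [huw]
          simp only [map_sum, map_mul, hxI, mul_zero, Finset.sum_const_zero]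
        rwa [map_add, show ρ w = 0 from RingHom.mem_ker.1 ((Ideal.mul_le.2 fun c _ d hd => Ideal.mul_mem_left _ c hd : mR * RingHom.ker ρ ≤ RingHom.ker ρ) hw), add_zero] at h6
      rw [← huw]
      exact add_mem (hgρ u hu hρu) hw
    have hb' : ∀ i, psC R' n (b i) ∈ mP := fun i => (CRing.mem_maximalIdeal_iff P _).2 (by
      refine (AlgHom.congr_fun (res_psC R' n) (b i)).trans ?_
      rw [← AlgHom.congr_fun hg (b i)]
      exact (CRing.mem_maximalIdeal_iff R _).1 (hindep _ h5 i))
    rw [show p = (p - psC R' n a - ∑ i, psC R' n (b i) * psX R' n i) + psC R' n a +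
      ∑ i, psC R' n (b i) * psX R' n i by abel]
    refine add_mem (add_mem hrest hga) (sum_mem fun i _ => ?_)
    rw [pow_two]
    exact Ideal.mul_mem_mul (hb' i) (hX i)
  let ψ₁ := CRing.truncMapOfHom ψ hψ 1
  have hψ₁ : Function.Bijective ψ₁ := by
    refine ⟨(injective_iff_map_eq_zero ψ₁.toAlgHom).2 fun y hy => ?_, fun y => ?_⟩
    · obtain ⟨p, rfl⟩ := Ideal.Quotient.mk_surjective y
      exact Ideal.Quotient.eq_zero_iff_mem.2 (hinj₁ p (Ideal.Quotient.eq_zero_iff_mem.1 hy))
    · obtain ⟨z, rfl⟩ := Ideal.Quotient.mk_surjective y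
      obtain ⟨p, rfl⟩ := hψs z
      exact ⟨Ideal.Quotient.mk _ p, rfl⟩
  obtain ⟨θ, hθ₁, -⟩ := exists_inv_of_bijective ψ₁ hψ₁
  have hθψ : ∀ p, θ ((R.truncHom 1).1 (ψ p)) = (P.truncHom 1).1 p := fun p =>
    congrArg (fun g : P.trunc 1 ⟶ P.trunc 1 => g ((P.truncHom 1).1 p)) hθ₁
  obtain ⟨e, he, -, he₁⟩ := exists_along hξ (ξ'.along (psC R' n) (res_psC R' n)) (HomSet.map θ (R.truncHom 1))
    (by
      conv_lhs => rw [← hgξ]
      exact congrArg (ξ'.app _) (Subtype.ext (AlgHom.ext fun a =>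
        (congrArg (fun s => θ ((R.truncHom 1).1 s)) (AlgHom.congr_fun hψC a)).symm.trans (hθψ (psC R' n a)))))
  have heψ : P.res.comp (e.comp ψ) = P.res := by rw [← AlgHom.comp_assoc, he, hψ]
  have hbij : Function.Bijective (e.comp ψ) := bijective_of_cotangent P _ heψ fun y hy => by
    have h1 : (P.truncHom 1).1 (e (ψ y)) = (P.truncHom 1).1 y :=
      (AlgHom.congr_fun he₁ (ψ y)).trans (hθψ y)
    rw [← add_sub_cancel (e (ψ y)) y]
    refine add_mem (Submodule.mem_sup_left (Ideal.mem_map_of_mem (e.comp ψ) hy)) (Submodule.mem_sup_right ?_)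
    exact Ideal.Quotient.eq.1 h1.symm
  let E : P.carrier ≃ₐ[Λ] R.carrier := AlgEquiv.ofBijective ψ ⟨fun a b hab => hbij.1 (congrArg e hab), hψs⟩
  exact ⟨R', ξ', hmin, g, hg, n, E.symm, fun a => E.symm_apply_eq.2 (AlgHom.congr_fun hψC a).symm,
    by rw [hgξ]⟩

end Groth.Agent.ArtHull
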